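import Cfsg.Agent.Lib.BSW.TIK
import Cfsg.Agent.Lib.FrobMain
import Cfsg.Agent.Lib.H5Kegel
import Cfsg.Agent.Lib.H5NilpotentMaximal
import Cfsg.Agent.Lib.FT.Main

/-! Groups in which all element centralizers are TI subgroups: reduction to the Zassenhaus case. -/

namespace CfsgLib.BSW

open Subgroup Cfsg CfsgLib.Frob

variable {G : Type*} [Group G]

/-- All element centralizers are TI subgroups. -/
def AllTI (G : Type*) [Group G] : Prop :=
  ∀ x : G, IsTISubset (centralizer ({x} : Set G) : Set G)

theorem allTI_iff [Finite G] : AllTI G ↔ ∀ x y g : G, y ≠ 1 → y * x = x * y →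
    g * y * g⁻¹ * x = x * (g * y * g⁻¹) → ∀ w : G, w * x = x * w →
      g * w * g⁻¹ * x = x * (g * w * g⁻¹) := by
  constructor
  · intro h x y g h1 h2 h3 w hw
    have := (h x).mem_normalizer (mem_centralizer_singleton_iff.mpr h2) h1
      (mem_centralizer_singleton_iff.mpr h3)
    exact mem_centralizer_singleton_iff.mp
      (conj_mem_of_mem_normalizer this (mem_centralizer_singleton_iff.mpr hw))
  · intro h x g hg y hy hc
    by_contra h1
    apply hg
    refine mem_normalizer_of_conj_mem fun w hw => ?_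
    exact mem_centralizer_singleton_iff.mpr (h x y g h1 (mem_centralizer_singleton_iff.mp hy)
      (mem_centralizer_singleton_iff.mp hc) w (mem_centralizer_singleton_iff.mp hw))

theorem AllTI.of_injective [Finite G] (h : AllTI G) {H : Type*} [Group H] (f : H →* G)
    (hf : Function.Injective f) : AllTI H := by
  have := Finite.of_injective f hf
  rw [allTI_iff] at h ⊢
  intro x y g h1 h2 h3 w hw
  apply hf
  have := h (f x) (f y) (f g) (fun e => h1 (hf (by rw [e, map_one])))
    (by rw [← map_mul, h2, map_mul]) (by simpa using congrArg f h3) (f w)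
    (by rw [← map_mul, hw, map_mul])
  simpa using this

theorem AllTI.subgroup [Finite G] (h : AllTI G) (H : Subgroup G) : AllTI H :=
  h.of_injective H.subtype H.subtype_injective

/-- Groups with abelian centralizers. -/
theorem allTI_of_ca [Finite G]
    (h : ∀ x y w : G, x ≠ 1 → x * y = y * x → x * w = w * x → y * w = w * y) : AllTI G := by
  rw [allTI_iff]
  intro x y g h1 h2 h3 w hw
  by_cases hx : x = 1
  · simp [hx]
  have h4 : y * w = w * y := h x y w hx h2.symm hw.symm
  have h5 : g * y * g⁻¹ ≠ 1 := fun e => h1 (by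
    have : y = g⁻¹ * (g * y * g⁻¹) * g := by group
    rw [this, e]; group)
  refine h (g * y * g⁻¹) _ _ h5 ?_ h3
  calc g * y * g⁻¹ * (g * w * g⁻¹) = g * (y * w) * g⁻¹ := by group
    _ = _ := by rw [h4]; group

theorem AllTI.conj_commute [Finite G] (h : AllTI G) (hZ : center G ≠ ⊥) (x g w : G)
    (hw : w * x = x * w) : g * w * g⁻¹ * x = x * (g * w * g⁻¹) := by
  obtain ⟨z, hz, hz1⟩ := (bot_or_exists_ne_one _).resolve_left hZ
  have hz' := mem_center_iff.mp hz
  refine allTI_iff.mp h x z g hz1 (hz' x).symm ?_ w hw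
  have : g * z * g⁻¹ = z := by rw [hz' g]; group
  rw [this, hz' x]

theorem AllTI.isNilpotent_of_center_ne_bot [Finite G] (h : AllTI G) (hZ : center G ≠ ⊥) :
    Group.IsNilpotent G := by
  rw [← fitting_eq_top_iff, eq_top_iff]
  intro x _
  let N := normalClosure ({x} : Set G)
  have hcomm : IsMulCommutative N := by
    have h1 : N ≤ centralizer (N : Set G) := by
      have h2 : ∀ g : G, N ≤ centralizer ({g * x * g⁻¹} : Set G) := by
        intro g
        haveI : (centralizer ({g * x * g⁻¹} : Set G)).Normal :=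
          ⟨fun w hw k => mem_centralizer_singleton_iff.mpr
            (h.conj_commute hZ _ k w (mem_centralizer_singleton_iff.mp hw))⟩
        apply normalClosure_le_normal
        rintro _ rfl
        exact mem_centralizer_singleton_iff.mpr (h.conj_commute hZ _ g _ rfl).symm
      haveI : (centralizer (N : Set G)).Normal := inferInstance
      apply normalClosure_le_normal
      rintro _ rfl
      rw [SetLike.mem_coe, mem_centralizer_iff]
      intro n hn
      have := mem_centralizer_singleton_iff.mp (h2 1 hn)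
      simpa using this
    exact ⟨⟨fun a b => Subtype.ext (mem_centralizer_iff.mp (h1 b.2) a a.2)⟩⟩
  exact le_fitting_of_isMulCommutative (N := N) (subset_normalClosure rfl)

theorem AllTI.isNilpotent_centralizer [Finite G] (h : AllTI G) {x : G} (hx : x ≠ 1) :
    Group.IsNilpotent (centralizer ({x} : Set G)) := by
  apply (h.subgroup _).isNilpotent_of_center_ne_bot
  intro e
  have hxx : x ∈ centralizer ({x} : Set G) := mem_centralizer_singleton_iff.mpr rfl
  have : (⟨x, hxx⟩ : centralizer ({x} : Set G)) ∈ center (centralizer ({x} : Set G)) :=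
    mem_center_iff.mpr fun g => Subtype.ext (mem_centralizer_singleton_iff.mp g.2)
  rw [e, mem_bot] at this
  exact hx (congrArg Subtype.val this)

theorem AllTI.centTI [Finite G] (h : AllTI G) {p : ℕ} [hp : Fact p.Prime] (P : Sylow p G) {z : G}
    (hzP : z ∈ (P : Subgroup G)) (hz1 : z ≠ 1) (hP : (P : Subgroup G) ≤ centralizer {z}) :
    CentTI (centralizer ({z} : Set G)) := by
  refine ⟨fun y hy hy1 g hg => ?_, h z⟩
  have hy' := mem_centralizer_singleton_iff.mp hy
  refine mem_of_forall_primePow_mem fun w hw r k hr hk => ?_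
  have hwy : w * y = y * w := by
    obtain ⟨i, rfl⟩ := mem_zpowers_iff.mp hw
    exact (Commute.zpow_left hg i).eq
  obtain ⟨j, hj⟩ := orderOf_eq_pow_of_mem_isPGroup P.isPGroup' hzP
  by_cases hrp : r = p
  · subst hrp
    have hwN : w ∈ normalizer ((centralizer ({z} : Set G) : Subgroup G) : Set G) :=
      (h z).mem_normalizer hy hy1 (by rw [hwy]; simpa using hy)
    have hS := IsSylowIn.of_sylow P hP
    have hnil := h.isNilpotent_centralizer hz1
    have hwP : w ∈ normalizer ((P : Subgroup G) : Set G) := by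
      refine mem_normalizer_of_conj_mem fun x hx => ?_
      obtain ⟨i, hi⟩ := orderOf_eq_pow_of_mem_isPGroup P.isPGroup' hx
      refine H5.le_of_isSylowIn_of_isNilpotent hS hnil (X := zpowers (w * x * w⁻¹))
        (isPGroup_zpowers_iff.mpr ⟨i, by rw [H5.orderOf_conj', hi]⟩)
        (zpowers_le.mpr (conj_mem_of_mem_normalizer hwN (hP hx))) (mem_zpowers _)
    have h2 := (IsSylowIn.sylow_top P).eq_of_le (T := zpowers w ⊔ P)
      ((isPGroup_zpowers_iff.mpr ⟨k, hk⟩).to_sup_of_normal_right' P.isPGroup'
        (zpowers_le.mpr hwP)) le_sup_right le_top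
    exact hP (h2.le (le_sup_left (b := (P : Subgroup G)) (mem_zpowers w)))
  · have := commute_of_coprime_of_mem_isNilpotent (h.isNilpotent_centralizer hy1)
      (mem_centralizer_singleton_iff.mpr hwy) (mem_centralizer_singleton_iff.mpr hy'.symm)
      (by rw [hk, hj]; exact Nat.Coprime.pow _ _ ((Nat.coprime_primes hr hp.out).mpr hrp))
    exact mem_centralizer_singleton_iff.mpr this.eq

theorem exists_central_of_sylow [Finite G] {p : ℕ} [hp : Fact p.Prime] (P : Sylow p G)
    (hd : p ∣ Nat.card G) :
    ∃ z ∈ (P : Subgroup G), orderOf z = p ∧ (P : Subgroup G) ≤ centralizer {z} := by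
  have hne : (P : Subgroup G) ≠ ⊥ := P.ne_bot_of_dvd_card hd
  haveI : Nontrivial P := (nontrivial_iff_ne_bot _).mpr hne
  haveI := P.isPGroup'.center_nontrivial
  have hc : IsPGroup p (center P) := P.isPGroup'.to_subgroup _
  obtain ⟨n, hn0, hn⟩ := hc.nontrivial_iff_card.mp inferInstance
  obtain ⟨z, hz⟩ := exists_prime_orderOf_dvd_card' (G := center P) p
    (hn ▸ dvd_pow_self p hn0.ne')
  refine ⟨z.1.1, z.1.2, by rw [orderOf_coe, orderOf_coe, hz], fun g hg => ?_⟩
  exact mem_centralizer_singleton_iff.mpr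
    (congrArg Subtype.val (mem_center_iff.mp z.2 ⟨g, hg⟩))

/-- With a nontrivial normal `p`-subgroup and trivial centre we get a Frobenius kernel. -/
theorem AllTI.exists_isFrobeniusKernel [Finite G] (h : AllTI G) (hZ : center G = ⊥) {p : ℕ}
    (hp : p.Prime) (hO : pCore p G ≠ ⊥) : ∃ K : Subgroup G, IsFrobeniusKernel K := by
  haveI := Fact.mk hp
  obtain ⟨P⟩ : Nonempty (Sylow p G) := inferInstance
  have hd : p ∣ Nat.card G := by
    haveI : Nontrivial (pCore p G) := (nontrivial_iff_ne_bot _).mpr hO
    obtain ⟨n, hn0, hn⟩ := (pCore_isPGroup (G := G) p).nontrivial_iff_card.mp inferInstance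
    exact (hn ▸ dvd_pow_self p hn0.ne').trans (card_subgroup_dvd_card _)
  obtain ⟨z, hzP, hz, hP⟩ := exists_central_of_sylow P hd
  have hz1 : z ≠ 1 := by rintro rfl; exact hp.one_lt.ne (by simpa using hz)
  have hK := h.centTI P hzP hz1 hP
  obtain ⟨x, hx, hx1⟩ := (bot_or_exists_ne_one _).resolve_left hO
  haveI : (centralizer ({z} : Set G)).Normal := normal_of_le_normalizer_top fun g _ =>
    hK.mem_norm (hP (pCore_le_sylow P hx)) hx1
      (hP (pCore_le_sylow P ((inferInstance : (pCore p G).Normal).conj_mem x hx g)))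
  refine ⟨_, hK.isFrobeniusKernel ?_ ?_⟩
  · intro e
    have : z ∈ centralizer ({z} : Set G) := mem_centralizer_singleton_iff.mpr rfl
    rw [e, mem_bot] at this
    exact hz1 this
  · intro e
    have : z ∈ center G := mem_center_iff.mpr fun g =>
      mem_centralizer_singleton_iff.mp (by rw [e]; trivial)
    rw [hZ, mem_bot] at this
    exact hz1 this

theorem AllTI.isNilpotent_of_hasFPF [Finite G] (h : AllTI G) (hF : HasFPF G) :
    Group.IsNilpotent G := by
  by_cases hZ : center G = ⊥
  swap
  · exact h.isNilpotent_of_center_ne_bot hZ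
  rcases subsingleton_or_nontrivial G with hs | hs
  · infer_instance
  rcases Nat.even_or_odd (Nat.card G) with he | ho
  · haveI := Fact.mk Nat.prime_two
    obtain ⟨t, ht⟩ := exists_prime_orderOf_dvd_card' (G := G) 2 he.two_dvd
    have := hF.involution_mem_center (t := t) (by rw [← sq, ← ht, pow_orderOf_eq_one])
    rw [hZ, mem_bot] at this
    simp [this] at ht
  · haveI := hF.isSolvable_of_odd ho
    obtain ⟨p, hp, hO⟩ := exists_pCore_ne_bot (G := G)
    obtain ⟨K, hK⟩ := h.exists_isFrobeniusKernel hZ hp hO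
    exact absurd hK (hF.not_isFrobeniusKernel K)

theorem nonempty_mulEquiv_prod [Finite G] {A B : Subgroup G} (hc : ∀ a ∈ A, ∀ b ∈ B, Commute a b)
    (hd : A ⊓ B = ⊥) (hs : A ⊔ B = ⊤) : Nonempty (G ≃* A × B) := by
  let f : A × B →* G := A.subtype.noncommCoprod B.subtype fun a b => hc a a.2 b b.2
  have hi : Function.Injective f := by
    refine (MonoidHom.noncommCoprod_injective _ _ _).mpr
      ⟨A.subtype_injective, B.subtype_injective, ?_⟩
    rw [range_subtype, range_subtype, disjoint_iff, hd]
  have hsur : Function.Surjective f := by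
    rw [← MonoidHom.range_eq_top, eq_top_iff, ← hs, sup_le_iff]
    exact ⟨fun a ha => ⟨(⟨a, ha⟩, 1), mul_one a⟩, fun b hb => ⟨(1, ⟨b, hb⟩), one_mul b⟩⟩
  exact ⟨(MulEquiv.ofBijective f ⟨hi, hsur⟩).symm⟩

theorem AllTI.cyclic_or_quaternion [Finite G] (h : AllTI G) (hF : HasFPF G) :
    IsCyclic G ∨ ∃ m : ℕ, Odd m ∧ Nonempty (G ≃* Multiplicative (ZMod m) × QuaternionGroup 2) := by
  haveI := h.isNilpotent_of_hasFPF hF
  haveI := Fact.mk Nat.prime_two
  have hA : IsPiSubgroup {2}ᶜ (piCore {2}ᶜ G) := piCore_isPiSubgroup _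
  have hB : IsPiSubgroup {2} (piCore {2} G) := piCore_isPiSubgroup _
  have hodd : Odd (Nat.card (piCore {2}ᶜ G)) :=
    Nat.coprime_two_right.mp (coprime_iff_isPiSubgroup.mpr hA)
  have hAc : IsCyclic (piCore {2}ᶜ G) := (hF.subgroup _).isCyclic_of_isNilpotent_of_odd hodd
  obtain ⟨e⟩ := nonempty_mulEquiv_prod (A := piCore {2}ᶜ G) (B := piCore {2} G)
    (fun a ha b hb => commute_of_coprime_of_isNilpotent
      (IsPiNum.coprime_compl (isPiSubgroup_iff_orderOf.mp hB b hb)
        (isPiSubgroup_iff_orderOf.mp hA a ha)).symm)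
    (disjoint_of_isPiSubgroup disjoint_compl_left hA hB)
    (by rw [sup_comm]; exact top_le_piCore_sup_of_isNilpotent _)
  rcases hF.isCyclic_or_quaternion (isPGroup_iff_isPiSubgroup.mpr hB) with hc | ⟨-, k, hk, ⟨e'⟩⟩
  · left
    apply hF.isCyclic_of_comm
    intro a b
    apply e.injective
    rw [map_mul, map_mul]
    ext
    · exact congrArg Subtype.val (hAc.commGroup.mul_comm _ _)
    · exact congrArg Subtype.val (hc.commGroup.mul_comm _ _)
  · right
    have hT : AllTI (QuaternionGroup (2 ^ k)) :=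
      h.of_injective ((piCore {2} G).subtype.comp e'.symm.toMonoidHom)
        ((piCore {2} G).subtype_injective.comp e'.symm.injective)
    haveI : NeZero (2 ^ k) := ⟨by positivity⟩
    have hZ : center (QuaternionGroup (2 ^ k)) ≠ ⊥ := by
      have hp : IsPGroup 2 (QuaternionGroup (2 ^ k)) :=
        (isPGroup_iff_isPiSubgroup.mpr hB).of_equiv e'
      haveI := hp.center_nontrivial
      exact (nontrivial_iff_ne_bot _).mp inferInstance
    have h1 := hT.conj_commute hZ (.xa 0) (.a 1) (.xa 0) rfl
    have hinv : (QuaternionGroup.a 1 : QuaternionGroup (2 ^ k))⁻¹ = .a (-1) := rfl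
    rw [hinv] at h1
    simp only [QuaternionGroup.a_mul_xa, QuaternionGroup.xa_mul_a, QuaternionGroup.xa_mul_xa,
      QuaternionGroup.a.injEq] at h1
    have h2 : ((4 : ℕ) : ZMod (2 * 2 ^ k)) = 0 := by
      push_cast
      linear_combination h1
    rw [ZMod.natCast_eq_zero_iff] at h2
    have h3 : k = 1 := by
      have := Nat.le_of_dvd (by norm_num) h2
      by_contra hk1
      have : 2 ^ 2 ≤ 2 ^ k := Nat.pow_le_pow_right (by norm_num) (by omega)
      omega
    subst h3
    exact ⟨_, hodd, ⟨e.trans (MulEquiv.prodCongr (zmodCyclicMulEquiv hAc).symm e')⟩⟩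

/-- The reduction to the Zassenhaus case. -/
theorem AllTI.nilpotent_or_frobenius_or_zSetup [Finite G] (h : AllTI G) :
    Group.IsNilpotent G ∨ (∃ H : Subgroup G, IsFrobeniusComplement H) ∨
      ∃ (z t : G), orderOf z = 2 ∧ ZSetup (centralizer ({z} : Set G)) t := by
  by_cases hZ : center G = ⊥
  swap
  · exact Or.inl (h.isNilpotent_of_center_ne_bot hZ)
  rcases subsingleton_or_nontrivial G with hs | hs
  · exact Or.inl inferInstance
  right
  have hFK : ∀ K : Subgroup G, IsFrobeniusKernel K → ∃ H : Subgroup G, IsFrobeniusComplement H :=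
    fun K hK => let ⟨H, hH⟩ := hK.exists_isFrobeniusPair; ⟨H, hH.isFrobeniusComplement⟩
  rcases Nat.even_or_odd (Nat.card G) with he | ho
  · haveI := Fact.mk Nat.prime_two
    obtain ⟨P⟩ : Nonempty (Sylow 2 G) := inferInstance
    obtain ⟨z, hzP, hz, hP⟩ := exists_central_of_sylow P he.two_dvd
    have hz1 : z ≠ 1 := by rintro rfl; simp at hz
    have hK := h.centTI P hzP hz1 hP
    have hzz : z ∈ centralizer ({z} : Set G) := mem_centralizer_singleton_iff.mpr rfl
    have h1 : centralizer ({z} : Set G) ≠ ⊥ := by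
      intro e
      rw [e, mem_bot] at hzz
      exact hz1 hzz
    have h2 : centralizer ({z} : Set G) ≠ ⊤ := by
      intro e
      have : z ∈ center G := mem_center_iff.mpr fun g =>
        mem_centralizer_singleton_iff.mp (by rw [e]; trivial)
      rw [hZ, mem_bot] at this
      exact hz1 this
    by_cases hn : (centralizer ({z} : Set G)).Normal
    · exact Or.inl (hFK _ (hK.isFrobeniusKernel h1 h2))
    by_cases hN : normalizer ((centralizer ({z} : Set G) : Subgroup G) : Set G) ≤
      centralizer ({z} : Set G)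
    · exact Or.inl ⟨_, hK.isFrobeniusComplement hN h1 h2⟩
    obtain ⟨t, ht⟩ := hK.exists_zSetup hz hzz (fun k hk => mem_centralizer_singleton_iff.mp hk)
      hn hN
    exact Or.inr ⟨z, t, hz, ht⟩
  · haveI := FT.feit_thompson ho
    obtain ⟨p, hp, hO⟩ := exists_pCore_ne_bot (G := G)
    obtain ⟨K, hK⟩ := h.exists_isFrobeniusKernel hZ hp hO
    exact Or.inl (hFK K hK)

theorem AllTI.isSolvable_of_isFrobeniusComplement [Finite G] (h : AllTI G) {H : Subgroup G}
    (hH : IsFrobeniusComplement H) : Group.IsSolvable G := by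
  obtain ⟨K, hK⟩ := hH.exists_isFrobeniusPair
  haveI := hK.normal
  haveI := H5.isNilpotent_of_isFrobeniusPair hK
  haveI := (h.subgroup H).isNilpotent_of_hasFPF hH.hasFPF
  obtain ⟨e⟩ := hK.nonempty_mulEquiv_quotient
  exact isSolvable_of_normal_of_quotient K inferInstance
    (isSolvable_of_equiv e.symm inferInstance)

end CfsgLib.BSW
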