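import Cfsg.Agent.Lib.BSW.SelfNorm
import Cfsg.Agent.Lib.H5Ito
import Cfsg.Agent.Lib.ClassSize2
import Cfsg.Agent.Lib.H8SqClass
import Cfsg.Agent.Lib.Kazarin
import Cfsg.Agent.Lib.CoprimePGroup
import Cfsg.Agent.Lib.CharBurnside

/-! Class sizes: local lemmas for groups with three non-trivial class sizes. -/

namespace CfsgLib.BSW

open Subgroup Cfsg CfsgLib.Frob CfsgLib.PCompl
open scoped commutatorElement

variable {G : Type*} [Group G]

/-- The size of the conjugacy class. -/
noncomputable abbrev cidx (g : G) : ℕ := (centralizer ({g} : Set G)).index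

theorem mem_cent {g x : G} : g ∈ centralizer ({x} : Set G) ↔ g * x = x * g :=
  mem_centralizer_singleton_iff

theorem self_mem_cent (x : G) : x ∈ centralizer ({x} : Set G) := mem_cent.mpr rfl

theorem mem_cent_comm {g x : G} (h : g ∈ centralizer ({x} : Set G)) :
    x ∈ centralizer ({g} : Set G) := mem_cent.mpr (mem_cent.mp h).symm

theorem centralizer_zpowers' (b : G) :
    centralizer (zpowers b : Set G) = centralizer ({b} : Set G) := by
  rw [zpowers_eq_closure, centralizer_closure]

theorem cidx_ne_zero [Finite G] (g : G) : cidx g ≠ 0 := index_ne_zero_of_finite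

theorem not_dvd_cidx_of_sylow_le [Finite G] {p : ℕ} [Fact p.Prime] (P : Sylow p G) {z : G}
    (h : (P : Subgroup G) ≤ centralizer {z}) : ¬ p ∣ cidx z := fun hd =>
  P.not_dvd_index (hd.trans (index_dvd_of_le h))

theorem exists_sylow_le_of_not_dvd [Finite G] {p : ℕ} [hp : Fact p.Prime] {H : Subgroup G}
    (h : ¬ p ∣ H.index) : ∃ P : Sylow p G, (P : Subgroup G) ≤ H := by
  obtain ⟨S, hS⟩ := IsSylowIn.exists_in (p := p) H
  have : IsSylowIn p S ⊤ := ⟨le_top, hS.isPGroup, by
    rw [relIndex_top_right, ← relIndex_mul_index hS.le]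
    exact fun hd => ((Nat.Prime.dvd_mul hp.out).mp hd).elim hS.not_dvd h⟩
  obtain ⟨P, hP⟩ := IsSylowIn.top_iff.mp this
  exact ⟨P, hP ▸ hS.le⟩

theorem exists_order_not_dvd_cidx [Finite G] {p : ℕ} (hp : p.Prime) (hd : p ∣ Nat.card G) :
    ∃ z : G, orderOf z = p ∧ ¬ p ∣ cidx z := by
  haveI := Fact.mk hp
  obtain ⟨P⟩ : Nonempty (Sylow p G) := inferInstance
  obtain ⟨z, -, hz, hP⟩ := exists_central_of_sylow P hd
  exact ⟨z, hz, not_dvd_cidx_of_sylow_le P hP⟩

theorem ne_one_of_orderOf_prime {x : G} {p : ℕ} (hp : p.Prime) (h : orderOf x = p) : x ≠ 1 := by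
  rintro rfl; exact hp.one_lt.ne (by simpa using h)

theorem cent_eq_of_le [Finite G] {a b : G}
    (h : centralizer ({a} : Set G) ≤ centralizer ({b} : Set G)) (hi : cidx b = cidx a) :
    centralizer ({a} : Set G) = centralizer ({b} : Set G) :=
  H5.centralizer_eq_of_le_of_index h hi (cidx_ne_zero a)

/-- If every element is conjugate into `A` or into `B`, one of them is self-normalizing. -/
theorem normalizer_le_or_of_cover [Finite G] {A B : Subgroup G}
    (h : ∀ g : G, (∃ x : G, x * g * x⁻¹ ∈ A) ∨ ∃ x : G, x * g * x⁻¹ ∈ B) :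
    normalizer (A : Set G) ≤ A ∨ normalizer (B : Set G) ≤ B := by
  have key : ∀ A : Subgroup G, ¬ normalizer (A : Set G) ≤ A →
      2 * {x : G | ∃ g : G, ∃ t ∈ (A : Set G) \ {1}, x = g * t * g⁻¹}.ncard + 2 ≤ Nat.card G := by
    intro A hA
    have h1 := SqClass.ncard_conj_le (normalizer (A : Set G)) ((A : Set G) \ {1})
      (fun c hc t ht => ⟨conj_mem_of_mem_normalizer hc ht.1, fun e => ht.2 (by
        have e' : c * t * c⁻¹ = 1 := e
        have : t = c⁻¹ * (c * t * c⁻¹) * c := by group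
        rw [Set.mem_singleton_iff, this, e']; group)⟩)
    rw [ncard_diff_one] at h1
    have h2 := card_mul_relIndex (le_normalizer (H := A))
    have h3 : 2 ≤ A.relIndex (normalizer (A : Set G)) := by
      have h0 : A.relIndex (normalizer (A : Set G)) ≠ 0 := index_ne_zero_of_finite
      have h1' : A.relIndex (normalizer (A : Set G)) ≠ 1 := fun e => hA (relIndex_eq_one.mp e)
      omega
    have h4 := (normalizer (A : Set G)).index_mul_card
    have h5 : 0 < Nat.card A := Nat.card_pos
    have h6 : 0 < (normalizer (A : Set G)).index := Nat.pos_of_ne_zero index_ne_zero_of_finite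
    obtain ⟨a, ha⟩ : ∃ a, Nat.card A = a + 1 := ⟨_, (Nat.succ_pred_eq_of_pos h5).symm⟩
    rw [ha] at h1 h2
    rw [← h4, ← h2]
    simp only [Nat.add_sub_cancel] at h1
    nlinarith
  by_contra hc
  rw [not_or] at hc
  have hA := key A hc.1
  have hB := key B hc.2
  have hsub : (Set.univ : Set G) ⊆ {1} ∪
      ({x : G | ∃ g : G, ∃ t ∈ (A : Set G) \ {1}, x = g * t * g⁻¹} ∪
        {x : G | ∃ g : G, ∃ t ∈ (B : Set G) \ {1}, x = g * t * g⁻¹}) := by
    intro g _
    by_cases hg : g = 1
    · exact Or.inl hg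
    have hne : ∀ x : G, x * g * x⁻¹ ∉ ({1} : Set G) := fun x e => hg (by
      have e' : x * g * x⁻¹ = 1 := e
      have : g = x⁻¹ * (x * g * x⁻¹) * x := by group
      rw [this, e']; group)
    rcases h g with ⟨x, hx⟩ | ⟨x, hx⟩
    · exact Or.inr (Or.inl ⟨x⁻¹, _, ⟨hx, hne x⟩, by group⟩)
    · exact Or.inr (Or.inr ⟨x⁻¹, _, ⟨hx, hne x⟩, by group⟩)
  have h1 := (Set.ncard_le_ncard hsub).trans ((Set.ncard_union_le _ _).trans
    (Nat.add_le_add_left (Set.ncard_union_le _ _) _))
  rw [Set.ncard_univ, Set.ncard_singleton] at h1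
  omega

/-- The local hypothesis on the centralizer of an element of minimal class size. -/
structure TwoSz (X : Type*) [Group X] (m : ℕ) : Prop where
  center_ne : center X ≠ ⊥
  sz : ∀ z ∈ center X, z ≠ 1 → ∀ w : X, (orderOf z).Coprime (orderOf w) → cidx w = 1 ∨ cidx w = m
  dvd : m ∣ Nat.card X

namespace TwoSz

variable {X : Type*} [Group X] [Finite X] {m p q : ℕ}

theorem exists_central (h : TwoSz X m) {s : ℕ} (hs : s.Prime) (hd : s ∣ m) :
    ∃ z ∈ center X, orderOf z = s := by
  obtain ⟨z, hz, hz1⟩ := (bot_or_exists_ne_one _).resolve_left h.center_ne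
  obtain ⟨r, hr, -, y, hy, hyr⟩ := exists_orderOf_prime_mem_zpowers hz1
  have hyz : y ∈ center X := zpowers_le.mpr hz hy
  by_cases hrs : r = s
  · exact ⟨y, hyz, hrs ▸ hyr⟩
  obtain ⟨w, hw, hnd⟩ := exists_order_not_dvd_cidx hs (hd.trans h.dvd)
  rcases h.sz y hyz (ne_one_of_orderOf_prime hr hyr) w
    (by rw [hyr, hw]; exact (Nat.coprime_primes hr hs).mpr hrs) with h1 | h1
  · exact ⟨w, index_centralizer_eq_one_iff.mp h1, hw⟩
  · exact absurd (h1 ▸ hd) hnd

theorem sz_primePow (h : TwoSz X m) (hp : p.Prime) (hq : q.Prime) (hpq : p ≠ q) (hpm : p ∣ m)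
    (hqm : q ∣ m) {a : X} {r k : ℕ} (hr : r.Prime) (ha : orderOf a = r ^ k) :
    cidx a = 1 ∨ cidx a = m := by
  obtain ⟨s, hs, hsm, hsr⟩ : ∃ s, s.Prime ∧ s ∣ m ∧ s ≠ r := by
    by_cases e : p = r
    · exact ⟨q, hq, hqm, fun e' => hpq (e.trans e'.symm)⟩
    · exact ⟨p, hp, hpm, e⟩
  obtain ⟨z, hz, hzs⟩ := h.exists_central hs hsm
  refine h.sz z hz (ne_one_of_orderOf_prime hs hzs) a ?_
  rw [hzs, ha]
  exact Nat.Coprime.pow_right _ ((Nat.coprime_primes hs hr).mpr hsr)

theorem pair (h : TwoSz X m) {a b z : X} (ha : cidx a = m) (hb : cidx b = m) (hm : m ≠ 1)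
    (hc : Commute a b) (hab : (orderOf a).Coprime (orderOf b)) (hz : z ∈ center X) (hz1 : z ≠ 1)
    (hza : (orderOf z).Coprime (orderOf a)) (hzb : (orderOf z).Coprime (orderOf b)) :
    centralizer ({a} : Set X) = centralizer {b} := by
  have e := centralizer_mul_of_coprime hc hab
  have h1 : cidx (a * b) = m := by
    refine (h.sz z hz hz1 (a * b) ?_).resolve_left fun h1 => hm ?_
    · rw [hc.orderOf_mul_eq_mul_orderOf_of_coprime hab]
      exact Nat.Coprime.mul_right hza hzb
    · have : cidx a ∣ cidx (a * b) := index_dvd_of_le (e ▸ inf_le_left)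
      rw [h1, ha] at this
      exact Nat.dvd_one.mp this
  rw [← cent_eq_of_le (a := a * b) (b := a) (e ▸ inf_le_left) (by rw [ha, h1]),
    ← cent_eq_of_le (a := a * b) (b := b) (e ▸ inf_le_right) (by rw [hb, h1])]

theorem pair_of_third (h : TwoSz X m) (hp : p.Prime) (hq : q.Prime) (hpq : p ≠ q) (hpm : p ∣ m)
    (hqm : q ∣ m) {t : ℕ} (ht : t.Prime) (htp : t ≠ p) (htq : t ≠ q) (htX : t ∣ Nat.card X)
    {a b : X} {r s i j : ℕ} (hr : r.Prime) (hs : s.Prime) (hrs : r ≠ s) (ha : orderOf a = r ^ i)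
    (hb : orderOf b = s ^ j) (ha' : a ∉ center X) (hb' : b ∉ center X) (hc : Commute a b) :
    centralizer ({a} : Set X) = centralizer {b} := by
  have hm : m ≠ 1 := fun e => hp.one_lt.ne' (Nat.dvd_one.mp (e ▸ hpm))
  have hsz : ∀ {a : X} {r k : ℕ}, r.Prime → orderOf a = r ^ k → a ∉ center X → cidx a = m :=
    fun hr ha ha' => (h.sz_primePow hp hq hpq hpm hqm hr ha).resolve_left
      fun e => ha' (index_centralizer_eq_one_iff.mp e)
  have hcop : ∀ {r s : ℕ} (i j : ℕ), r.Prime → s.Prime → r ≠ s → (r ^ i).Coprime (s ^ j) :=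
    fun i j hr hs hrs => Nat.Coprime.pow _ _ ((Nat.coprime_primes hr hs).mpr hrs)
  have key : ∀ {a b z : X} {r s u i j : ℕ}, r.Prime → s.Prime → u.Prime → r ≠ s → u ≠ r → u ≠ s →
      orderOf a = r ^ i → orderOf b = s ^ j → a ∉ center X → b ∉ center X → Commute a b →
      z ∈ center X → orderOf z = u → centralizer ({a} : Set X) = centralizer {b} := by
    intro a b z r s u i j hr hs hu hrs hur hus ha hb ha' hb' hc hz hzu
    refine h.pair (hsz hr ha ha') (hsz hs hb hb') hm hc (by rw [ha, hb]; exact hcop _ _ hr hs hrs)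
      hz (ne_one_of_orderOf_prime hu hzu) ?_ ?_
    · rw [hzu, ha]; simpa using hcop 1 i hu hr hur
    · rw [hzu, hb]; simpa using hcop 1 j hu hs hus
  by_cases hex : ∃ (u : ℕ) (z : X), u.Prime ∧ u ≠ r ∧ u ≠ s ∧ z ∈ center X ∧ orderOf z = u
  · obtain ⟨u, z, hu, hur, hus, hz, hzu⟩ := hex
    exact key hr hs hu hrs hur hus ha hb ha' hb' hc hz hzu
  have hex' : ∀ (u : ℕ) (z : X), u.Prime → z ∈ center X → orderOf z = u → u = r ∨ u = s := by
    intro u z hu hz hzu
    by_contra hc
    rw [not_or] at hc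
    exact hex ⟨u, z, hu, hc.1, hc.2, hz, hzu⟩
  obtain ⟨zp, hzp, hzp'⟩ := h.exists_central hp hpm
  obtain ⟨zq, hzq, hzq'⟩ := h.exists_central hq hqm
  have h1 := hex' p zp hp hzp hzp'
  have h2 := hex' q zq hq hzq hzq'
  have htr : t ≠ r := by omega
  have hts : t ≠ s := by omega
  obtain ⟨zr, hzr, hzr'⟩ : ∃ z ∈ center X, orderOf z = r := by
    rcases h1 with rfl | rfl
    · exact ⟨zp, hzp, hzp'⟩
    · exact ⟨zq, hzq, by omega⟩
  obtain ⟨zs, hzs, hzs'⟩ : ∃ z ∈ center X, orderOf z = s := by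
    rcases h1 with rfl | rfl
    · exact ⟨zq, hzq, by omega⟩
    · exact ⟨zp, hzp, hzp'⟩
  have htm : ¬ t ∣ m := fun hd => by
    obtain ⟨z, hz, hz'⟩ := h.exists_central ht hd
    have := hex' t z ht hz hz'
    omega
  have htU : t ∣ Nat.card (centralizer ({a} : Set X)) := by
    rw [← (centralizer ({a} : Set X)).index_mul_card] at htX
    refine ((Nat.Prime.dvd_mul ht).mp htX).resolve_left ?_
    rw [show (centralizer ({a} : Set X)).index = m from hsz hr ha ha']
    exact htm
  obtain ⟨v, hv, hvt⟩ := exists_orderOf_prime_mem _ ht htU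
  have hv' : v ∉ center X := fun hz => by
    have := hex' t v ht hz hvt
    omega
  have e1 := key hr ht hs htr.symm hrs.symm hts.symm ha (j := 1) (by simpa using hvt) ha' hv'
    (mem_cent.mp hv).symm hzs hzs'
  have hbv : b ∈ centralizer ({v} : Set X) := e1 ▸ mem_cent.mpr hc.eq.symm
  have e2 := key hs ht hr hts.symm hrs htr.symm hb (j := 1) (by simpa using hvt) hb' hv'
    (mem_cent.mp hbv) hzr hzr'
  rw [e1, e2]

theorem comm_or_two_primes (h : TwoSz X m) (hp : p.Prime) (hq : q.Prime) (hpq : p ≠ q)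
    (hpm : p ∣ m) (hqm : q ∣ m) :
    (∀ a b : X, a * b = b * a) ∨ ∀ t : ℕ, t.Prime → t ∣ Nat.card X → t = p ∨ t = q := by
  by_contra hc
  push Not at hc
  obtain ⟨⟨a0, b0, hab⟩, t, ht, htX, htp, htq⟩ := hc
  have hm : m ≠ 1 := fun e => hp.one_lt.ne' (Nat.dvd_one.mp (e ▸ hpm))
  have key : ∀ (n : ℕ) (w : X), orderOf w = n → w ∉ center X →
      ∃ a ∈ zpowers w, ∃ r k : ℕ, r.Prime ∧ orderOf a = r ^ k ∧ a ∉ center X ∧
        centralizer ({w} : Set X) = centralizer {a} := by
    intro n
    induction n using Nat.strong_induction_on with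
    | _ n ih =>
    intro w hw hw'
    have hw1 : w ≠ 1 := fun e => hw' (e ▸ one_mem _)
    obtain ⟨r, hr, hd⟩ := Nat.exists_prime_and_dvd (fun e => hw1 (orderOf_eq_one_iff.mp e))
    obtain ⟨u, hu, v, hv, e, hc, ⟨k, hk⟩, hvr⟩ := exists_p_part hr w
    have huv : (orderOf u).Coprime (orderOf v) := by rw [hk]; exact Nat.Coprime.pow_left _ hvr.symm
    have ho : orderOf w = orderOf u * orderOf v := by
      rw [e]; exact hc.orderOf_mul_eq_mul_orderOf_of_coprime huv
    by_cases hvz : v ∈ center X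
    · refine ⟨u, hu, r, k, hr, hk, fun huz => hw' (e ▸ mul_mem huz hvz), ?_⟩
      rw [e, centralizer_mul_of_coprime hc huv, centralizer_singleton_eq_top_iff.mpr hvz,
        inf_top_eq]
    have hlt : orderOf v < n := by
      rw [← hw, ho]
      have h0 := orderOf_pos v
      have h1 : orderOf u ≠ 1 := fun e1 => by
        rw [ho, e1, one_mul] at hd
        exact hr.one_lt.ne' (Nat.Coprime.eq_one_of_dvd hvr.symm hd)
      have h2 := orderOf_pos u
      nlinarith [show 2 ≤ orderOf u by omega]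
    obtain ⟨b, hb, s, j, hs, hj, hb', eb⟩ := ih _ hlt v rfl hvz
    have hbw : b ∈ zpowers w := zpowers_le.mpr hv hb
    by_cases huz : u ∈ center X
    · refine ⟨b, hbw, s, j, hs, hj, hb', ?_⟩
      rw [e, centralizer_mul_of_coprime hc huv, centralizer_singleton_eq_top_iff.mpr huz,
        top_inf_eq, eb]
    · refine ⟨u, hu, r, k, hr, hk, huz, ?_⟩
      have hrs : r ≠ s := by
        rintro rfl
        have h1 := orderOf_dvd_of_mem_zpowers hb
        have hj0 : j ≠ 0 := by
          rintro rfl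
          rw [pow_zero, orderOf_eq_one_iff] at hj
          exact hb' (hj ▸ one_mem _)
        rw [hj] at h1
        exact hr.one_lt.ne' (Nat.Coprime.eq_one_of_dvd hvr.symm ((dvd_pow_self r hj0).trans h1))
      have := h.pair_of_third hp hq hpq hpm hqm ht htp htq htX hr hs hrs hk hj huz hb'
        (commute_of_mem_zpowers hu hbw)
      rw [e, centralizer_mul_of_coprime hc huv, eb, ← this, inf_idem]
  have hall : ∀ w : X, cidx w = 1 ∨ cidx w = m := by
    intro w
    by_cases hw : w ∈ center X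
    · exact Or.inl (index_centralizer_eq_one_iff.mpr hw)
    · obtain ⟨a, -, r, k, hr, ha, -, e⟩ := key _ w rfl hw
      rw [cidx, e]
      exact h.sz_primePow hp hq hpq hpm hqm hr ha
  have hm0 : m ≠ 0 := fun e => Nat.card_pos.ne' (Nat.eq_zero_of_zero_dvd (e ▸ h.dvd))
  obtain ⟨s, hs, hP⟩ := H5.isPGroup_quotient_center_of_two_class_sizes (n := m) (by omega) hall
  haveI := Fact.mk hs
  obtain ⟨k, hk⟩ := hP.exists_card_eq
  have h1 : cidx a0 = m := (hall a0).resolve_left fun e =>
    hab (mem_center_iff.mp (index_centralizer_eq_one_iff.mp e) b0).symm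
  have h2 : m ∣ s ^ k := by
    rw [← hk, ← h1]
    exact index_dvd_of_le (center_le_centralizer _)
  exact hpq (((Nat.prime_dvd_prime_iff_eq hp hs).mp (hp.dvd_of_dvd_pow (hpm.trans h2))).trans
    ((Nat.prime_dvd_prime_iff_eq hq hs).mp (hq.dvd_of_dvd_pow (hqm.trans h2))).symm)

theorem isSolvable (h : TwoSz X m) (hp : p.Prime) (hq : q.Prime) (hpq : p ≠ q)
    (hpm : p ∣ m) (hqm : q ∣ m) : Group.IsSolvable X := by
  rcases h.comm_or_two_primes hp hq hpq hpm hqm with h1 | h1
  · haveI : IsMulCommutative X := ⟨⟨h1⟩⟩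
    exact isSolvable_of_isMulCommutative
  · exact isSolvable_of_two_primes hp hq h1

end TwoSz

/-- If `p`-central `p`-elements are central, a `p'`-subgroup normal modulo the centralizer of a
normal abelian `p`-subgroup centralizes it. -/
theorem le_centralizer_of_pcentral [Finite G] {p : ℕ} [hp : Fact p.Prime]
    (h : ∀ (v : G) (k : ℕ), orderOf v = p ^ k → ¬ p ∣ cidx v → v ∈ center G)
    {W A S : Subgroup G} [W.Normal] [A.Normal] (hW : IsPGroup p W) (hc : IsMulCommutative W)
    (hS : (Nat.card S).Coprime p) (hSA : S ≤ A) (hA : A ≤ centralizer (W : Set G) ⊔ S) :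
    S ≤ centralizer (W : Set G) := by
  have h1 : ⁅W, A⁆ ≤ ⁅W, S⁆ := by
    refine (commutator_mono le_rfl hA).trans ?_
    rw [commutator_le]
    intro w hw g hg
    obtain ⟨c, hc', s, hs, rfl⟩ := mem_sup_of_normal_left.mp hg
    have e1 := mem_centralizer_iff.mp hc' w hw
    have e2 := mem_centralizer_iff.mp hc' _ ((inferInstance : W.Normal).conj_mem _ (inv_mem hw) s)
    have : ⁅w, c * s⁆ = ⁅w, s⁆ := by
      rw [commutatorElement_def, commutatorElement_def]
      calc w * (c * s) * w⁻¹ * (c * s)⁻¹ = w * (c * (s * w⁻¹ * s⁻¹)) * c⁻¹ := by group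
        _ = _ := by rw [← e2]; group
    rw [this]
    exact commutator_mem_commutator hw hs
  have h2 := Cop.commutator_inf_centralizer_eq_bot (A := S) (G := W)
    (by rw [normalizer_eq_top]; exact le_top) (Cop.coprime_card_of_isPGroup hS hW) hc
  rw [← Cop.commutator_eq_bot_iff_le_centralizer']
  by_contra hne
  have hne' : ⁅W, A⁆ ≠ ⊥ := fun e => hne (le_bot_iff.mp (e ▸ commutator_mono le_rfl hSA))
  obtain ⟨P⟩ : Nonempty (Sylow p G) := inferInstance
  have hle : ⁅W, A⁆ ≤ (P : Subgroup G) :=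
    (commutator_le_left W A).trans ((le_pCore hW).trans (pCore_le_sylow P))
  obtain ⟨v, hv, hv1⟩ := (bot_or_exists_ne_one _).resolve_left
    (inf_centralizer_ne_bot_of_isNilpotent P.isPGroup'.isNilpotent hle
      (by rw [normalizer_eq_top]; exact le_top) hne')
  obtain ⟨k, hk⟩ := orderOf_eq_pow_of_mem_isPGroup P.isPGroup' (hle hv.1)
  have hz := h v k hk (not_dvd_cidx_of_sylow_le P fun g hg =>
    mem_cent.mpr (mem_centralizer_iff.mp hv.2 g hg))
  have : v ∈ ⁅W, S⁆ ⊓ centralizer (S : Set G) := ⟨h1 hv.1, center_le_centralizer _ hz⟩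
  rw [h2, mem_bot] at this
  exact hv1 this

theorem isMulCommutative_normalClosure_of_mem [Finite G] {F : Subgroup G} [F.Normal] {a : G}
    (ha : a ∈ F) (hc : a ∈ centralizer (F : Set G)) :
    IsMulCommutative (normalClosure ({a} : Set G)) := by
  have h1 : normalClosure ({a} : Set G) ≤ F ⊓ centralizer (F : Set G) :=
    normalClosure_le_normal (by rintro _ rfl; exact ⟨ha, hc⟩)
  exact isMulCommutative_iff'.mpr fun x hx y hy => mem_centralizer_iff.mp (h1 hy).2 x (h1 hx).1

theorem mem_centralizer_normalClosure {a g : G} :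
    g ∈ centralizer (normalClosure ({a} : Set G) : Set G) ↔
      ∀ x : G, x⁻¹ * g * x ∈ centralizer ({a} : Set G) := by
  constructor
  · intro h x
    have h1 : x * a * x⁻¹ ∈ normalClosure ({a} : Set G) :=
      (inferInstance : (normalClosure ({a} : Set G)).Normal).conj_mem _
        (subset_normalClosure rfl) x
    have := mem_centralizer_iff.mp h _ h1
    rw [mem_cent]
    calc x⁻¹ * g * x * a = x⁻¹ * (g * (x * a * x⁻¹)) * x := by group
      _ = _ := by rw [← this]; group
  · intro h
    have : normalClosure ({a} : Set G) ≤ centralizer {g} := by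
      rw [normalClosure, closure_le]
      intro y hy
      obtain ⟨b, hb', hb⟩ := Group.mem_conjugatesOfSet_iff.mp hy
      rw [Set.mem_singleton_iff.mp hb'] at hb
      obtain ⟨x, rfl⟩ := isConj_iff.mp hb
      have := mem_cent.mp (h x)
      rw [SetLike.mem_coe, mem_cent]
      calc x * a * x⁻¹ * g = x * (a * (x⁻¹ * g * x)) * x⁻¹ := by group
        _ = _ := by rw [← this]; group
    exact mem_centralizer_iff.mpr fun y hy => mem_cent.mp (this hy)

/-- Two elements of different prime orders dividing `m` with the same centralizer are central. -/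
theorem TwoSz.mem_center_of_cent_eq {X : Type*} [Group X] [Finite X] {m p q : ℕ} (h : TwoSz X m)
    (hp : p.Prime) (hq : q.Prime) (hpq : p ≠ q) (hpm : p ∣ m) (hqm : q ∣ m) {a b : X}
    (ha : orderOf a = p) (hb : orderOf b = q)
    (e : centralizer ({a} : Set X) = centralizer {b}) : a ∈ center X := by
  haveI := h.isSolvable hp hq hpq hpm hqm
  by_contra hz
  have hD : cidx a = m := (h.sz_primePow hp hq hpq hpm hqm hp (k := 1) (by simpa using ha)).resolve_left
    fun e => hz (index_centralizer_eq_one_iff.mp e)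
  have hab : a * b = b * a := mem_cent.mp (e ▸ self_mem_cent a)
  have hAB : ∀ {r s : ℕ} {a b : X}, r.Prime → s.Prime → r ≠ s → orderOf a = r → orderOf b = s →
      centralizer ({a} : Set X) = centralizer {b} → pCore r X ≤ centralizer {b} := by
    intro r s a b hr hs hrs ha hb e
    haveI := Fact.mk hr
    have hab : a * b = b * a := mem_cent.mp (e ▸ self_mem_cent a)
    have := Cop.commutator_eq_bot_of_pxq (P := zpowers a) (Q := zpowers b) (G := pCore r X)
      (isPGroup_zpowers_iff.mpr ⟨1, by simpa using ha⟩) (pCore_isPGroup r)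
      (by rw [Nat.card_zpowers, hb]; exact (Nat.coprime_primes hs hr).mpr hrs.symm)
      (by rw [normalizer_eq_top]; exact le_top) (by rw [normalizer_eq_top]; exact le_top)
      (by
        rw [commutator_eq_bot_iff_le_centralizer, zpowers_le, centralizer_zpowers']
        exact mem_cent.mpr hab)
      (by rw [centralizer_zpowers', centralizer_zpowers', e]; exact inf_le_right)
    rwa [commutator_eq_bot_iff_le_centralizer, centralizer_zpowers'] at this
  have h2 := (h.comm_or_two_primes hp hq hpq hpm hqm).resolve_left fun hc =>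
    hz (mem_center_iff.mpr fun g => hc g a)
  have hF : fittingSubgroup X ≤ centralizer {a} := by
    refine fitting_le_of_forall_pCore_le fun s hs => ?_
    by_cases hsp : s = p
    · subst hsp
      rw [e]; exact hAB hp hq hpq ha hb e
    by_cases hsq : s = q
    · subst hsq
      exact hAB hq hp hpq.symm hb ha e.symm
    obtain ⟨k, hk⟩ := (pCore_isPGroup (G := X) s).exists_card_eq
    rcases Nat.eq_zero_or_pos k with rfl | hk0
    · rw [pow_zero, card_eq_one] at hk
      rw [hk]; exact bot_le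
    · have := h2 s hs.out ((hk ▸ dvd_pow_self s hk0.ne').trans (card_subgroup_dvd_card _))
      omega
  have haF : a ∈ centralizer (fittingSubgroup X : Set X) :=
    mem_centralizer_iff.mpr fun g hg => mem_cent.mp (hF hg)
  have hbF : b ∈ centralizer (fittingSubgroup X : Set X) :=
    mem_centralizer_iff.mpr fun g hg => mem_cent.mp (e ▸ hF hg)
  have hE : centralizer (normalClosure ({a} : Set X) : Set X) =
      centralizer (normalClosure ({b} : Set X) : Set X) := by
    ext g
    rw [mem_centralizer_normalClosure, mem_centralizer_normalClosure, e]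
  have key : ∀ {r s : ℕ} {c : X}, r.Prime → s.Prime → s ≠ r → r ∣ m → orderOf c = r →
      c ∈ centralizer (fittingSubgroup X : Set X) → ∀ {A S : Subgroup X} [A.Normal],
      IsPGroup s S → S ≤ A → A ≤ centralizer (normalClosure ({c} : Set X) : Set X) ⊔ S →
      S ≤ centralizer (normalClosure ({c} : Set X) : Set X) := by
    intro r s c hr hs hsr hrm hc hcF A S _ hS hSA hA
    haveI := Fact.mk hr
    haveI := Fact.mk hs
    have hcF' := centralizer_fitting_le hcF
    refine le_centralizer_of_pcentral (p := r) (fun v k hk hv => ?_) ?_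
      (isMulCommutative_normalClosure_of_mem hcF' hcF) ?_ hSA hA
    · exact index_centralizer_eq_one_iff.mp
        ((h.sz_primePow hp hq hpq hpm hqm hr hk).resolve_right fun e => hv (e ▸ hrm))
    · refine (pCore_isPGroup r).to_le (normalClosure_le_normal ?_)
      rintro _ rfl
      exact le_pCore_of_le_fitting (zpowers_le.mpr hcF')
        (isPGroup_zpowers_iff.mpr ⟨1, by simpa using hc⟩) (mem_zpowers _)
    · obtain ⟨k, hk⟩ := hS.exists_card_eq
      rw [hk]
      exact Nat.Coprime.pow_left _ ((Nat.coprime_primes hs hr).mpr hsr)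
  set E := centralizer (normalClosure ({a} : Set X) : Set X) with hEdef
  have hEt : E ≠ ⊤ := fun e' => hz (mem_center_iff.mpr fun g => by
    have : g ∈ E := e' ▸ mem_top g
    exact (mem_centralizer_iff.mp this a (subset_normalClosure rfl)).symm)
  haveI : Nontrivial (X ⧸ E) := QuotientGroup.nontrivial_iff.mpr hEt
  obtain ⟨s, hs, hO⟩ := exists_pCore_ne_bot (G := X ⧸ E)
  haveI := Fact.mk hs
  set A := (pCore s (X ⧸ E)).comap (QuotientGroup.mk' E)
  obtain ⟨S, hS⟩ := IsSylowIn.exists_in (p := s) A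
  have hEA : E ≤ A := fun g hg => by
    change (g : X ⧸ E) ∈ pCore s (X ⧸ E)
    rw [(QuotientGroup.eq_one_iff g).mpr hg]; exact one_mem _
  obtain ⟨k, hk⟩ := (pCore_isPGroup (G := X ⧸ E) s).exists_card_eq
  have hA : E ⊔ S = A := by
    refine hS.sup_eq_of_relIndex_eq_pow hEA (k := k) ?_
    have h1 := card_mul_relIndex hEA
    rw [card_comap_mk', hk] at h1
    exact Nat.eq_of_mul_eq_mul_left Nat.card_pos (h1.trans (mul_comm _ _))
  have hSE : S ≤ E := by
    by_cases hsp : s = p
    · rw [hE] at hA ⊢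
      exact key hq hs (hsp ▸ hpq) hqm hb hbF hS.isPGroup hS.le hA.ge
    · exact key hp hs hsp hpm ha haF hS.isPGroup hS.le hA.ge
  apply hO
  rw [eq_bot_iff]
  intro y hy
  obtain ⟨y, rfl⟩ := QuotientGroup.mk_surjective y
  have : y ∈ E := (sup_le le_rfl hSE) (hA.ge hy)
  exact (QuotientGroup.eq_one_iff y).mpr this

end CfsgLib.BSW
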