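import Cfsg.Agent.Lib.BSW.ClsA

/-! Centreless groups with class sizes `a`, `a m`, `b` (with `a`, `b` coprime) are solvable. -/

namespace CfsgLib.BSW

open Subgroup Cfsg CfsgLib.Frob CfsgLib.PCompl
open scoped commutatorElement

variable {G : Type*} [Group G]

theorem isSolvable_of_radical_or_primePow [Finite G] {p : ℕ} (hp : p.Prime)
    (h : ∀ g : G, g ∈ solvableRadical G ∨ ∃ k, orderOf g = p ^ k) : Group.IsSolvable G := by
  haveI := Fact.mk hp
  refine isSolvable_of_normal_of_quotient (solvableRadical G) solvableRadical_isSolvable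
    (isSolvable_of_isPGroup (p := p) fun g => ?_)
  obtain ⟨g, rfl⟩ := QuotientGroup.mk_surjective g
  rcases h g with h1 | ⟨k, hk⟩
  · exact ⟨0, by rw [(QuotientGroup.eq_one_iff g).mpr h1, one_pow]⟩
  · exact ⟨k, by rw [← QuotientGroup.mk_pow, ← hk, pow_orderOf_eq_one, QuotientGroup.mk_one]⟩

theorem isSolvable_of_complement_solvable [Finite G] {H : Subgroup G}
    (hH : IsFrobeniusComplement H) (hs : Group.IsSolvable H) : Group.IsSolvable G := by
  obtain ⟨K, hK⟩ := hH.exists_isFrobeniusPair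
  haveI := hK.normal
  haveI := H5.isNilpotent_of_isFrobeniusPair hK
  obtain ⟨e⟩ := hK.nonempty_mulEquiv_quotient
  exact isSolvable_of_normal_of_quotient K inferInstance (isSolvable_of_equiv e.symm hs)

theorem exists_normal_of_forall_hnpc [Finite G] (σ : Finset ℕ)
    (h : ∀ q ∈ σ, q.Prime ∧ HasNormalPComplement q G) :
    ∃ L : Subgroup G, L.Normal ∧ (∀ q ∈ σ, ¬ q ∣ Nat.card L) ∧
      (Group.IsSolvable L → Group.IsSolvable G) := by
  classical
  induction σ using Finset.induction_on with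
  | empty => exact ⟨⊤, inferInstance, by simp, isSolvable_top_iff.mp⟩
  | insert q σ _ ih =>
    obtain ⟨L, hL, h1, h2⟩ := ih fun r hr => h r (Finset.mem_insert_of_mem hr)
    obtain ⟨hq, hn⟩ := h q (Finset.mem_insert_self _ _)
    haveI := Fact.mk hq
    obtain ⟨N, hN, hc, k, hk⟩ := hnpc_exists_normal hn
    refine ⟨L ⊓ N, inferInstance, fun r hr hd => ?_, fun hs => h2 ?_⟩
    · rcases Finset.mem_insert.mp hr with rfl | hr
      · exact hq.one_lt.ne' (Nat.Coprime.eq_one_of_dvd hc.symm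
          (hd.trans (card_dvd_of_le inf_le_right)))
      · exact h1 r hr (hd.trans (card_dvd_of_le inf_le_left))
    · refine isSolvable_of_normal_of_quotient (N.subgroupOf L) ?_ ?_
      · rw [← inf_subgroupOf_left]
        exact isSolvable_subgroupOf hs L
      · refine isSolvable_of_isPGroup (p := q) ?_
        have h3 : Nat.card (L ⧸ N.subgroupOf L) ∣ q ^ k := hk ▸ relIndex_dvd_index_of_normal N L
        obtain ⟨j, -, hj⟩ := (Nat.dvd_prime_pow hq).mp h3
        exact IsPGroup.of_card hj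

theorem exists_conj_mem_centralizer_sylow [Finite G] {q : ℕ} [Fact q.Prime] (Q : Sylow q G) {w : G}
    (h : ¬ q ∣ cidx w) : ∃ x : G, x * w * x⁻¹ ∈ centralizer ((Q : Subgroup G) : Set G) := by
  obtain ⟨P, hP⟩ := exists_sylow_le_of_not_dvd h
  obtain ⟨x, -, hx⟩ := (IsSylowIn.sylow_top Q).exists_conj_eq (IsSylowIn.sylow_top P)
  refine ⟨x, mem_centralizer_iff.mpr fun g hg => ?_⟩
  have hg' : g ∈ (Q : Subgroup G) := hg
  rw [← hx, mem_map_conj_iff] at hg'
  have := mem_cent.mp (hP hg')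
  calc g * (x * w * x⁻¹) = x * (x⁻¹ * g * x * w) * x⁻¹ := by group
    _ = _ := by rw [this]; group

theorem exists_dvd_cidx [Finite G] (hZ : center G = ⊥) {r : ℕ} (hr : r.Prime)
    (hd : r ∣ Nat.card G) : ∃ g : G, r ∣ cidx g := by
  by_contra hc
  push Not at hc
  haveI := Fact.mk hr
  obtain ⟨Q⟩ : Nonempty (Sylow r G) := inferInstance
  have := SqClass.eq_top_of_forall_exists_conj_mem
    fun w => exists_conj_mem_centralizer_sylow Q (hc w)
  apply Q.ne_bot_of_dvd_card hd
  rw [eq_bot_iff, ← hZ]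
  intro x hx
  exact mem_center_iff.mpr fun g =>
    (mem_centralizer_iff.mp (this ▸ mem_top g : g ∈ centralizer ((Q : Subgroup G) : Set G))
      x hx).symm

theorem comm_or_isPGroup [Finite G] {y : G} {p : ℕ} (hp : p.Prime) (hy : orderOf y = p)
    (hmin : ∀ g : G, centralizer ({g} : Set G) ≤ centralizer {y} → y ∈ centralizer ({g} : Set G) →
      centralizer ({g} : Set G) = centralizer {y})
    (hmax : ∀ g : G, g ≠ 1 → centralizer ({y} : Set G) ≤ centralizer {g} →
      centralizer ({g} : Set G) = centralizer {y}) :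
    IsMulCommutative (centralizer ({y} : Set G)) ∨ IsPGroup p (centralizer ({y} : Set G)) := by
  have h1 : ∀ w ∈ centralizer ({y} : Set G), (orderOf w).Coprime p →
      centralizer ({y} : Set G) ≤ centralizer {w} := by
    intro w hw hc
    have e := centralizer_mul_of_coprime (x := y) (y := w) (mem_cent.mp hw).symm
      (by rw [hy]; exact hc.symm)
    rw [← hmin (y * w) (e ▸ inf_le_left) (e ▸ ⟨self_mem_cent y, mem_cent_comm hw⟩), e]
    exact inf_le_right
  by_cases hex : ∃ w ∈ centralizer ({y} : Set G), w ≠ 1 ∧ (orderOf w).Coprime p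
  · left
    obtain ⟨w, hw, hw1, hc⟩ := hex
    have ew := hmax w hw1 (h1 w hw hc)
    have h2 : centralizer ({y} : Set G) ≤ centralizer (centralizer ({y} : Set G) : Set G) := by
      refine le_of_forall_primePow_mem fun u hu r k hr hk => mem_centralizer_iff.mpr fun g hg => ?_
      by_cases hrp : r = p
      · subst hrp
        have e := centralizer_mul_of_coprime (x := w) (y := u) (mem_cent.mp (ew ▸ hu)).symm
          (by rw [hk]; exact Nat.Coprime.pow_right _ hc)
        rw [ew] at e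
        have := hmin (w * u) (e ▸ inf_le_left) (e ▸ ⟨self_mem_cent y, mem_cent_comm hu⟩)
        rw [e] at this
        exact mem_cent.mp (this.ge hg).2
      · exact mem_cent.mp (h1 u hu (by
          rw [hk]; exact Nat.Coprime.pow_left _ ((Nat.coprime_primes hr hp).mpr hrp)) hg)
    exact isMulCommutative_iff'.mpr fun a ha b hb => mem_centralizer_iff.mp (h2 hb) a ha
  · right
    refine isPGroup_of_forall_orderOf fun g hg => ?_
    obtain ⟨u, -, v, hv, e, -, ⟨k, hk⟩, hvp⟩ := exists_p_part hp g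
    have : v = 1 := by
      by_contra hv1
      exact hex ⟨v, zpowers_le.mpr hg hv, hv1, hvp⟩
    exact ⟨k, by rw [e, this, mul_one, hk]⟩

/-- Class sizes `a`, `a * m`, `b` with `a` and `b` coprime. -/
structure Three (G : Type*) [Group G] (a b m : ℕ) : Prop where
  hZ : center G = ⊥
  sz : ∀ g : G, g ≠ 1 → cidx g = a ∨ cidx g = a * m ∨ cidx g = b
  cop : a.Coprime b
  one_lt : 1 < m
  ex1 : ∃ x : G, x ≠ 1 ∧ cidx x = a
  ex2 : ∃ x : G, x ≠ 1 ∧ cidx x = a * m
  ex3 : ∃ x : G, x ≠ 1 ∧ cidx x = b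

theorem one_lt_cidx [Finite G] (hZ : center G = ⊥) {g : G} (hg : g ≠ 1) : 1 < cidx g := by
  have h0 := cidx_ne_zero g
  have h1 : cidx g ≠ 1 := fun e => hg (by
    have := index_centralizer_eq_one_iff.mp e
    rwa [hZ, mem_bot] at this)
  omega

namespace Three

variable [Finite G] {a b m : ℕ} (T : Three G a b m)
include T

theorem one_lt_a : 1 < a := by
  obtain ⟨x, hx, e⟩ := T.ex1
  exact e ▸ one_lt_cidx T.hZ hx

theorem one_lt_b : 1 < b := by
  obtain ⟨x, hx, e⟩ := T.ex3
  exact e ▸ one_lt_cidx T.hZ hx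

theorem not_a_dvd_b : ¬ a ∣ b := fun h => T.one_lt_a.ne' (T.cop.eq_one_of_dvd h)

theorem not_b_dvd_a : ¬ b ∣ a := fun h => T.one_lt_b.ne' (T.cop.symm.eq_one_of_dvd h)

theorem not_am_dvd_a : ¬ a * m ∣ a := fun h => by
  have := Nat.le_of_dvd (lt_trans one_pos T.one_lt_a) h
  have h1 := T.one_lt_a
  have h2 := T.one_lt
  nlinarith

theorem eq_a_of_dvd {g : G} (hg : g ≠ 1) (h : cidx g ∣ a) : cidx g = a := by
  rcases T.sz g hg with e | e | e
  · exact e
  · exact absurd (e ▸ h) T.not_am_dvd_a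
  · exact absurd (e ▸ h) T.not_b_dvd_a

theorem eq_b_of_dvd {g : G} (hg : g ≠ 1) (h : cidx g ∣ b) : cidx g = b := by
  rcases T.sz g hg with e | e | e
  · exact absurd (e ▸ h) T.not_a_dvd_b
  · exact absurd ((dvd_mul_right a m).trans (e ▸ h)) T.not_a_dvd_b
  · exact e

theorem ne_one_of_le {g x : G} (hx : x ≠ 1)
    (h : centralizer ({g} : Set G) ≤ centralizer {x}) : g ≠ 1 := by
  rintro rfl
  have : x ∈ center G := mem_center_iff.mpr fun g => mem_cent.mp (h (mem_cent.mpr (by simp)))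
  rw [T.hZ, mem_bot] at this
  exact hx this

theorem cent_eq_a {x z : G} (hx : cidx x = a) (hz : z ≠ 1)
    (h : centralizer ({x} : Set G) ≤ centralizer {z}) :
    centralizer ({z} : Set G) = centralizer {x} :=
  (cent_eq_of_le h (by rw [hx]; exact T.eq_a_of_dvd hz (hx ▸ index_dvd_of_le h))).symm

theorem cent_eq_b {x z : G} (hx : cidx x = b) (hz : z ≠ 1)
    (h : centralizer ({x} : Set G) ≤ centralizer {z}) :
    centralizer ({z} : Set G) = centralizer {x} :=
  (cent_eq_of_le h (by rw [hx]; exact T.eq_b_of_dvd hz (hx ▸ index_dvd_of_le h))).symm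

theorem ne_one_a {x : G} (hx : cidx x = a) : x ≠ 1 := by
  rintro rfl
  have := T.one_lt_a
  rw [← hx, cidx, index_centralizer_eq_one_iff.mpr (one_mem _)] at this
  exact lt_irrefl _ this

theorem ne_one_b {x : G} (hx : cidx x = b) : x ≠ 1 := by
  rintro rfl
  have := T.one_lt_b
  rw [← hx, cidx, index_centralizer_eq_one_iff.mpr (one_mem _)] at this
  exact lt_irrefl _ this

omit T in
theorem card_eq {x : G} {n : ℕ} (hx : cidx x = n) :
    n * Nat.card (centralizer ({x} : Set G)) = Nat.card G := hx ▸ index_mul_card _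

theorem card_eq_mul {x w : G} (hx : cidx x = a) (hw : cidx w = a * m) :
    Nat.card (centralizer ({x} : Set G)) = m * Nat.card (centralizer ({w} : Set G)) := by
  have h1 := card_eq hx
  have h2 := card_eq hw
  refine Nat.eq_of_mul_eq_mul_left (lt_trans one_pos T.one_lt_a) ?_
  rw [h1, ← h2, mul_assoc]

theorem twoSz {x : G} (hx : cidx x = a) : TwoSz (centralizer ({x} : Set G)) m := by
  refine ⟨fun e => T.ne_one_a hx ?_, fun z hz hz1 w hc => ?_, ?_⟩
  · have : (⟨x, self_mem_cent x⟩ : centralizer ({x} : Set G)) ∈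
        center (centralizer ({x} : Set G)) :=
      mem_center_iff.mpr fun g => Subtype.ext (mem_cent.mp g.2)
    rw [e, mem_bot] at this
    exact congrArg Subtype.val this
  · have hz1' : (z : G) ≠ 1 := fun e => hz1 (Subtype.ext e)
    have e := T.cent_eq_a hx hz1' fun g hg =>
      mem_cent.mpr (congrArg Subtype.val (mem_center_iff.mp hz ⟨g, hg⟩))
    have e1 := centralizer_mul_of_coprime (x := (z : G)) (y := (w : G))
      (congrArg Subtype.val (mem_center_iff.mp hz w)).symm (by simpa using hc)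
    rw [e] at e1
    have e2 : cidx ((z : G) * w) = a * cidx w := by
      rw [cidx, cidx, index_centralizer_subtype, e1, ← relIndex_mul_index inf_le_left,
        inf_relIndex_left, mul_comm, ← hx]
    have ha := lt_trans one_pos T.one_lt_a
    rcases T.sz _ (T.ne_one_of_le (T.ne_one_a hx) (e1 ▸ inf_le_left)) with e3 | e3 | e3
    · left
      rw [e2] at e3
      exact Nat.eq_of_mul_eq_mul_left ha (by rw [e3, mul_one])
    · right
      rw [e2] at e3
      exact Nat.eq_of_mul_eq_mul_left ha e3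
    · exact absurd (e3 ▸ e2 ▸ dvd_mul_right _ _) T.not_a_dvd_b
  · obtain ⟨w, -, hw⟩ := T.ex2
    exact T.card_eq_mul hx hw ▸ dvd_mul_right _ _

theorem exists_central {x : G} (hx : cidx x = a) {s : ℕ} (hs : s.Prime) (hd : s ∣ m) :
    ∃ z : G, orderOf z = s ∧ centralizer ({z} : Set G) = centralizer {x} := by
  obtain ⟨z, hz, hzs⟩ := (T.twoSz hx).exists_central hs hd
  have hzs' : orderOf (z : G) = s := by simpa using hzs
  exact ⟨z, hzs', T.cent_eq_a hx (ne_one_of_orderOf_prime hs hzs') fun g hg =>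
      mem_cent.mpr (congrArg Subtype.val (mem_center_iff.mp hz ⟨g, hg⟩))⟩

/-! ### The case `b ∣ a m` -/

theorem symm {m' : ℕ} (h : a * m = b * m') : Three G b a m' := by
  refine ⟨T.hZ, fun g hg => ?_, T.cop.symm, ?_, T.ex3, h ▸ T.ex2, T.ex1⟩
  · rw [← h]; have := T.sz g hg; tauto
  · have h1 := T.one_lt_a
    have h2 := T.one_lt
    have h0 : m' ≠ 0 := by rintro rfl; rw [mul_zero] at h; nlinarith
    have h3 : m' ≠ 1 := by
      rintro rfl
      rw [mul_one] at h
      exact T.not_a_dvd_b (h ▸ dvd_mul_right _ _)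
    omega

theorem not_card_le (h : b ∣ a * m) : ¬ Nat.card G ≤ a * b := by
  intro hle
  obtain ⟨w, hw1, hw⟩ := T.ex2
  have h1 := card_eq hw
  have h2 : a * b ∣ a * m := Nat.mul_dvd_mul_left a (T.cop.symm.dvd_of_dvd_mul_left h)
  have h3 : 1 < Nat.card (centralizer ({w} : Set G)) :=
    (one_lt_card_iff_ne_bot _).mpr fun e => hw1 (by simpa [e] using self_mem_cent w)
  have h4 : 0 < a * m := hw ▸ Nat.pos_of_ne_zero (cidx_ne_zero w)
  have := Nat.le_of_dvd h4 h2
  nlinarith

theorem not_comm (h : b ∣ a * m) {x : G} (hx : cidx x = a) :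
    ¬ IsMulCommutative (centralizer ({x} : Set G)) := by
  intro hc
  rw [isMulCommutative_iff'] at hc
  obtain ⟨y, hy1, hy⟩ := T.ex3
  have : centralizer ({x} : Set G) ⊓ centralizer {y} = ⊥ := by
    rw [eq_bot_iff]
    intro w hw
    by_contra hw1
    have e := T.cent_eq_a hx hw1 fun g hg => mem_cent.mpr (hc g hg w hw.1)
    have hyx : y ∈ centralizer ({x} : Set G) := e ▸ mem_cent_comm hw.2
    have e' := T.cent_eq_a hx hy1 fun g hg => mem_cent.mpr (hc g hg y hyx)
    apply T.not_a_dvd_b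
    rw [← hx, ← hy, cidx, cidx, e']
  apply T.not_card_le h
  rw [← index_bot, ← this, ← hx, ← hy]
  exact index_inf_le

theorem isSolvable_of_dvd_of_two (h : b ∣ a * m) {p q : ℕ} (hp : p.Prime) (hq : q.Prime)
    (hpq : p ≠ q) (hpm : p ∣ m) (hqm : q ∣ m) : Group.IsSolvable G := by
  obtain ⟨x, -, hx⟩ := T.ex1
  have h2 := ((T.twoSz hx).comm_or_two_primes hp hq hpq hpm hqm).resolve_left fun hc =>
    T.not_comm h hx ⟨⟨hc⟩⟩
  refine isSolvable_of_two_primes hp hq fun r hr hd => ?_
  by_contra hc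
  have hrX : ¬ r ∣ Nat.card (centralizer ({x} : Set G)) := fun e => hc (h2 r hr e)
  have hb : ∀ g : G, g ≠ 1 → r ∣ Nat.card (centralizer ({g} : Set G)) → cidx g = b := by
    intro g hg hd
    rcases T.sz g hg with e | e | e
    · exfalso
      apply hrX
      have := (card_eq hx).trans (card_eq e).symm
      rwa [Nat.eq_of_mul_eq_mul_left (lt_trans one_pos T.one_lt_a) this]
    · exact absurd (T.card_eq_mul hx e ▸ hd.mul_left m) hrX
    · exact e
  haveI := Fact.mk hr
  obtain ⟨y, hy⟩ := exists_prime_orderOf_dvd_card' r hd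
  have hy1 := ne_one_of_orderOf_prime hr hy
  have hyb := hb y hy1 (hy ▸ Subgroup.orderOf_dvd_natCard _ (self_mem_cent y))
  obtain ⟨m', hm'⟩ := h
  rcases comm_or_isPGroup hr hy (fun g hg hyg => cent_eq_of_le hg (by
      rw [hyb, hb g (T.ne_one_of_le hy1 hg) (hy ▸ Subgroup.orderOf_dvd_natCard _ hyg)]))
    (fun g hg hle => T.cent_eq_b hyb hg hle) with h1 | h1
  · exact (T.symm hm').not_comm (hm' ▸ dvd_mul_right _ _) hyb h1
  · obtain ⟨k, hk⟩ := h1.exists_card_eq
    have h3 := card_eq hyb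
    have h4 : Nat.card (centralizer ({x} : Set G)) ∣ b := by
      refine Nat.Coprime.dvd_of_dvd_mul_right (m := b) (n := r ^ k) ?_ ?_
      · exact Nat.Coprime.pow_right _ ((Nat.Prime.coprime_iff_not_dvd hr).mpr hrX).symm
      · rw [← hk, h3]; exact card_subgroup_dvd_card _
    apply T.not_card_le ⟨m', hm'⟩
    rw [← card_eq hx]
    exact Nat.mul_le_mul_left a (Nat.le_of_dvd (lt_trans one_pos T.one_lt_b) h4)

omit T [Finite G] in
theorem two_or_one {m : ℕ} (hm : 1 < m) :
    (∃ p q : ℕ, p.Prime ∧ q.Prime ∧ p ≠ q ∧ p ∣ m ∧ q ∣ m) ∨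
      ∃ s : ℕ, s.Prime ∧ ∀ r : ℕ, r.Prime → r ∣ m → r = s := by
  obtain ⟨s, hs, hd⟩ := Nat.exists_prime_and_dvd hm.ne'
  by_cases h : ∀ r : ℕ, r.Prime → r ∣ m → r = s
  · exact Or.inr ⟨s, hs, h⟩
  · push Not at h
    obtain ⟨r, hr, hrm, hrs⟩ := h
    exact Or.inl ⟨r, s, hr, hs, hrs, hrm, hd⟩

theorem isSolvable_of_dvd (h : b ∣ a * m) : Group.IsSolvable G := by
  rcases two_or_one T.one_lt with ⟨p, q, hp, hq, hpq, hpm, hqm⟩ | ⟨s, hs, h1⟩
  · exact T.isSolvable_of_dvd_of_two h hp hq hpq hpm hqm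
  obtain ⟨m', hm'⟩ := h
  have T' := T.symm hm'
  rcases two_or_one T'.one_lt with ⟨p, q, hp, hq, hpq, hpm, hqm⟩ | ⟨t, ht, h2⟩
  · exact T'.isSolvable_of_dvd_of_two (hm' ▸ dvd_mul_right _ _) hp hq hpq hpm hqm
  refine isSolvable_of_two_primes hs ht fun r hr hd => ?_
  obtain ⟨g, hg⟩ := exists_dvd_cidx T.hZ hr hd
  have hg1 : g ≠ 1 := by
    rintro rfl
    rw [cidx, index_centralizer_eq_one_iff.mpr (one_mem _)] at hg
    exact hr.one_lt.ne' (Nat.dvd_one.mp hg)
  have h3 : r ∣ a * m := by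
    rcases T.sz g hg1 with e | e | e
    · exact (e ▸ hg).mul_right m
    · exact e ▸ hg
    · rw [hm']; exact (e ▸ hg).mul_right m'
  rcases (Nat.Prime.dvd_mul hr).mp h3 with h4 | h4
  · exact Or.inr (h2 r hr (h4.trans (T.cop.dvd_of_dvd_mul_left (hm' ▸ dvd_mul_right _ _))))
  · exact Or.inl (h1 r hr h4)

end Three

end CfsgLib.BSW
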