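import Cfsg.Agent.Lib.BSW.ClsB

/-! Class sizes `a`, `a m`, `b` with `b ∤ a m`. -/

namespace CfsgLib.BSW

open Subgroup Cfsg CfsgLib.Frob CfsgLib.PCompl
open scoped commutatorElement

variable {G : Type*} [Group G]

theorem cidx_conj (g x : G) : cidx (g * x * g⁻¹) = cidx x := index_centralizer_conj g x

theorem conj_ne_one {g x : G} (h : x ≠ 1) : g * x * g⁻¹ ≠ 1 := fun e => h (by
  have : x = g⁻¹ * (g * x * g⁻¹) * g := by group
  rw [this, e]; group)

theorem conj_mem_cent {g x y : G} (h : y ∈ centralizer ({x} : Set G)) :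
    g * y * g⁻¹ ∈ centralizer ({g * x * g⁻¹} : Set G) := by
  rw [mem_cent] at h ⊢
  calc g * y * g⁻¹ * (g * x * g⁻¹) = g * (y * x) * g⁻¹ := by group
    _ = _ := by rw [h]; group

theorem exists_conj_mem_sylow [Finite G] {p : ℕ} [Fact p.Prime] (P : Sylow p G) {u : G} {k : ℕ}
    (hu : orderOf u = p ^ k) : ∃ g : G, g * u * g⁻¹ ∈ (P : Subgroup G) := by
  obtain ⟨g, -, hg⟩ := (IsSylowIn.sylow_top P).exists_conj_le
    (isPGroup_zpowers_iff.mpr ⟨k, hu⟩) le_top
  exact ⟨g, hg (conj_mem_map_conj (mem_zpowers u))⟩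

theorem exists_pow_of_forall_prime_eq {n s : ℕ} (hs : s.Prime) (hn : n ≠ 0)
    (h : ∀ r : ℕ, r.Prime → r ∣ n → r = s) : ∃ k, n = s ^ k :=
  (isPiNum_singleton_iff hs hn).mp h

theorem centTI_of_cent_le [Finite G] {x : G}
    (h : ∀ w ∈ centralizer ({x} : Set G), w ≠ 1 →
      centralizer ({w} : Set G) ≤ centralizer ({x} : Set G)) (hx : x ≠ 1) :
    CentTI (centralizer ({x} : Set G)) := by
  refine ⟨fun w hw hw1 g hg => h w hw hw1 (mem_cent.mpr hg), fun g hg w hw hc => ?_⟩
  by_contra hw1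
  apply hg
  have h1 : g * x * g⁻¹ ∈ centralizer ({x} : Set G) :=
    h _ hc (conj_ne_one hw1) (conj_mem_cent (mem_cent_comm hw))
  exact mem_normalizer_of_conj_mem fun y hy => h _ h1 (conj_ne_one hx) (conj_mem_cent hy)

namespace Three

variable [Finite G] {a b m : ℕ} (T : Three G a b m)
include T

theorem eq_b_of_le (hn : ¬ b ∣ a * m) {y g : G} (hy : cidx y = b)
    (h : centralizer ({g} : Set G) ≤ centralizer {y}) : cidx g = b := by
  have hd : b ∣ cidx g := hy ▸ index_dvd_of_le h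
  rcases T.sz g (T.ne_one_of_le (T.ne_one_b hy) h) with e | e | e
  · exact absurd (e ▸ hd) T.not_b_dvd_a
  · exact absurd (e ▸ hd) hn
  · exact e

theorem comm_or_isPGroup (hn : ¬ b ∣ a * m) {y : G} {p : ℕ} (hp : p.Prime) (hy : orderOf y = p)
    (hyb : cidx y = b) :
    IsMulCommutative (centralizer ({y} : Set G)) ∨ IsPGroup p (centralizer ({y} : Set G)) :=
  BSW.comm_or_isPGroup hp hy
    (fun g hg _ => cent_eq_of_le hg (by rw [hyb, T.eq_b_of_le hn hyb hg]))
    (fun _ hg hle => T.cent_eq_b hyb hg hle)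

theorem eq_b_of_not_dvd {g : G} (hg : g ≠ 1) {p : ℕ} (hpa : p ∣ a) (h : ¬ p ∣ cidx g) :
    cidx g = b := by
  rcases T.sz g hg with e | e | e
  · exact absurd (e ▸ hpa) h
  · exact absurd (e ▸ hpa.mul_right m) h
  · exact e

theorem card_cent_congr {x y : G} (h : cidx x = cidx y) :
    Nat.card (centralizer ({x} : Set G)) = Nat.card (centralizer ({y} : Set G)) :=
  Nat.eq_of_mul_eq_mul_left (Nat.pos_of_ne_zero (cidx_ne_zero y))
    ((card_eq h).trans (card_eq rfl).symm)

theorem a_dvd_card {y : G} (hy : cidx y = b) : a ∣ Nat.card (centralizer ({y} : Set G)) := by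
  obtain ⟨x, -, hx⟩ := T.ex1
  refine T.cop.dvd_of_dvd_mul_left ?_
  rw [card_eq hy, ← card_eq hx]
  exact dvd_mul_right _ _

theorem coprime_of_comm {x y : G} (hx : cidx x = a) (hy : cidx y = b)
    (hc : IsMulCommutative (centralizer ({y} : Set G))) :
    (Nat.card (centralizer ({x} : Set G))).Coprime (Nat.card (centralizer ({y} : Set G))) := by
  rw [isMulCommutative_iff'] at hc
  refine Nat.coprime_of_dvd fun r hr hX hY => ?_
  haveI := Fact.mk hr
  have key : ∀ u ∈ centralizer ({y} : Set G), u ≠ 1 →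
      centralizer ({u} : Set G) = centralizer {y} := fun u hu hu1 =>
    T.cent_eq_b hy hu1 fun g hg => mem_cent.mpr (hc g hg u hu)
  obtain ⟨u, hu, hur⟩ := exists_orderOf_prime_mem _ hr hY
  obtain ⟨P, hP⟩ := exists_sylow_mem_of_orderOf (k := 1) (by simpa using hur)
  obtain ⟨z, -, hz, hPz⟩ := exists_central_of_sylow P (hY.trans (card_subgroup_dvd_card _))
  have hzY : z ∈ centralizer ({y} : Set G) :=
    key u hu (ne_one_of_orderOf_prime hr hur) ▸ mem_cent_comm (hPz hP)
  rw [key z hzY (ne_one_of_orderOf_prime hr hz)] at hPz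
  obtain ⟨v, hv, hvr⟩ := exists_orderOf_prime_mem _ hr hX
  obtain ⟨g, hg⟩ := exists_conj_mem_sylow P (k := 1) (by simpa using hvr)
  have h1 : g * x * g⁻¹ ∈ centralizer ({y} : Set G) :=
    key _ (hPz hg) (conj_ne_one (ne_one_of_orderOf_prime hr hvr)) ▸
      conj_mem_cent (mem_cent_comm hv)
  have h2 := key _ h1 (conj_ne_one (T.ne_one_a hx))
  apply T.not_a_dvd_b
  rw [← hx, ← hy, ← cidx_conj g x, cidx, cidx, h2]

theorem not_dvd_of_isPGroup {p q : ℕ} (hp : p.Prime) (hq : q.Prime) (hqp : q ≠ p) (hpa : p ∣ a)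
    (hqm : q ∣ m) {x y : G} (hx : cidx x = a) (hy : cidx y = b)
    (hY : IsPGroup p (centralizer ({y} : Set G))) :
    ¬ p ∣ Nat.card (centralizer ({x} : Set G)) := by
  haveI := Fact.mk hp
  haveI := Fact.mk hq
  obtain ⟨k, hk⟩ := hY.exists_card_eq
  have hb : ∀ g : G, cidx g = b → ¬ q ∣ Nat.card (centralizer ({g} : Set G)) := by
    intro g hg hd
    rw [T.card_cent_congr (hg.trans hy.symm), hk] at hd
    exact hqp ((Nat.prime_dvd_prime_iff_eq hq hp).mp (hq.dvd_of_dvd_pow hd))
  intro hd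
  obtain ⟨x', hx', e⟩ := T.exists_central hx hq hqm
  obtain ⟨u, hu, hup⟩ := exists_orderOf_prime_mem _ hp hd
  have hu1 := ne_one_of_orderOf_prime hp hup
  obtain ⟨P, hP⟩ := exists_sylow_mem_of_orderOf (k := 1) (by simpa using hup)
  obtain ⟨z, -, hz, hPz⟩ := exists_central_of_sylow P (hd.trans (card_subgroup_dvd_card _))
  have hzb := T.eq_b_of_not_dvd (ne_one_of_orderOf_prime hp hz) hpa
    (not_dvd_cidx_of_sylow_le P hPz)
  have hqU : q ∣ Nat.card (centralizer ({u} : Set G)) :=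
    hx' ▸ Subgroup.orderOf_dvd_natCard _ (mem_cent_comm (e ▸ hu))
  obtain ⟨v, hv, hvn⟩ := exists_order_not_dvd_cidx (G := centralizer ({u} : Set G)) hq hqU
  have hv' : orderOf (v : G) = q := by simpa using hv
  suffices h : centralizer ({u} : Set G) ≤ centralizer {(v : G)} by
    apply hb z hzb
    rw [← hv']
    exact Subgroup.orderOf_dvd_natCard _ (mem_cent_comm (h (mem_cent_comm (hPz hP))))
  have hcop : (orderOf u).Coprime (orderOf (v : G)) := by
    rw [hup, hv']; exact (Nat.coprime_primes hp hq).mpr hqp.symm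
  rcases T.sz u hu1 with e1 | e1 | e1
  · have := ((T.twoSz e1).sz ⟨u, self_mem_cent u⟩
      (mem_center_iff.mpr fun g => Subtype.ext (mem_cent.mp g.2))
      (fun e => hu1 (congrArg Subtype.val e)) v (by simpa using hcop)).resolve_right
      fun e => hvn (e ▸ hqm)
    intro g hg
    exact mem_cent.mpr (congrArg Subtype.val
      (mem_center_iff.mp (index_centralizer_eq_one_iff.mp this) ⟨g, hg⟩))
  · have e2 := centralizer_mul_of_coprime (x := u) (y := v) (mem_cent.mp v.2).symm hcop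
    have hle : centralizer ({u * v} : Set G) ≤ centralizer {u} := e2 ▸ inf_le_left
    have hd' : a * m ∣ cidx (u * v) := e1 ▸ index_dvd_of_le hle
    have e3 : cidx (u * v) = a * m := by
      rcases T.sz _ (T.ne_one_of_le hu1 hle) with e3 | e3 | e3
      · exact absurd (e3 ▸ hd') T.not_am_dvd_a
      · exact e3
      · exact absurd ((dvd_mul_right a m).trans (e3 ▸ hd')) T.not_a_dvd_b
    exact (cent_eq_of_le hle (by rw [e1, e3])).ge.trans (e2 ▸ inf_le_right)
  · exact absurd hqU (hb u e1)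

theorem isSolvable_of_isPGroup_of_pow {p : ℕ} (hp : p.Prime) (hm : ∀ r : ℕ, r.Prime → r ∣ m → r = p)
    {y : G} (hy : cidx y = b) (hY : IsPGroup p (centralizer ({y} : Set G))) :
    Group.IsSolvable G := by
  haveI := Fact.mk hp
  obtain ⟨k, hk⟩ := hY.exists_card_eq
  obtain ⟨i, -, hi⟩ := (Nat.dvd_prime_pow hp).mp (hk ▸ T.a_dvd_card hy)
  obtain ⟨j, hj⟩ := exists_pow_of_forall_prime_eq hp (by have := T.one_lt; omega) hm
  refine isSolvable_of_radical_or_primePow hp fun g => ?_
  by_cases hg : g = 1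
  · exact Or.inl (hg ▸ one_mem _)
  rcases T.sz g hg with e | e | e
  · exact Or.inl (Chr.mem_solvableRadical_of_class_prime_pow hp ⟨i, e.trans hi⟩)
  · exact Or.inl (Chr.mem_solvableRadical_of_class_prime_pow hp
      ⟨i + j, e.trans (by rw [hi, hj, pow_add])⟩)
  · right
    have := Subgroup.orderOf_dvd_natCard _ (self_mem_cent g)
    rw [T.card_cent_congr (e.trans hy.symm), hk] at this
    obtain ⟨l, -, hl⟩ := (Nat.dvd_prime_pow hp).mp this
    exact ⟨l, hl⟩

theorem card_eq_ab {x y : G} (hx : cidx x = a) (hy : cidx y = b)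
    (h : (Nat.card (centralizer ({x} : Set G))).Coprime (Nat.card (centralizer ({y} : Set G)))) :
    Nat.card G = a * b := by
  have h1 : Nat.card (centralizer ({y} : Set G)) ∣ a := by
    refine h.symm.dvd_of_dvd_mul_right ?_
    rw [card_eq hx]
    exact card_subgroup_dvd_card _
  rw [← card_eq hy, Nat.dvd_antisymm h1 (T.a_dvd_card hy), mul_comm]

section ab

variable (hG : Nat.card G = a * b)
include hG

theorem card_a {x : G} (hx : cidx x = a) : Nat.card (centralizer ({x} : Set G)) = b :=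
  Nat.eq_of_mul_eq_mul_left (lt_trans one_pos T.one_lt_a) ((card_eq hx).trans hG)

theorem card_b {x : G} (hx : cidx x = b) : Nat.card (centralizer ({x} : Set G)) = a :=
  Nat.eq_of_mul_eq_mul_left (lt_trans one_pos T.one_lt_b) ((card_eq hx).trans (by rw [hG, mul_comm]))

theorem orderOf_dvd_b {g : G} (hg : cidx g ≠ b) (h1 : g ≠ 1) : orderOf g ∣ b := by
  have := Subgroup.orderOf_dvd_natCard _ (self_mem_cent g)
  rcases T.sz g h1 with e | e | e
  · rwa [T.card_a hG e] at this
  · obtain ⟨x, -, hx⟩ := T.ex1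
    rw [← T.card_a hG hx, T.card_eq_mul hx e]
    exact this.mul_left m
  · exact absurd e hg

theorem ne_b_of_orderOf_dvd {g : G} (h1 : g ≠ 1) (h : orderOf g ∣ b) : cidx g ≠ b := by
  intro e
  have := Subgroup.orderOf_dvd_natCard _ (self_mem_cent g)
  rw [T.card_b hG e] at this
  exact h1 (orderOf_eq_one_iff.mp (Nat.eq_one_of_dvd_coprimes T.cop this h))

/-- Either `G` is solvable or a subgroup meeting all classes of size different from `b` is
self-normalizing. -/
theorem solvable_or_normalizer_le (hn : ¬ b ∣ a * m) {A : Subgroup G}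
    (hA : ∀ g : G, g ≠ 1 → cidx g ≠ b → ∃ x : G, x * g * x⁻¹ ∈ A) :
    Group.IsSolvable G ∨ normalizer (A : Set G) ≤ A := by
  obtain ⟨p, hp, hpa⟩ := Nat.exists_prime_and_dvd T.one_lt_a.ne'
  haveI := Fact.mk hp
  obtain ⟨P⟩ : Nonempty (Sylow p G) := inferInstance
  obtain ⟨y, hyP, hy, hP⟩ := exists_central_of_sylow P (hG ▸ hpa.mul_right b)
  have hy1 := ne_one_of_orderOf_prime hp hy
  have hyb := T.eq_b_of_not_dvd hy1 hpa (not_dvd_cidx_of_sylow_le P hP)
  set Y := centralizer ({y} : Set G) with hY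
  have hcov : ∀ g : G, (∃ x : G, x * g * x⁻¹ ∈ Y ⊓ centralizer (Y : Set G)) ∨
      ∃ x : G, x * g * x⁻¹ ∈ A := by
    intro g
    by_cases h1 : g = 1
    · exact Or.inr ⟨1, by simpa [h1] using A.one_mem⟩
    by_cases hg : cidx g = b
    swap
    · exact Or.inr (hA g h1 hg)
    left
    obtain ⟨x, hx⟩ := exists_conj_mem_centralizer_sylow P (w := g) (by
      rw [hg]
      exact fun hd => hp.one_lt.ne' (Nat.eq_one_of_dvd_coprimes T.cop hpa hd))
    have hxY : x * g * x⁻¹ ∈ Y := mem_cent.mpr (mem_centralizer_iff.mp hx y hyP).symm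
    refine ⟨x, hxY, ?_⟩
    rcases T.comm_or_isPGroup hn hp hy hyb with h2 | h2
    · exact mem_centralizer_iff.mpr fun w hw => isMulCommutative_iff'.mp h2 w hw _ hxY
    · rw [show Y = P from (IsSylowIn.sylow_top P).eq_of_le h2 hP le_top]
      exact hx
  refine (normalizer_le_or_of_cover hcov).imp_left fun h => ?_
  have h1 : normalizer (Y : Set G) ≤ normalizer ((Y ⊓ centralizer (Y : Set G) : Subgroup G) :
      Set G) := Cop.le_normalizer_inf_centralizer le_rfl le_rfl
  have hc : ∀ u ∈ Y, ∀ v ∈ Y, u * v = v * u := fun u hu v hv =>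
    mem_centralizer_iff.mp (h (h1 (le_normalizer hv))).2 u hu
  have hK : CentTI Y := centTI_of_cent_le (fun w hw hw1 =>
    (T.cent_eq_b hyb hw1 fun g hg => mem_cent.mpr (hc g hg w hw)).le) hy1
  haveI : IsMulCommutative Y := isMulCommutative_iff'.mpr hc
  refine isSolvable_of_complement_solvable (hK.isFrobeniusComplement
    (h1.trans (h.trans inf_le_left)) (fun e => hy1 ?_) (fun e => ?_))
    isSolvable_of_isMulCommutative
  · exact mem_bot.mp (e ▸ (self_mem_cent y : y ∈ Y))
  · have := T.one_lt_b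
    rw [← hyb, cidx, ← hY, e, index_top] at this
    exact lt_irrefl _ this

theorem isSolvable_of_pow (hn : ¬ b ∣ a * m) {s : ℕ} (hs : s.Prime)
    (hm : ∀ r : ℕ, r.Prime → r ∣ m → r = s) : Group.IsSolvable G := by
  by_contra hns
  have hb0 : b ≠ 0 := by have := T.one_lt_b; omega
  obtain ⟨L, hL, h1, h2⟩ := exists_normal_of_forall_hnpc (G := G) (b.primeFactors.erase s) (by
    intro q hq
    obtain ⟨hqs, hq⟩ := Finset.mem_erase.mp hq
    have hq' := Nat.prime_of_mem_primeFactors hq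
    have hqb := Nat.dvd_of_mem_primeFactors hq
    haveI := Fact.mk hq'
    obtain ⟨Q⟩ : Nonempty (Sylow q G) := inferInstance
    have hqa : ¬ q ∣ a := fun hd => hq'.one_lt.ne' (Nat.eq_one_of_dvd_coprimes T.cop hd hqb)
    refine ⟨hq', hnpc_of_normalizer_le_centralizer Q
      ((Cop.normalizer_le_normalizer_centralizer _).trans ?_)⟩
    refine (T.solvable_or_normalizer_le hG hn fun g hg1 hg =>
      exists_conj_mem_centralizer_sylow Q ?_).resolve_left hns
    rcases T.sz g hg1 with e | e | e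
    · rwa [e]
    · rw [e]
      exact fun hd => ((Nat.Prime.dvd_mul hq').mp hd).elim hqa fun h => hqs (hm q hq' h)
    · exact absurd e hg)
  have key : ∀ n : ℕ, n ∣ b → n ∣ Nat.card L → ∃ k, n = s ^ k := by
    intro n hb hL
    refine exists_pow_of_forall_prime_eq hs (fun e => hb0 (Nat.eq_zero_of_zero_dvd (e ▸ hb)))
      fun r hr hd => ?_
    by_contra hrs
    exact h1 r (Finset.mem_erase.mpr ⟨hrs, Nat.mem_primeFactors.mpr ⟨hr, hd.trans hb, hb0⟩⟩)
      (hd.trans hL)
  refine hns (h2 (isSolvable_of_radical_or_primePow hs fun g => ?_))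
  by_cases hg1 : g = 1
  · exact Or.inl (hg1 ▸ one_mem _)
  by_cases hg : cidx (g : G) = b
  · exact Or.inl (Chr.mem_solvableRadical_of_class_prime_pow hs
      (key _ (hg ▸ index_centralizer_normal_dvd L g) (index_dvd_card _)))
  · refine Or.inr (key _ ?_ (orderOf_dvd_natCard g))
    rw [← orderOf_coe]
    exact T.orderOf_dvd_b hG hg fun e => hg1 (Subtype.ext e)

theorem cent_le_of_two {p q : ℕ} (hp : p.Prime) (hq : q.Prime) (hpq : p ≠ q) (hpm : p ∣ m)
    (hqm : q ∣ m) {x : G} (hx : cidx x = a) {w : G} (hw : w ∈ centralizer ({x} : Set G))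
    (hw1 : w ≠ 1) : centralizer ({w} : Set G) ≤ centralizer {x} := by
  obtain ⟨r, hr, -, v, hv, hvr⟩ := exists_orderOf_prime_mem_zpowers hw1
  refine (centralizer_le_centralizer_of_mem_zpowers hv).trans ?_
  have hvX : v ∈ centralizer ({x} : Set G) := zpowers_le.mpr hw hv
  have hv1 := ne_one_of_orderOf_prime hr hvr
  rcases T.sz v hv1 with e | e | e
  · obtain ⟨a', ha', ea⟩ := T.exists_central e hp hpm
    obtain ⟨b', hb', eb⟩ := T.exists_central e hq hqm
    have haX : a' ∈ centralizer ({x} : Set G) := mem_cent_comm (ea ▸ mem_cent_comm hvX)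
    have hbX : b' ∈ centralizer ({x} : Set G) := mem_cent_comm (eb ▸ mem_cent_comm hvX)
    have := (T.twoSz hx).mem_center_of_cent_eq hp hq hpq hpm hqm (a := ⟨a', haX⟩)
      (b := ⟨b', hbX⟩) (by simpa using ha') (by simpa using hb') (by
        rw [← centralizer_subgroupOf_singleton, ← centralizer_subgroupOf_singleton]
        change (centralizer ({a'} : Set G)).subgroupOf _ = (centralizer ({b'} : Set G)).subgroupOf _
        rw [ea, eb])
    rw [← ea, T.cent_eq_a hx (ne_one_of_orderOf_prime hp ha') fun g hg =>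
      mem_cent.mpr (congrArg Subtype.val (mem_center_iff.mp this ⟨g, hg⟩))]
  · obtain ⟨s, hs, hsm, hsr⟩ : ∃ s, s.Prime ∧ s ∣ m ∧ s ≠ r := by
      by_cases e : p = r
      · exact ⟨q, hq, hqm, fun e' => hpq (e.trans e'.symm)⟩
      · exact ⟨p, hp, hpm, e⟩
    obtain ⟨z, hz, ez⟩ := T.exists_central hx hs hsm
    have e2 := centralizer_mul_of_coprime (x := z) (y := v) (mem_cent.mp (ez ▸ hvX)).symm
      (by rw [hz, hvr]; exact (Nat.coprime_primes hs hr).mpr hsr)
    have hle : centralizer ({z * v} : Set G) ≤ centralizer {v} := e2 ▸ inf_le_right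
    have hd' : a * m ∣ cidx (z * v) := e ▸ index_dvd_of_le hle
    have e3 : cidx (z * v) = a * m := by
      rcases T.sz _ (T.ne_one_of_le hv1 hle) with e3 | e3 | e3
      · exact absurd (e3 ▸ hd') T.not_am_dvd_a
      · exact e3
      · exact absurd ((dvd_mul_right a m).trans (e3 ▸ hd')) T.not_a_dvd_b
    rw [← cent_eq_of_le hle (by rw [e, e3]), e2, ez]
    exact inf_le_left
  · exact absurd e (T.ne_b_of_orderOf_dvd hG hv1
      (T.card_a hG hx ▸ Subgroup.orderOf_dvd_natCard _ hvX))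

theorem isSolvable_of_two (hn : ¬ b ∣ a * m) {p q : ℕ} (hp : p.Prime) (hq : q.Prime)
    (hpq : p ≠ q) (hpm : p ∣ m) (hqm : q ∣ m) : Group.IsSolvable G := by
  obtain ⟨x, hx1, hx⟩ := T.ex1
  have hK := centTI_of_cent_le (fun w hw hw1 => T.cent_le_of_two hG hp hq hpq hpm hqm hx hw hw1) hx1
  refine (T.solvable_or_normalizer_le hG hn (A := centralizer {x}) fun g hg1 hg => ?_).elim id
    fun h => isSolvable_of_complement_solvable (hK.isFrobeniusComplement h (fun e => hx1 ?_)
      (fun e => ?_)) ((T.twoSz hx).isSolvable hp hq hpq hpm hqm)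
  · obtain ⟨r, hr, hd, v, hv, hvr⟩ := exists_orderOf_prime_mem_zpowers hg1
    haveI := Fact.mk hr
    obtain ⟨P, hP⟩ := exists_sylow_le_of_not_dvd (p := r) (H := centralizer {x}) (fun h =>
      hr.one_lt.ne' (Nat.eq_one_of_dvd_coprimes T.cop (hx ▸ h)
        (hd.trans (T.orderOf_dvd_b hG hg hg1))))
    obtain ⟨y, hy⟩ := exists_conj_mem_sylow P (k := 1) (by simpa using hvr)
    exact ⟨y, hK.cent _ (hP hy) (conj_ne_one (ne_one_of_orderOf_prime hr hvr)) _
      (mem_cent.mp (conj_mem_cent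
        (centralizer_le_centralizer_of_mem_zpowers hv (self_mem_cent g))))⟩
  · simpa [e] using self_mem_cent x
  · have := T.one_lt_a
    rw [← hx, cidx, e, index_top] at this
    exact lt_irrefl _ this

end ab

theorem isSolvable : Group.IsSolvable G := by
  by_cases hn : b ∣ a * m
  · exact T.isSolvable_of_dvd hn
  obtain ⟨x, -, hx⟩ := T.ex1
  obtain ⟨p, hp, hpa⟩ := Nat.exists_prime_and_dvd T.one_lt_a.ne'
  obtain ⟨y, hy, hy'⟩ := exists_order_not_dvd_cidx hp
    (hpa.trans (card_eq hx ▸ dvd_mul_right _ _))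
  have hyb := T.eq_b_of_not_dvd (ne_one_of_orderOf_prime hp hy) hpa hy'
  have key : Nat.card G = a * b → Group.IsSolvable G := fun hG => by
    rcases two_or_one T.one_lt with ⟨p, q, hp, hq, hpq, hpm, hqm⟩ | ⟨s, hs, h1⟩
    · exact T.isSolvable_of_two hG hn hp hq hpq hpm hqm
    · exact T.isSolvable_of_pow hG hn hs h1
  rcases T.comm_or_isPGroup hn hp hy hyb with h | h
  · exact key (T.card_eq_ab hx hyb (T.coprime_of_comm hx hyb h))
  · by_cases hm : ∀ r : ℕ, r.Prime → r ∣ m → r = p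
    · exact T.isSolvable_of_isPGroup_of_pow hp hm hyb h
    · push Not at hm
      obtain ⟨q, hq, hqm, hqp⟩ := hm
      haveI := Fact.mk hp
      obtain ⟨k, hk⟩ := h.exists_card_eq
      refine key (T.card_eq_ab hx hyb ?_)
      rw [hk]
      exact Nat.Coprime.pow_right _ ((Nat.Prime.coprime_iff_not_dvd hp).mpr
        (T.not_dvd_of_isPGroup hp hq hqp hpa hqm hx hyb h)).symm

end Three

end CfsgLib.BSW
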