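import Cfsg.Agent.Lib.BSW.AllTI
import Cfsg.Agent.Lib.Suz.ZT
import Cfsg.Agent.Lib.Suz.ZTBasic
import Cfsg.Agent.Lib.ClassSize

/-! The Zassenhaus case. -/

namespace CfsgLib.BSW

open Subgroup Cfsg

variable {G : Type*} [Group G]

theorem ZSetup.Dg_eq {K : Subgroup G} {t : G} (h : ZSetup K t) :
    Suz.Dg (normalizer (K : Set G)) t = twoPt K t := by
  ext d
  rw [Suz.mem_Dg_iff, mem_twoPt, H5.inv_eq_self_of_sq h.sq]

theorem ZSetup.ro [Finite G] {K : Subgroup G} {t : G} (h : ZSetup K t) :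
    Suz.RO (normalizer (K : Set G)) K t := by
  have hti := H5.inv_eq_self_of_sq h.sq
  refine ⟨H5.mul_self_eq_one_of_sq h.sq, h.notMem, le_normalizer,
    fun n hn x hx => conj_mem_of_mem_normalizer' hn hx,
    fun x hx hc => h.centTI.eq_one_of_conj_mem_norm h.notMem hx (by rwa [hti]),
    fun n hn => ?_, fun g hg => ?_, even_iff_two_dvd.mpr h.even, ?_⟩
  · obtain ⟨d, hd, hk⟩ := h.dec n hn
    refine ⟨_, conj_mem_of_mem_normalizer (mem_twoPt.mp hd).1 hk, d, h.Dg_eq ▸ hd, by group⟩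
  · obtain ⟨k, hk, hn⟩ := h.bruhat g⁻¹ (fun e => hg (by simpa using inv_mem e))
    refine ⟨_, inv_mem hn, k, hk, by group⟩
  · rw [h.Dg_eq, ← Nat.not_even_iff_odd]
    intro he
    obtain ⟨u, hu, hu1, huu⟩ := Suz.exists_invol_of_even he
    obtain ⟨z, hz, hz2⟩ := Frob.exists_orderOf_prime_mem K Nat.prime_two h.even
    exact hu1 (h.centTI.twoPt_disjoint h.notMem hu
      (h.centTI.mem_of_sq hz2 hz (mem_twoPt.mp hu).1 (by rw [pow_two, huu])))

theorem ZSetup.zt [Finite G] {K : Subgroup G} {t : G} (h : ZSetup K t) :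
    (∃ n : ℕ, 2 ≤ n ∧ (∀ x ∈ K, x * x = 1) ∧ Nat.card K = 2 ^ n ∧
        Nat.card (twoPt K t) + 1 = 2 ^ n ∧
        Nonempty (G ≃* Matrix.SpecialLinearGroup (Fin 2) (GaloisField 2 n)) ∧
        Nonempty (G ≃* Matrix.ProjectiveSpecialLinearGroup (Fin 2) (GaloisField 2 n))) ∨
      (IsPGroup 2 K ∧ ¬ IsMulCommutative K ∧ Nat.card K = (Nat.card (twoPt K t) + 1) ^ 2 ∧
        ∃ (F : Type) (_ : Field F) (_ : Fintype F) (m : ℕ), 1 ≤ m ∧
          Fintype.card F = 2 ^ (2 * m + 1) ∧ Nat.card (twoPt K t) + 1 = 2 ^ (2 * m + 1) ∧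
          Nonempty (G ≃* Cfsg.Lie.Sz F (2 ^ (m + 1)))) := by
  have := h.ro.ZT_theorem (by
    rw [h.Dg_eq]
    intro d hd
    have := h.inv d hd
    rwa [H5.inv_eq_self_of_sq h.sq] at this) (h.Dg_eq ▸ h.ne_bot)
  rw [h.Dg_eq] at this
  rcases this with ⟨n, h1, h2, h3, h4, -, h5, h6⟩ | ⟨h1, h2, h3, -, h4⟩
  · exact Or.inl ⟨n, h1, h2, h3, h4, h5, h6⟩
  · exact Or.inr ⟨h1, h2, h3, h4⟩

theorem ZSetup.psl_of_comm [Finite G] {K : Subgroup G} {t : G} (h : ZSetup K t)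
    (hK : IsMulCommutative K) : ∃ n : ℕ, 2 ≤ n ∧
      Nonempty (G ≃* Matrix.ProjectiveSpecialLinearGroup (Fin 2) (GaloisField 2 n)) := by
  rcases h.zt with ⟨n, h1, -, -, -, -, h2⟩ | ⟨-, h2, -⟩
  · exact ⟨n, h1, h2⟩
  · exact absurd hK h2

/-- In the Suzuki case some element centralizer is not a TI subgroup. -/
theorem ZSetup.comm_of_allTI [Finite G] {K : Subgroup G} {t : G} (h : ZSetup K t) (hT : AllTI G)
    (hc : Nat.card K = (Nat.card (twoPt K t) + 1) ^ 2) : IsMulCommutative K := by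
  have Z : Suz.ZT (normalizer (K : Set G)) K t := ⟨h.ro, by
    rw [h.Dg_eq]
    intro d hd
    have := h.inv d hd
    rwa [H5.inv_eq_self_of_sq h.sq] at this, h.Dg_eq ▸ h.ne_bot⟩
  have hq := Z.card_D
  rw [h.Dg_eq] at hq
  set Q := Suz.Q0g K
  have hQK : Q ≤ K := Suz.Q0g_le
  have hQn : ∀ n ∈ normalizer (K : Set G), ∀ x ∈ Q, n * x * n⁻¹ ∈ Q := fun n hn x hx => by
    simpa using Z.toRO.Q0_norm Z.rank2 (inv_mem hn) hx
  refine ⟨⟨fun y w => Subtype.ext ?_⟩⟩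
  by_cases hy : (y : G) ∈ Q
  · exact Z.toRO.Q0_central Z.rank2 hy w.2
  have hy1 : (y : G) ≠ 1 := fun e => hy (e ▸ one_mem Q)
  set U := centralizer ({(y : G)} : Set G)
  have hUK : U ≤ K := fun g hg => h.centTI.cent y y.2 hy1 g (mem_centralizer_singleton_iff.mp hg)
  have hQU : Q ≤ U := fun g hg =>
    mem_centralizer_singleton_iff.mpr (Z.toRO.Q0_central Z.rank2 hg y.2)
  have hyU : (y : G) ∈ U := mem_centralizer_singleton_iff.mpr rfl
  obtain ⟨z, hz, hz1, hzz⟩ := Suz.exists_invol_of_even Z.even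
  have hzQ : z ∈ Q := Suz.mem_Q0g_of hz hzz
  have hN : normalizer (K : Set G) ≤ normalizer (U : Set G) := fun n hn =>
    (hT y).mem_normalizer (hQU hzQ) hz1 (hQU (hQn n hn z hzQ))
  have key : ∀ d ∈ twoPt K t, (y : G)⁻¹ * (d * y * d⁻¹) ∈ Q → d = 1 := by
    intro d hd hq
    by_contra hd1
    have hdK : d ∉ K := fun e => hd1 (h.centTI.twoPt_disjoint h.notMem hd e)
    obtain ⟨n, hn, e⟩ := Frob.exists_commute_of_fpf_of_commutator_mem
      (hQn d (mem_twoPt.mp hd).1) (fun k hk => h.centTI.fpf hdK k (hQK hk)) hq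
    have := h.centTI.fpf hdK _ (mul_mem y.2 (hQK hn)) e
    rw [mul_eq_one_iff_eq_inv] at this
    exact hy (this ▸ inv_mem hn)
  let f : Option (twoPt K t) × Q → U := fun p => match p with
    | (none, w) => ⟨w, hQU w.2⟩
    | (some d, w) => ⟨d * y * (d : G)⁻¹ * w, mul_mem
        (conj_mem_of_mem_normalizer (hN (mem_twoPt.mp d.2).1) hyU) (hQU w.2)⟩
  have hnot : ∀ (d : twoPt K t) (w w' : Q), (d : G) * y * (d : G)⁻¹ * w ≠ w' := by
    intro d w w' e
    apply hy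
    have := hQn _ (inv_mem (mem_twoPt.mp d.2).1) _ (mul_mem w'.2 (inv_mem w.2))
    rw [← e] at this
    convert this using 1; group
  have hf : Function.Injective f := by
    rintro ⟨_ | d, w⟩ ⟨_ | d', w'⟩ e
    · have e' : (w : G) = w' := congrArg (Subtype.val : U → G) e
      rw [Subtype.ext e']
    · exact absurd (congrArg Subtype.val e).symm (hnot d' w' w)
    · exact absurd (congrArg Subtype.val e) (hnot d w w')
    · have e' : (d : G) * y * (d : G)⁻¹ * w = d' * y * (d' : G)⁻¹ * w' := congrArg Subtype.val e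
      have h1 := key _ (mul_mem (inv_mem d'.2) d.2) (by
        have := hQn _ (inv_mem (mem_twoPt.mp d'.2).1) _ (mul_mem w'.2 (inv_mem w.2))
        convert this using 1
        calc (y : G)⁻¹ * ((d' : G)⁻¹ * d * y * ((d' : G)⁻¹ * d)⁻¹) =
            (y : G)⁻¹ * (d' : G)⁻¹ * (d * y * (d : G)⁻¹ * w) * (w : G)⁻¹ * d' := by group
          _ = _ := by rw [e']; group)
      have h2 : d = d' := Subtype.ext (inv_mul_eq_one.mp h1).symm
      subst h2
      rw [Subtype.ext (mul_left_cancel e')]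
  have h1 := Nat.card_le_card_of_injective f hf
  rw [Nat.card_prod, Finite.card_option, hq, ← pow_two, ← hq, ← hc] at h1
  exact (mem_centralizer_singleton_iff.mp ((eq_of_le_of_card_le hUK h1).ge w.2)).symm

theorem AllTI.classification [Finite G] (h : AllTI G) :
    Group.IsNilpotent G ∨
    (∃ H : Subgroup G, IsFrobeniusComplement H ∧
      (IsCyclic H ∨ ∃ m : ℕ, Odd m ∧
        Nonempty (H ≃* Multiplicative (ZMod m) × QuaternionGroup 2))) ∨
    (∃ n : ℕ, 2 ≤ n ∧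
      Nonempty (G ≃* Matrix.ProjectiveSpecialLinearGroup (Fin 2) (GaloisField 2 n))) := by
  rcases h.nilpotent_or_frobenius_or_zSetup with h1 | ⟨H, h1⟩ | ⟨z, t, -, h1⟩
  · exact Or.inl h1
  · exact Or.inr (Or.inl ⟨H, h1, (h.subgroup H).cyclic_or_quaternion h1.hasFPF⟩)
  · rcases h1.zt with ⟨n, h2, -, -, -, -, h3⟩ | ⟨h2, h3, h4, -⟩
    · exact Or.inr (Or.inr ⟨n, h2, h3⟩)
    · exact absurd (h1.comm_of_allTI h h4) h3

theorem ca_trichotomy [Finite G]
    (h : ∀ x y w : G, x ≠ 1 → x * y = y * x → x * w = w * x → y * w = w * y) :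
    Group.IsNilpotent G ∨ (∃ H : Subgroup G, IsFrobeniusComplement H) ∨ ∃ n : ℕ, 2 ≤ n ∧
      Nonempty (G ≃* Matrix.ProjectiveSpecialLinearGroup (Fin 2) (GaloisField 2 n)) := by
  rcases (allTI_of_ca h).nilpotent_or_frobenius_or_zSetup with h1 | h1 | ⟨z, t, hz, h1⟩
  · exact Or.inl h1
  · exact Or.inr (Or.inl h1)
  · refine Or.inr (Or.inr (h1.psl_of_comm ⟨⟨fun a b => Subtype.ext ?_⟩⟩))
    exact h z a b (by rintro rfl; simp at hz) (mem_centralizer_singleton_iff.mp a.2).symm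
      (mem_centralizer_singleton_iff.mp b.2).symm

theorem ca_solvable_or_psl [Finite G]
    (h : ∀ x y w : G, x ≠ 1 → x * y = y * x → x * w = w * x → y * w = w * y) :
    Group.IsSolvable G ∨ ∃ n : ℕ, 2 ≤ n ∧
      Nonempty (G ≃* Matrix.ProjectiveSpecialLinearGroup (Fin 2) (GaloisField 2 n)) := by
  rcases ca_trichotomy h with h1 | ⟨H, h1⟩ | h1
  · exact Or.inl inferInstance
  · exact Or.inl ((allTI_of_ca h).isSolvable_of_isFrobeniusComplement h1)
  · exact Or.inr h1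

end CfsgLib.BSW
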