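import Cfsg.Agent.Lib.BSW.ClsC
import Cfsg.Agent.Lib.BSW.ZT

/-! Centreless groups with at most three non-trivial class sizes. -/

namespace CfsgLib.BSW

open Subgroup Cfsg CfsgLib.Frob

variable {G : Type*} [Group G]

/-- A TI abelian centralizer of an involution containing the centralizers of its elements. -/
theorem CentTI.solvable_or_psl [Finite G] {K : Subgroup G} (h : CentTI K)
    (hK : IsMulCommutative K) {z : G} (hz : orderOf z = 2) (hzK : z ∈ K) :
    Group.IsSolvable G ∨ ∃ n : ℕ, 2 ≤ n ∧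
      Nonempty (G ≃* Matrix.ProjectiveSpecialLinearGroup (Fin 2) (GaloisField 2 n)) := by
  have hs : Group.IsSolvable K := isSolvable_of_isMulCommutative
  by_cases hn : K.Normal
  · left
    refine isSolvable_of_normal_of_quotient K hs (FT.feit_thompson ?_)
    have h2 : 2 ∣ Nat.card K := hz ▸ Subgroup.orderOf_dvd_natCard K hzK
    exact Nat.coprime_two_left.mp (Nat.Coprime.coprime_dvd_left h2 h.coprime_index)
  by_cases hN : normalizer (K : Set G) ≤ K
  · left
    refine isSolvable_of_complement_solvable (h.isFrobeniusComplement hN (fun e => ?_)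
      (fun e => hn (e ▸ inferInstance))) hs
    rw [e, mem_bot] at hzK
    simp [hzK] at hz
  obtain ⟨t, ht⟩ := h.exists_zSetup hz hzK (fun k hk => isMulCommutative_iff'.mp hK k hk z hzK)
    hn hN
  exact Or.inr (ht.psl_of_comm hK)

theorem solvable_or_psl_of_fgroup [Finite G]
    (h : ∀ x y : G, y ≠ 1 → centralizer ({x} : Set G) ≤ centralizer {y} →
      centralizer ({x} : Set G) = centralizer {y}) :
    Group.IsSolvable G ∨ ∃ n : ℕ, 2 ≤ n ∧
      Nonempty (G ≃* Matrix.ProjectiveSpecialLinearGroup (Fin 2) (GaloisField 2 n)) := by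
  rcases Nat.even_or_odd (Nat.card G) with he | ho
  swap
  · exact Or.inl (FT.feit_thompson ho)
  haveI := Fact.mk Nat.prime_two
  obtain ⟨t, ht⟩ := exists_prime_orderOf_dvd_card' (G := G) 2 he.two_dvd
  have ht1 := ne_one_of_orderOf_prime Nat.prime_two ht
  have htt : t * t = 1 := by rw [← sq, ← ht, pow_orderOf_eq_one]
  have h1 : ∀ y ∈ centralizer ({t} : Set G), y * y ≠ 1 →
      centralizer ({t} : Set G) ≤ centralizer {y} := by
    intro y hy hyy
    have hc := mem_cent.mp hy
    have e : (y * t) ^ 2 = y ^ 2 := by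
      rw [Commute.mul_pow hc, sq t, htt, mul_one]
    have e1 := h y (y ^ 2) (by rwa [sq]) (centralizer_le_centralizer_pow y 2)
    have e2 := h (y * t) (y ^ 2) (by rwa [sq]) (e ▸ centralizer_le_centralizer_pow (y * t) 2)
    refine (h y t ht1 fun g hg => ?_).ge
    have g1 := mem_cent.mp hg
    have g2 := mem_cent.mp (e2.ge (e1.le hg))
    rw [mem_cent]
    calc g * t = y⁻¹ * (y * g) * t := by group
      _ = y⁻¹ * (g * (y * t)) := by rw [← g1]; group
      _ = t * g := by rw [g2]; group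
  have hK : IsMulCommutative (centralizer ({t} : Set G)) := by
    rw [isMulCommutative_iff']
    intro a ha b hb
    by_cases haa : a * a = 1
    swap
    · exact (mem_cent.mp (h1 a ha haa hb)).symm
    by_cases hbb : b * b = 1
    swap
    · exact mem_cent.mp (h1 b hb hbb ha)
    by_cases hab : (a * b) * (a * b) = 1
    · calc a * b = (a * a) * (a⁻¹ * b⁻¹) * (b * b) := by group
        _ = b * (b⁻¹ * a⁻¹ * b⁻¹ * a⁻¹) * a := by rw [haa, hbb]; group
        _ = b * ((a * b) * (a * b))⁻¹ * a := by group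
        _ = b * a := by rw [hab]; group
    · have := mem_cent.mp (h1 _ (mul_mem ha hb) hab ha)
      rw [mul_assoc] at this
      exact mul_left_cancel this
  refine (centTI_of_cent_le (fun w hw hw1 => (h t w hw1 fun g hg => ?_).ge) ht1).solvable_or_psl
    hK ht (self_mem_cent t)
  exact mem_cent.mpr (isMulCommutative_iff'.mp hK g hg w hw)

theorem solvable_or_psl_of_three_sizes [Finite G] (hZ : center G = ⊥)
    (h : Nat.card {n : ℕ | 1 < n ∧ ∃ x : G, (centralizer ({x} : Set G)).index = n} ≤ 3) :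
    Group.IsSolvable G ∨ ∃ n : ℕ, 2 ≤ n ∧
      Nonempty (G ≃* Matrix.ProjectiveSpecialLinearGroup (Fin 2) (GaloisField 2 n)) := by
  by_cases hF : ∀ x y : G, y ≠ 1 → centralizer ({x} : Set G) ≤ centralizer {y} →
      centralizer ({x} : Set G) = centralizer {y}
  · exact solvable_or_psl_of_fgroup hF
  left
  push Not at hF
  obtain ⟨w, x, hx1, hle, hne⟩ := hF
  obtain ⟨m, hm⟩ : cidx x ∣ cidx w := index_dvd_of_le hle
  have hm0 : m ≠ 0 := by rintro rfl; exact cidx_ne_zero w (by simpa using hm)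
  have hm1 : m ≠ 1 := by rintro rfl; exact hne (cent_eq_of_le hle (by simpa using hm.symm))
  have ha := one_lt_cidx hZ hx1
  have hw : 1 < cidx w := by rw [hm]; nlinarith [Nat.pos_of_ne_zero hm0]
  have hw1 : w ≠ 1 := by
    rintro rfl
    rw [cidx, index_centralizer_eq_one_iff.mpr (one_mem _)] at hw
    exact lt_irrefl _ hw
  have hxw : cidx x ≠ cidx w := fun e => hne (cent_eq_of_le hle e)
  have key : ∀ p : ℕ, p.Prime → p ∣ cidx x → ∃ y : G, y ≠ 1 ∧ ¬ p ∣ cidx y := fun p hp hd => by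
    obtain ⟨y, hy, hy'⟩ := exists_order_not_dvd_cidx hp (hd.trans (index_dvd_card _))
    exact ⟨y, ne_one_of_orderOf_prime hp hy, hy'⟩
  obtain ⟨p, hp, hd⟩ := Nat.exists_prime_and_dvd ha.ne'
  obtain ⟨y, hy1, hy⟩ := key p hp hd
  have hxy : cidx x ≠ cidx y := fun e => hy (e ▸ hd)
  have hwy : cidx w ≠ cidx y := fun e => hy (e ▸ hm ▸ hd.mul_right m)
  set S := {n : ℕ | 1 < n ∧ ∃ x : G, (centralizer ({x} : Set G)).index = n}
  have hfin : S.Finite := (Set.finite_range (cidx (G := G))).subset fun n hn => hn.2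
  have hS : ({cidx x, cidx w, cidx y} : Set ℕ) = S := by
    refine Set.eq_of_subset_of_ncard_le ?_ ?_ hfin
    · rintro n (rfl | rfl | rfl)
      exacts [⟨ha, x, rfl⟩, ⟨hw, w, rfl⟩, ⟨one_lt_cidx hZ hy1, y, rfl⟩]
    · rw [Set.ncard_eq_three.mpr ⟨_, _, _, hxw, hxy, hwy, rfl⟩, ← Nat.card_coe_set_eq]
      exact h
  have hsz : ∀ g : G, g ≠ 1 → cidx g = cidx x ∨ cidx g = cidx x * m ∨ cidx g = cidx y := by
    intro g hg
    have : cidx g ∈ S := ⟨one_lt_cidx hZ hg, g, rfl⟩
    rw [← hS, hm] at this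
    exact this
  refine Three.isSolvable (a := cidx x) (b := cidx y) (m := m)
    ⟨hZ, hsz, Nat.coprime_of_dvd fun r hr h1 h2 => ?_, by omega, ⟨x, hx1, rfl⟩, ⟨w, hw1, hm⟩,
      ⟨y, hy1, rfl⟩⟩
  obtain ⟨z, hz1, hz⟩ := key r hr h1
  rcases hsz z hz1 with e | e | e
  · exact hz (e ▸ h1)
  · exact hz (e ▸ h1.mul_right m)
  · exact hz (e ▸ h2)

end CfsgLib.BSW
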