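import Cfsg.Agent.Lib.BSW.SelfNorm
import Cfsg.Agent.Lib.BSW.ZT
import Cfsg.Agent.Lib.H5SL2Even

/-! `SL₂(2ⁿ)`: non-abelian subgroups are self-normalizing exactly when `2ⁿ - 1` is prime. -/

namespace CfsgLib.BSW

open Subgroup Cfsg CfsgLib.Frob

abbrev SL2 (F : Type*) [Field F] := Matrix.SpecialLinearGroup (Fin 2) F

section
variable {F : Type*} [Field F]

theorem SL2.det (A : SL2 F) : A 0 0 * A 1 1 - A 0 1 * A 1 0 = 1 := by
  have := A.det_coe
  rwa [Matrix.det_fin_two] at this

theorem SL2.mul_apply (A B : SL2 F) (i j : Fin 2) :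
    (A * B) i j = A i 0 * B 0 j + A i 1 * B 1 j := by
  simp [Matrix.mul_apply, Fin.sum_univ_two]

theorem SL2.ext' {A B : SL2 F} (h00 : A 0 0 = B 0 0) (h01 : A 0 1 = B 0 1) (h10 : A 1 0 = B 1 0)
    (h11 : A 1 1 = B 1 1) : A = B := by
  ext i j
  fin_cases i <;> fin_cases j <;> assumption

theorem SL2.inv_apply (A : SL2 F) : A⁻¹ 0 0 = A 1 1 ∧ A⁻¹ 0 1 = -A 0 1 ∧ A⁻¹ 1 0 = -A 1 0 ∧
    A⁻¹ 1 1 = A 0 0 := by
  simp [Matrix.SpecialLinearGroup.coe_inv, Matrix.adjugate_fin_two]

noncomputable def pslEquiv (F : Type*) [Field F] [CharP F 2] :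
    Matrix.ProjectiveSpecialLinearGroup (Fin 2) F ≃* SL2 F :=
  (QuotientGroup.quotientMulEquivOfEq H5.center_SL2_eq_bot).trans QuotientGroup.quotientBot

theorem SL2.ca [CharP F 2] (x y w : SL2 F) (hx : x ≠ 1) (hy : x * y = y * x)
    (hw : x * w = w * x) : y * w = w * y :=
  H5.SL2_commute_trans (by rw [H5.center_SL2_eq_bot, mem_bot]; exact hx) hy hw

theorem SL2.exists_lin [CharP F 2] {x y : SL2 F} (hx : x ≠ 1) (hy : x * y = y * x) :
    ∃ a b : F, y 0 0 = a + b * x 0 0 ∧ y 0 1 = b * x 0 1 ∧ y 1 0 = b * x 1 0 ∧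
      y 1 1 = a + b * x 1 1 := by
  obtain ⟨h1, h2, h3⟩ := (H5.matrix_two_commute_iff x.1 y.1).mp (congrArg Subtype.val hy)
  change x 0 1 * y 1 0 = y 0 1 * x 1 0 at h1
  change (x 0 0 - x 1 1) * y 0 1 = (y 0 0 - y 1 1) * x 0 1 at h2
  change (x 0 0 - x 1 1) * y 1 0 = (y 0 0 - y 1 1) * x 1 0 at h3
  suffices ∃ b : F, y 0 0 - y 1 1 = b * (x 0 0 - x 1 1) ∧ y 0 1 = b * x 0 1 ∧
      y 1 0 = b * x 1 0 by
    obtain ⟨b, e1, e2, e3⟩ := this
    exact ⟨y 0 0 - b * x 0 0, b, by ring, e2, e3, by linear_combination -e1⟩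
  by_cases hb : x 0 1 = 0
  · by_cases hc : x 1 0 = 0
    · have ha : x 0 0 - x 1 1 ≠ 0 := by
        intro h
        apply hx
        have hd := x.det
        have h2' : (2 : F) = 0 := CharP.cast_eq_zero F 2
        have e : x 1 1 = x 0 0 := (sub_eq_zero.mp h).symm
        rw [hb, e] at hd
        have : (x 0 0 - 1) ^ 2 = 0 := by linear_combination hd + (1 - x 0 0) * h2'
        have e0 : x 0 0 = 1 := sub_eq_zero.mp (pow_eq_zero_iff two_ne_zero |>.mp this)
        exact SL2.ext' (by simpa using e0) (by simpa using hb) (by simpa using hc)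
          (by simpa [e] using e0)
      refine ⟨(y 0 0 - y 1 1) / (x 0 0 - x 1 1), by field_simp, ?_, ?_⟩
      · field_simp; linear_combination h2
      · field_simp; linear_combination h3
    · refine ⟨y 1 0 / x 1 0, ?_, ?_, by field_simp⟩
      · field_simp; linear_combination -h3
      · field_simp; linear_combination -h1
  · refine ⟨y 0 1 / x 0 1, ?_, by field_simp, ?_⟩
    · field_simp; linear_combination -h2
    · field_simp; linear_combination h1

theorem SL2.trace_conj (g x : SL2 F) : (g * x * g⁻¹) 0 0 + (g * x * g⁻¹) 1 1 = x 0 0 + x 1 1 := by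
  obtain ⟨h1, h2, h3, h4⟩ := SL2.inv_apply g
  simp only [SL2.mul_apply, h1, h2, h3, h4]
  linear_combination (x 0 0 + x 1 1) * g.det

theorem SL2.conj_eq_or [CharP F 2] {x : SL2 F} (htr : x 0 0 + x 1 1 ≠ 0) (g : SL2 F)
    (hc : x * (g * x * g⁻¹) = (g * x * g⁻¹) * x) : g * x * g⁻¹ = x ∨ g * x * g⁻¹ = x⁻¹ := by
  have h2' : (2 : F) = 0 := CharP.cast_eq_zero F 2
  have hx : x ≠ 1 := by
    rintro rfl
    apply htr
    simpa [one_add_one_eq_two] using h2'
  have ht := SL2.trace_conj g x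
  set y := g * x * g⁻¹
  obtain ⟨a, b, e1, e2, e3, e4⟩ := SL2.exists_lin hx hc
  have hb : b = 1 := by
    have : (b - 1) * (x 0 0 + x 1 1) = 0 := by
      linear_combination ht - e1 - e4 - a * h2'
    exact sub_eq_zero.mp ((mul_eq_zero.mp this).resolve_right htr)
  subst hb
  have hd := y.det
  rw [e1, e2, e3, e4] at hd
  have : a * (a + (x 0 0 + x 1 1)) = 0 := by linear_combination hd - x.det
  obtain ⟨i1, i2, i3, i4⟩ := SL2.inv_apply x
  rcases mul_eq_zero.mp this with ha | ha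
  · left
    exact SL2.ext' (by rw [e1, ha]; ring) (by rw [e2]; ring) (by rw [e3]; ring)
      (by rw [e4, ha]; ring)
  · right
    refine SL2.ext' ?_ ?_ ?_ ?_
    · rw [e1, i1]; linear_combination ha - x 1 1 * h2'
    · rw [e2, i2]; linear_combination x 0 1 * h2'
    · rw [e3, i3]; linear_combination x 1 0 * h2'
    · rw [e4, i4]; linear_combination ha - x 0 0 * h2'

theorem SL2.card_centralizer [CharP F 2] {x : SL2 F} (hx : x ≠ 1) (htr : x 0 0 + x 1 1 = 0) :
    Nat.card (centralizer ({x} : Set (SL2 F))) = Nat.card F := by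
  have h2' : (2 : F) = 0 := CharP.cast_eq_zero F 2
  have hd := x.det
  let f : F → SL2 F := fun b => ⟨!![1 + b + b * x 0 0, b * x 0 1; b * x 1 0, 1 + b + b * x 1 1], by
    rw [Matrix.det_fin_two]
    simp only [Matrix.of_apply, Matrix.cons_val', Matrix.cons_val_zero, Matrix.cons_val_one,
      Matrix.cons_val_fin_one]
    linear_combination b ^ 2 * hd + (b + b ^ 2) * htr + (b + b ^ 2) * h2'⟩
  have f00 : ∀ b, f b 0 0 = 1 + b + b * x 0 0 := fun _ => rfl
  have f01 : ∀ b, f b 0 1 = b * x 0 1 := fun _ => rfl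
  have f10 : ∀ b, f b 1 0 = b * x 1 0 := fun _ => rfl
  have f11 : ∀ b, f b 1 1 = 1 + b + b * x 1 1 := fun _ => rfl
  have hf : ∀ b, f b ∈ centralizer ({x} : Set (SL2 F)) := fun b => by
    rw [mem_centralizer_singleton_iff]
    refine SL2.ext' ?_ ?_ ?_ ?_ <;> simp only [SL2.mul_apply, f00, f01, f10, f11] <;> ring
  symm
  refine Nat.card_congr (Equiv.ofBijective (fun b => ⟨f b, hf b⟩) ⟨fun b c h => ?_, fun y => ?_⟩)
  · have h' : f b = f c := congrArg Subtype.val h
    by_contra hbc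
    have hbc' : b - c ≠ 0 := sub_ne_zero.mpr hbc
    apply hx
    have e1 : (b - c) * (x 0 0 - 1) = 0 := by
      have := f00 b; rw [h', f00] at this; linear_combination -this - (b - c) * h2'
    have e2 : (b - c) * x 0 1 = 0 := by
      have := f01 b; rw [h', f01] at this; linear_combination -this
    have e3 : (b - c) * x 1 0 = 0 := by
      have := f10 b; rw [h', f10] at this; linear_combination -this
    have e4 : (b - c) * (x 1 1 - 1) = 0 := by
      have := f11 b; rw [h', f11] at this; linear_combination -this - (b - c) * h2'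
    refine SL2.ext' ?_ ?_ ?_ ?_
    · simpa using sub_eq_zero.mp ((mul_eq_zero.mp e1).resolve_left hbc')
    · simpa using (mul_eq_zero.mp e2).resolve_left hbc'
    · simpa using (mul_eq_zero.mp e3).resolve_left hbc'
    · simpa using sub_eq_zero.mp ((mul_eq_zero.mp e4).resolve_left hbc')
  · obtain ⟨a, b, e1, e2, e3, e4⟩ := SL2.exists_lin hx (mem_centralizer_singleton_iff.mp y.2).symm
    have hd' := y.1.det
    rw [e1, e2, e3, e4] at hd'
    have : (a - (1 + b)) ^ 2 = 0 := by
      linear_combination hd' - b ^ 2 * hd - a * b * htr + (1 + b - a - a * b) * h2'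
    have ha : a = 1 + b := sub_eq_zero.mp (pow_eq_zero_iff two_ne_zero |>.mp this)
    refine ⟨b, Subtype.ext (SL2.ext' ?_ ?_ ?_ ?_)⟩
    · change f b 0 0 = _; rw [f00, e1, ha]
    · change f b 0 1 = _; rw [f01, e2]
    · change f b 1 0 = _; rw [f10, e3]
    · change f b 1 1 = _; rw [f11, e4, ha]

/-- A subgroup `L` acting fixed-point-freely on a centralizer has prime order or is trivial. -/
theorem SL2.card_dvd_prime [CharP F 2] [Finite F] (hp : (Nat.card F - 1).Prime) {x : SL2 F}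
    (hx : x ≠ 1) {L : Subgroup (SL2 F)} (hL : ∀ l ∈ L, x * (l * x * l⁻¹) = (l * x * l⁻¹) * x)
    (hf : ∀ l ∈ L, l * x = x * l → l = 1) : ∃ p : ℕ, p.Prime ∧ Nat.card L ∣ p := by
  by_cases htr : x 0 0 + x 1 1 = 0
  · refine ⟨_, hp, ?_⟩
    rw [← SL2.card_centralizer hx htr]
    have hxx : x ∈ centralizer ({x} : Set (SL2 F)) := mem_centralizer_singleton_iff.mpr rfl
    have hn : L ≤ normalizer ((centralizer ({x} : Set (SL2 F)) : Subgroup (SL2 F)) :
        Set (SL2 F)) := fun l hl =>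
      ((allTI_of_ca SL2.ca) x).mem_normalizer hxx hx
        (mem_centralizer_singleton_iff.mpr (hL l hl).symm)
    refine (isFPF_conjOn hn fun l hl hl1 k hk hc => ?_).card_dvd_card_sub_one
    by_contra hk1
    exact hl1 (hf l hl (SL2.ca k l x hk1 hc.symm (mem_centralizer_singleton_iff.mp hk)))
  · refine ⟨2, Nat.prime_two, ?_⟩
    have h1 : Nat.card L ≤ Nat.card ({x, x⁻¹} : Set (SL2 F)) := by
      refine Nat.card_le_card_of_injective
        (fun l : L => (⟨l * x * (l : SL2 F)⁻¹, SL2.conj_eq_or htr l (hL l l.2)⟩ :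
          ({x, x⁻¹} : Set (SL2 F)))) fun l m h => ?_
      have h' : (l : SL2 F) * x * (l : SL2 F)⁻¹ = m * x * (m : SL2 F)⁻¹ := congrArg Subtype.val h
      have := hf _ (mul_mem (inv_mem m.2) l.2) (by
        calc (m : SL2 F)⁻¹ * l * x = (m : SL2 F)⁻¹ * (l * x * (l : SL2 F)⁻¹) * l := by group
          _ = _ := by rw [h']; group)
      exact Subtype.ext (inv_mul_eq_one.mp this).symm
    have h2 : Nat.card ({x, x⁻¹} : Set (SL2 F)) ≤ 2 := by
      rw [Nat.card_coe_set_eq]
      exact (Set.ncard_insert_le _ _).trans (by rw [Set.ncard_singleton])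
    have h3 : 0 < Nat.card L := Nat.card_pos
    have h4 : Nat.card L ≤ 2 := h1.trans h2
    interval_cases Nat.card L <;> norm_num

theorem SL2.sn [CharP F 2] [Finite F] (hp : (Nat.card F - 1).Prime) : SN (SL2 F) := by
  intro H hH
  refine le_antisymm ?_ le_normalizer
  set M := normalizer (H : Set (SL2 F))
  have hHM : H ≤ M := le_normalizer
  have hca : ∀ x y w : M, x ≠ 1 → x * y = y * x → x * w = w * x → y * w = w * y :=
    fun x y w hx hy hw => Subtype.ext (SL2.ca x.1 y.1 w.1 (fun e => hx (Subtype.ext e))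
      (congrArg Subtype.val hy) (congrArg Subtype.val hw))
  have hH' : ¬ IsMulCommutative (H.subgroupOf M) := by
    intro hc
    apply hH
    rw [isMulCommutative_iff'] at hc ⊢
    intro a ha b hb
    exact congrArg Subtype.val (hc ⟨a, hHM ha⟩ ha ⟨b, hHM hb⟩ hb)
  have hnil : ∀ K : Subgroup M, Group.IsNilpotent K → IsMulCommutative K := by
    intro K hK
    rw [isMulCommutative_iff']
    by_cases hb : K = ⊥
    · intro a ha b hb'
      rw [hb, mem_bot] at ha hb'
      rw [ha, hb']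
    obtain ⟨z, hz, hz1⟩ := (bot_or_exists_ne_one _).resolve_left
      (inf_centralizer_ne_bot_of_isNilpotent hK le_rfl le_normalizer hb)
    intro a ha b hb'
    exact hca z a b hz1 (mem_centralizer_iff.mp hz.2 a ha).symm
      (mem_centralizer_iff.mp hz.2 b hb').symm
  suffices H.subgroupOf M = ⊤ from subgroupOf_eq_top.mp this
  rcases ca_trichotomy hca with h1 | ⟨L, h1⟩ | ⟨n, hn, ⟨e⟩⟩
  · exact absurd (hnil _ inferInstance) hH'
  · obtain ⟨K, hK⟩ := h1.exists_isFrobeniusPair
    haveI := hK.normal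
    have hKc := hnil K (H5.isNilpotent_of_isFrobeniusPair hK)
    have hKH : K ≤ H.subgroupOf M := by
      refine (hK.isFrobeniusKernel.le_or_ge (H.subgroupOf M)).resolve_left fun hle => hH' ?_
      rw [isMulCommutative_iff'] at hKc ⊢
      exact fun a ha b hb => hKc a (hle ha) b (hle hb)
    obtain ⟨x, hx, hx1⟩ := (bot_or_exists_ne_one _).resolve_left hK.ker_ne_bot
    obtain ⟨p, hp', hd⟩ := SL2.card_dvd_prime hp (x := x) (fun e => hx1 (Subtype.ext e))
      (L := L.map M.subtype) (by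
        rintro _ ⟨l, hl, rfl⟩
        exact congrArg Subtype.val (isMulCommutative_iff'.mp hKc x hx _
          (hK.normal.conj_mem x hx l))) (by
        rintro _ ⟨l, hl, rfl⟩ hc
        by_contra h1
        exact hx1 (hK.fpf l hl (fun e => h1 (congrArg Subtype.val e)) x hx (Subtype.ext hc)))
    rw [card_map_subtype, hK.card_eq_index] at hd
    have h2 := (index_dvd_of_le hKH).trans hd
    rcases (Nat.dvd_prime hp').mp h2 with h3 | h3
    · exact index_eq_one.mp h3
    · exfalso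
      apply hH'
      have h4 := relIndex_mul_index hKH
      have h5 : K.index = p := Nat.dvd_antisymm hd (h3 ▸ index_dvd_of_le hKH)
      rw [h3, h5] at h4
      have h6 : K.relIndex (H.subgroupOf M) = 1 :=
        Nat.eq_of_mul_eq_mul_right hp'.pos (by rw [h4, one_mul])
      rw [relIndex_eq_one] at h6
      rw [isMulCommutative_iff'] at hKc ⊢
      exact fun a ha b hb => hKc a (h6 ha) b (h6 hb)
  · haveI : IsSimpleGroup (Matrix.ProjectiveSpecialLinearGroup (Fin 2) (GaloisField 2 n)) := by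
      apply Matrix.ProjectiveSpecialLinearGroup.rank_two_simple
      rw [GaloisField.card 2 n (by omega)]
      exact Nat.pow_le_pow_right (n := 2) (by norm_num) hn
    haveI : IsSimpleGroup M := e.isSimpleGroup
    refine (IsSimpleGroup.eq_bot_or_eq_top_of_normal _ inferInstance).resolve_left fun hb => hH' ?_
    rw [hb]; infer_instance

theorem SL2.prime_of_sn [CharP F 2] [Finite F] (h2 : 2 < Nat.card F) (h : SN (SL2 F)) :
    (Nat.card F - 1).Prime := by
  rw [Nat.prime_def_lt]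
  refine ⟨by omega, fun a ha hd => ?_⟩
  by_contra ha1
  obtain ⟨ζ, hζ⟩ := IsCyclic.exists_ofOrder_eq_natCard (α := Fˣ)
  rw [Nat.card_units] at hζ
  have ha0 : a ≠ 0 := by rintro rfl; simp at hd; omega
  let H : Subgroup (SL2 F) :=
    { carrier := {A | A 1 0 = 0 ∧ A 0 0 ^ a = 1}
      one_mem' := by simp
      mul_mem' := fun {A B} hA hB => by
        refine ⟨?_, ?_⟩
        · rw [SL2.mul_apply, hA.1, hB.1]; ring
        · rw [SL2.mul_apply, hB.1, mul_zero, add_zero, mul_pow, hA.2, hB.2, one_mul]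
      inv_mem' := fun {A} hA => by
        obtain ⟨i1, -, i3, -⟩ := SL2.inv_apply A
        refine ⟨by rw [i3, hA.1, neg_zero], ?_⟩
        have hd := A.det
        rw [hA.1, mul_zero, sub_zero] at hd
        have := congrArg (· ^ a) hd
        simp only [mul_pow, hA.2, one_mul, one_pow] at this
        rw [i1, this] }
  let dg : Fˣ → SL2 F := fun u => ⟨!![(u : F), 0; 0, ((u⁻¹ : Fˣ) : F)], by
    rw [Matrix.det_fin_two]; simp⟩
  let U : SL2 F := ⟨!![1, 1; 0, 1], by rw [Matrix.det_fin_two]; simp⟩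
  have hω : orderOf (ζ ^ ((Nat.card F - 1) / a)) = a := by
    rw [← hζ] at hd ⊢
    exact orderOf_pow_orderOf_div (orderOf_pos ζ).ne' hd
  set ω := ζ ^ ((Nat.card F - 1) / a)
  have hH : ¬ IsMulCommutative H := by
    intro hc
    have := isMulCommutative_iff'.mp hc (dg ω) ⟨rfl, by
      change (ω : F) ^ a = 1
      rw [← Units.val_pow_eq_pow_val, ← hω, pow_orderOf_eq_one, Units.val_one]⟩ U ⟨rfl, by
      change (1 : F) ^ a = 1
      simp⟩
    have e := congrArg (fun A : SL2 F => A 0 1) this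
    simp only [SL2.mul_apply] at e
    change (ω : F) * 1 + 0 * 1 = 1 * 0 + 1 * ((ω⁻¹ : Fˣ) : F) at e
    have h2' : (2 : F) = 0 := CharP.cast_eq_zero F 2
    have e1 : (ω : F) * ((ω⁻¹ : Fˣ) : F) = 1 := by simp
    have : ((ω : F) - 1) ^ 2 = 0 := by linear_combination (ω : F) * e + e1 + (1 - (ω : F)) * h2'
    have e2 : ω = 1 := Units.ext (sub_eq_zero.mp (pow_eq_zero_iff two_ne_zero |>.mp this))
    rw [e2, orderOf_one] at hω
    exact ha1 hω.symm
  have hN : dg ζ ∈ normalizer (H : Set (SL2 F)) := by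
    refine mem_normalizer_of_conj_mem fun A hA => ?_
    obtain ⟨i1, -, i3, -⟩ := SL2.inv_apply (dg ζ)
    have d00 : dg ζ 0 0 = ζ := rfl
    have d01 : dg ζ 0 1 = 0 := rfl
    have d10 : dg ζ 1 0 = 0 := rfl
    have d11 : dg ζ 1 1 = ((ζ⁻¹ : Fˣ) : F) := rfl
    refine ⟨?_, ?_⟩
    · simp only [SL2.mul_apply, i1, i3, d10, hA.1]; ring
    · have : (dg ζ * A * (dg ζ)⁻¹) 0 0 = A 0 0 := by
        simp only [SL2.mul_apply, i1, i3, d00, d01, d10, d11]
        have e1 : (ζ : F) * ((ζ⁻¹ : Fˣ) : F) = 1 := by simp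
        linear_combination A 0 0 * e1
      rw [this]; exact hA.2
  rw [h H hH] at hN
  have h3 : ζ ^ a = 1 := Units.ext (by rw [Units.val_pow_eq_pow_val]; exact hN.2)
  have := Nat.le_of_dvd (Nat.pos_of_ne_zero ha0) (orderOf_dvd_of_pow_eq_one h3)
  omega

end

theorem sn_iff {G : Type*} [Group G] [Finite G] [IsSimpleGroup G] (hna : ¬ IsMulCommutative G) :
    SN G ↔ ∃ n : ℕ, 2 ≤ n ∧ (2 ^ n - 1).Prime ∧
      Nonempty (G ≃* Matrix.ProjectiveSpecialLinearGroup (Fin 2) (GaloisField 2 n)) := by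
  constructor
  · intro h
    rcases ca_solvable_or_psl (h.ca hna) with h1 | ⟨n, hn, ⟨e⟩⟩
    · exact absurd h1 (not_isSolvable_of_simple hna)
    · refine ⟨n, hn, ?_, ⟨e⟩⟩
      have hc := GaloisField.card 2 n (by omega)
      rw [← hc]
      let e' := e.trans (pslEquiv _)
      refine SL2.prime_of_sn ?_ (h.of_injective e'.symm.toMonoidHom e'.symm.injective)
      rw [hc]
      exact lt_of_lt_of_le (by norm_num) (Nat.pow_le_pow_right (n := 2) (by norm_num) hn)
  · rintro ⟨n, hn, hp, ⟨e⟩⟩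
    have hc := GaloisField.card 2 n (by omega)
    let e' := e.trans (pslEquiv _)
    exact (SL2.sn (by rwa [hc])).of_injective e'.toMonoidHom e'.injective

end CfsgLib.BSW
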