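import Cfsg.Agent.Lib.BSW.MaxCl
import Cfsg.Agent.Lib.BSW.SL2SN
import Cfsg.Agent.Lib.H5SL2Tori
import Cfsg.Agent.Lib.SL2Card

/-! Products of involutions in `SL₂(2ⁿ)` and in the Brauer–Suzuki–Wall configuration. -/

namespace CfsgLib.BSW

open Subgroup Cfsg MatrixGroups CfsgLib.H1 CfsgLib.H5

variable {G : Type*} [Group G]

/-- Some product of two involutions is not conjugate into `K`. -/
theorem Setup.exists_not_inK [Finite G] {K : Subgroup G} {t s : G} (h : Setup K t s) :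
    ∃ u v : G, orderOf u = 2 ∧ orderOf v = 2 ∧ ¬ InK K (u * v) := by
  by_contra hc
  push Not at hc
  have key : ∀ g a : G, Commute a (g * t * g⁻¹) ↔ g⁻¹ * a * g * t = t * (g⁻¹ * a * g) := by
    intro g a
    constructor
    · intro e
      calc g⁻¹ * a * g * t = g⁻¹ * (a * (g * t * g⁻¹)) * g := by group
        _ = _ := by rw [e.eq]; group
    · intro e
      calc a * (g * t * g⁻¹) = g * (g⁻¹ * a * g * t) * g⁻¹ := by group
        _ = _ := by rw [e]; group
  have hK : ∀ g a : G, orderOf a = 2 → g * t * g⁻¹ ≠ a → g⁻¹ * a * g ∉ K := fun g a ha hne e => by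
    have := orderOf_eq_two_iff'.mp ((orderOf_conj'' g a).trans ha)
    exact hne (by rw [← (h.uniq _ e this.1).resolve_left this.2]; group)
  obtain ⟨v, hv, hall⟩ := exists_involution_commute_all h.ord fun a b ha hb hab => by
    have ha2 : a ^ 2 = 1 := by rw [← ha, pow_orderOf_eq_one]
    have hb2 : b ^ 2 = 1 := by rw [← hb, pow_orderOf_eq_one]
    have hab1 : a * b ≠ 1 := fun e => hab (by
      rw [eq_inv_of_mul_eq_one_left e, inv_eq_self_of_sq hb2])
    obtain ⟨g, hg⟩ := hc a b ha hb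
    rw [← inv_inv g] at hg
    generalize g⁻¹ = g at hg
    rw [inv_inv] at hg
    have hcm : ∀ c, c * (a * b) * c⁻¹ = (a * b)⁻¹ → Commute c (g * t * g⁻¹) := fun c hc =>
      (key g c).mpr (h.ti hg (by simpa using conj_ne_one (g := g⁻¹) hab1) (by
        rw [show g⁻¹ * c * g * (g⁻¹ * (a * b) * g) * (g⁻¹ * c * g)⁻¹ =
          g⁻¹ * (c * (a * b) * c⁻¹) * g by group, hc]
        simpa [mul_assoc] using inv_mem hg))
    have h1 := hcm a (inverts_mul_left ha2 hb2)
    have h2 := hcm b (inverts_mul_right ha2 hb2)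
    have h3 : Commute a b → g * t * g⁻¹ = a * b := fun e => by
      have : g⁻¹ * (a * b) * g * (g⁻¹ * (a * b) * g) = 1 := by
        rw [show g⁻¹ * (a * b) * g * (g⁻¹ * (a * b) * g) = g⁻¹ * (a * b) ^ 2 * g by
          rw [pow_two]; group, e.mul_pow, ha2, hb2]
        group
      rw [← (h.uniq _ hg this).resolve_left (by simpa using conj_ne_one (g := g⁻¹) hab1)]; group
    refine ⟨g * t * g⁻¹, ⟨by rw [orderOf_conj', h.ord], fun e => ?_, fun e => ?_, h1, h2⟩, ?_⟩
    · have := h3 (e ▸ h2.symm)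
      rw [e, left_eq_mul] at this
      simp [this] at hb
    · have := h3 (e ▸ h1)
      rw [e, right_eq_mul] at this
      simp [this] at ha
    · rintro u ⟨hu, hua, hub, h4, h5⟩
      obtain ⟨k, rfl⟩ := h.conj u hu
      have h6 := h.mul_mem ((key k a).mp h4) (hK k a ha hua) ((key k b).mp h5) (hK k b hb hub)
      have h7 := h.ti (g := k⁻¹ * g) hg (by simpa using conj_ne_one (g := g⁻¹) hab1) (by
        rwa [show k⁻¹ * g * (g⁻¹ * (a * b) * g) * (k⁻¹ * g)⁻¹ = k⁻¹ * a * k * (k⁻¹ * b * k) by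
          group])
      calc k * t * k⁻¹ = k * (t * (k⁻¹ * g)) * g⁻¹ := by group
        _ = _ := by rw [← h7]; group
  obtain ⟨x, hx, hx2⟩ := h.exists_not_sq
  have hs : orderOf s = 2 := orderOf_eq_two_iff'.mpr ⟨h.ss, fun e => h.s_notMem (e ▸ one_mem _)⟩
  have hsx : s * x ∉ K := fun e => h.s_notMem ((K.mul_mem_cancel_right hx).mp e)
  have hsx2 : orderOf (s * x) = 2 := orderOf_eq_two_iff'.mpr ⟨h.sq _ (by
    rw [mul_assoc, h.le x hx, ← mul_assoc, h.s_comm, mul_assoc]) hsx,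
    fun e => hsx (e ▸ one_mem _)⟩
  obtain ⟨g, rfl⟩ := h.conj v hv
  obtain ⟨k, hk⟩ := h.conj s hs
  have h1 := (key g _).mp (hall (g * k⁻¹ * (s * x) * (g * k⁻¹)⁻¹)
    (by rw [orderOf_conj', hsx2])).symm
  have h2 : s * x * s = s * (s * x) := by
    calc s * x * s = s * x * (k * t * k⁻¹) := by rw [hk]
      _ = k * (g⁻¹ * (g * k⁻¹ * (s * x) * (g * k⁻¹)⁻¹) * g * t) * k⁻¹ := by group
      _ = k * t * k⁻¹ * (s * x) := by rw [h1]; group
      _ = _ := by rw [hk]
  have h3 := h.inverts h.s_comm h.s_notMem hx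
  rw [mul_assoc, mul_left_cancel_iff] at h2
  rw [← h2, mul_inv_cancel_right] at h3
  exact hx2 (mul_eq_one_iff_eq_inv.mpr h3)

theorem SL2_exists_inverting {F : Type*} [Field F] [CharP F 2] (x : SL(2, F)) :
    ∃ s : SL(2, F), s ^ 2 = 1 ∧ s * x * s⁻¹ = x⁻¹ := by
  have h2 : (2 : F) = 0 := CharP.cast_eq_zero F 2
  have key : ∀ y : SL(2, F), y 0 0 + y 1 1 = 0 → y * y = 1 := fun y hy => by
    have hd := SL2_det y
    apply SL2_ext <;> simp [SL2_mul_apply]
    · linear_combination y 0 0 * hy - hd - h2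
    · linear_combination y 0 1 * hy
    · linear_combination y 1 0 * hy
    · linear_combination y 1 1 * hy - hd - h2
  suffices ∃ s : SL(2, F), s 0 0 + s 1 1 = 0 ∧ (s * x) 0 0 + (s * x) 1 1 = 0 by
    obtain ⟨s, h3, h4⟩ := this
    refine ⟨s, by rw [sq, key s h3], ?_⟩
    rw [← eq_inv_of_mul_eq_one_left (key s h3), ← mul_eq_one_iff_eq_inv, mul_assoc, key _ h4]
  by_cases hc : x 1 0 = 0
  · by_cases hb : x 0 1 = 0
    · refine ⟨⟨!![0, 1; 1, 0], by rw [Matrix.det_fin_two_of]; linear_combination -h2⟩, ?_, ?_⟩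
      · exact add_zero 0
      · erw [SL2_mul_apply, SL2_mul_apply, hb, hc]
        change 0 * _ + _ + (_ + 0 * _) = _
        ring
    · refine ⟨⟨!![1, 0; (x 0 0 + x 1 1) / x 0 1, 1], by rw [Matrix.det_fin_two_of]; ring⟩, ?_, ?_⟩
      · simpa [one_add_one_eq_two] using h2
      · erw [SL2_mul_apply, SL2_mul_apply]
        change 1 * _ + 0 * _ + ((x 0 0 + x 1 1) / x 0 1 * _ + 1 * _) = _
        field_simp
        linear_combination (x 0 0 + x 1 1) * h2
  · refine ⟨⟨!![1, (x 0 0 + x 1 1) / x 1 0; 0, 1], by rw [Matrix.det_fin_two_of]; ring⟩, ?_, ?_⟩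
    · simpa [one_add_one_eq_two] using h2
    · erw [SL2_mul_apply, SL2_mul_apply]
      change 1 * _ + (x 0 0 + x 1 1) / x 1 0 * _ + (0 * _ + 1 * _) = _
      field_simp
      linear_combination (x 0 0 + x 1 1) * h2

/-- In `PSL₂(2ⁿ)` every prime divisor of `q ± 1` is the order of a strongly real element. -/
theorem psl_even_exists_inverted {n : ℕ} (hn : n ≠ 0)
    (e : G ≃* Matrix.ProjectiveSpecialLinearGroup (Fin 2) (GaloisField 2 n)) {r : ℕ}
    (hr : r.Prime) (hd : r ∣ (2 ^ n) ^ 2 - 1) :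
    ∃ s x : G, s ^ 2 = 1 ∧ orderOf x = r ∧ s * x * s⁻¹ = x⁻¹ := by
  haveI := Fact.mk hr
  let f := (e.trans (pslEquiv _)).symm
  obtain ⟨x, hx⟩ := exists_prime_orderOf_dvd_card' (G := SL(2, GaloisField 2 n)) r (by
    rw [SL2C.card_SL2, GaloisField.card 2 n hn]; exact hd.mul_left _)
  obtain ⟨s, hs, hi⟩ := SL2_exists_inverting x
  exact ⟨f s, f x, by rw [← map_pow, hs, map_one], by rw [MulEquiv.orderOf_eq, hx],
    by rw [← map_inv, ← map_mul, ← map_mul, hi, map_inv]⟩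

end CfsgLib.BSW
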