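import Cfsg.Agent.Lib.BSW.Odd
import Cfsg.Agent.Lib.BSW.ClsD
import Cfsg.Agent.Lib.TwoGroupMaxClass
import Cfsg.Agent.Lib.PGroupMaxClass
import Cfsg.Agent.Lib.FusionControl
import Cfsg.Agent.Lib.H5Involutions
import Cfsg.Agent.Lib.H9Comp
import Cfsg.Agent.Lib.Blk.BS
import Cfsg.Agent.Lib.CoreSimpleInd

/-! Perfect groups in which the centralizer of an involution is a Sylow `2`-subgroup of maximal
class. -/

namespace CfsgLib.BSW

open Subgroup Cfsg CfsgLib.PGrp
open scoped commutatorElement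

variable {G : Type*} [Group G]

theorem not_inZStar_of_simple [Finite G] [IsSimpleGroup G] (hna : ¬ IsMulCommutative G) {t : G}
    (ht : orderOf t = 2) : ¬ InZStar 2 t := fun h => by
  haveI := Fact.mk Nat.prime_two
  rcases (inferInstance : (pPrimeCore 2 G).Normal).eq_bot_or_eq_top with e | e
  · have hz : t ∈ center G := mem_center_iff.mpr fun g => by
      have := h g
      rw [e, mem_bot, mul_inv_eq_one, mul_inv_eq_iff_eq_mul] at this
      exact this
    rcases (inferInstance : (center G).Normal).eq_bot_or_eq_top with e' | e'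
    · rw [e', mem_bot] at hz
      simp [hz] at ht
    · exact hna ⟨⟨fun a b => (mem_center_iff.mp (e' ▸ mem_top b) a)⟩⟩
  · have h1 := not_dvd_card_pPrimeCore (G := G) 2
    rw [e, card_top] at h1
    exact h1 (ht ▸ orderOf_dvd_natCard t)

theorem exists_other_involution [Finite G] [IsSimpleGroup G] (hna : ¬ IsMulCommutative G) {t : G}
    (ht : orderOf t = 2) : ∃ u : G, u * u = 1 ∧ u ≠ 1 ∧ u ≠ t ∧ u * t = t * u := by
  by_contra h
  push Not at h
  refine not_inZStar_of_simple hna ht (Blk.brauer_suzuki G t ⟨ht, fun s hs hc => ?_⟩)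
  by_contra hn
  push Not at hn
  exact h s (by rw [← sq, hs]) hn.1 hn.2 hc

theorem eq_of_mem_zpowers_of_sq [Finite G] {x a b : G} (ha : a ∈ zpowers x) (hb : b ∈ zpowers x)
    (ha2 : orderOf a = 2) (hb2 : orderOf b = 2) : a = b := by
  classical
  have := Fintype.ofFinite (zpowers x)
  have h1 := IsCyclic.card_orderOf_eq_totient (α := zpowers x) (d := 2) (by
    rw [← Nat.card_eq_fintype_card, ← ha2]; exact Subgroup.orderOf_dvd_natCard _ ha)
  rw [Nat.totient_two, Finset.card_eq_one_iff_existsUnique] at h1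
  have := h1.unique (y₁ := ⟨a, ha⟩) (y₂ := ⟨b, hb⟩) (by simpa using ha2) (by simpa using hb2)
  exact congrArg Subtype.val this

theorem exists_pow_orderOf_eq_two [Finite G] {x : G} {k : ℕ} (h : orderOf x = 2 ^ k) (h1 : x ≠ 1) :
    ∃ m : ℕ, orderOf (x ^ m) = 2 := by
  rcases k with _ | k
  · exact absurd (orderOf_eq_one_iff.mp (by simpa using h)) h1
  · refine ⟨2 ^ k, ?_⟩
    rw [orderOf_pow, h, Nat.gcd_eq_right (pow_dvd_pow 2 k.le_succ), pow_succ,
      Nat.mul_div_cancel_left _ (by positivity)]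

/-- If the centralizer of `t` is a Sylow `2`-subgroup of maximal class containing a four-group
and `G` is perfect, the hypotheses of the Brauer–Suzuki–Wall theorem hold. -/
theorem setup_of_isDQSDPair [Finite G] (hc : commutator G = ⊤) (S : Sylow 2 G) {t u : G}
    (ht : orderOf t = 2) (hC : centralizer {t} = (S : Subgroup G)) (hu : u * u = 1) (hu1 : u ≠ 1)
    (hut : u ≠ t) (hcm : u * t = t * u) {n : ℕ} {x y : (S : Subgroup G)}
    (h : IsDQSDPair n x y) : Setup (zpowers (x : G)) t u := by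
  haveI := Fact.mk Nat.prime_two
  have hm : ∀ {g : G}, g ∈ (S : Subgroup G) ↔ g * t = t * g := by
    intro g; rw [← hC, mem_cent]
  have htS : t ∈ (S : Subgroup G) := hm.mpr rfl
  have hz : ∀ {a : (S : Subgroup G)}, (a : G) ∈ zpowers (x : G) ↔ a ∈ zpowers x := by
    intro a
    constructor
    · rintro ⟨i, hi⟩; exact ⟨i, Subtype.ext (by simpa using hi)⟩
    · rintro ⟨i, rfl⟩; exact ⟨i, by simp⟩
  have hZ : center (S : Subgroup G) ≤ zpowers x := by
    rw [h.center_eq]; exact zpowers_le.mpr (pow_mem (mem_zpowers x) _)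
  have htK : t ∈ zpowers (x : G) := (hz (a := ⟨t, htS⟩)).mpr (hZ (mem_center_iff.mpr fun g =>
    Subtype.ext (hm.mp g.2)))
  have hKS : zpowers (x : G) ≤ S := zpowers_le.mpr x.2
  have hox : orderOf (x : G) = 2 ^ n := by rw [orderOf_coe, h.2.2.1]
  have huniq : ∀ a ∈ zpowers (x : G), a * a = 1 → a = 1 ∨ a = t := fun a ha h2 => by
    by_cases h1 : a = 1
    · exact Or.inl h1
    · exact Or.inr (eq_of_mem_zpowers_of_sq ha htK (orderOf_eq_two_iff'.mpr ⟨h2, h1⟩) ht)
  have huK : u ∉ zpowers (x : G) := fun e => by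
    rcases huniq u e hu with e | e
    exacts [hu1 e, hut e]
  -- an element of `S` that is not an involution has `t` as a power
  have hpow : ∀ a ∈ (S : Subgroup G), a * a ≠ 1 → ∃ m : ℕ, orderOf (a ^ m) = 2 ∧
      ∀ b ∈ (S : Subgroup G), orderOf b = orderOf a → b ^ m = t := by
    intro a ha ha2
    have hsq : ∀ b ∈ (S : Subgroup G), b ^ 2 ∈ zpowers (x : G) := fun b hb => by
      by_cases hb' : b ∈ zpowers (x : G)
      · exact pow_mem hb' 2
      · exact (hz (a := ⟨b, hb⟩ ^ 2)).mpr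
          (hZ (h.sq_mem_center (g := ⟨b, hb⟩) ((hz (a := ⟨b, hb⟩)).not.mp hb')))
    obtain ⟨k, hk⟩ := (IsPGroup.iff_orderOf.mp S.isPGroup') (⟨a, ha⟩ ^ 2)
    rw [← orderOf_coe, SubgroupClass.coe_pow] at hk
    obtain ⟨m, hm2⟩ := exists_pow_orderOf_eq_two hk (by rwa [sq])
    rw [← pow_mul] at hm2
    refine ⟨2 * m, hm2, fun b hb hab => eq_of_mem_zpowers_of_sq ?_ htK ?_ ht⟩
    · rw [pow_mul]; exact pow_mem (hsq b hb) m
    · rw [orderOf_pow, hab, ← orderOf_pow, hm2]
  have hidx : (zpowers (x : G)).index % 4 = 2 := by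
    have h1 := relIndex_mul_index hKS
    have h2 : (zpowers (x : G)).relIndex S = 2 := by
      refine Eq.trans ?_ h.index_zpowers
      rw [relIndex]
      congr 1
      ext a
      rw [mem_subgroupOf, hz]
    have h3 := S.not_dvd_index
    rw [h2] at h1
    omega
  refine ⟨ht, htK, fun a ha => hm.mp (hKS ha), huniq, ?_, hcm, huK, fun w hw hwK => ?_,
    fun a ha ha1 g hg => ?_, fun v hv => ?_⟩
  · rw [Nat.card_zpowers, hox]
    exact Nat.pow_le_pow_right (n := 2) two_pos h.1
  · have hwS := hm.mpr hw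
    rcases h.mem_or ⟨w, hwS⟩ with ⟨i, hi⟩ | ⟨i, hi⟩
    · exact absurd ((hz (a := ⟨w, hwS⟩)).mpr ⟨i, hi.symm⟩) hwK
    have key : ∀ (r j : ℤ), y * x * y⁻¹ = x ^ r → (y * x ^ j) * (y * x ^ j) =
        x ^ (r * j) * y ^ 2 * x ^ j := fun r j hr => by
      rw [← conj_zpow_of_conj hr]; group
    rcases h.2.2.2.2 with ⟨h1, h2⟩ | ⟨h1, h2⟩ | ⟨h3, h1, h2⟩
    · have := key (-1) i (by simpa using h1)
      rw [← hi, h2] at this
      have h3 : (⟨w, hwS⟩ * ⟨w, hwS⟩ : (S : Subgroup G)) = 1 := by rw [this]; group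
      exact congrArg Subtype.val h3
    · exfalso
      have huS := hm.mpr hcm
      rcases h.mem_or ⟨u, huS⟩ with ⟨j, hj⟩ | ⟨j, hj⟩
      · exact huK ((hz (a := ⟨u, huS⟩)).mpr ⟨j, hj.symm⟩)
      have := key (-1) j (by simpa using h1)
      rw [← hj, h2, show (⟨u, huS⟩ * ⟨u, huS⟩ : (S : Subgroup G)) = 1 from Subtype.ext hu] at this
      have h4 : x ^ 2 ^ (n - 1) = 1 := by rw [this]; group
      have h5 := Nat.le_of_dvd (by positivity) (orderOf_dvd_of_pow_eq_one h4)
      rw [h.2.2.1] at h5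
      have := (Nat.pow_le_pow_iff_right (by norm_num : 1 < 2)).mp h5
      have := h.1
      omega
    · exfalso
      set L : Subgroup (S : Subgroup G) := _root_.commutator _ ⊔ zpowers y with hL
      have hx2 : ∀ j : ℤ, Even j → x ^ j ∈ L := fun j ⟨c, hj⟩ => by
        refine mem_sup_left ?_
        rw [h.commutator_eq, hj, ← two_mul, zpow_mul]
        exact zpow_mem (by simp [zpow_ofNat]) c
      have hinv : ∀ a : (S : Subgroup G), a * a = 1 → a ∈ L := fun a ha => by
        have hn1 : (2 : ℤ) ^ n = 2 * 2 ^ (n - 1) := by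
          rw [← pow_succ']; congr 1; omega
        have hn2 : (2 : ℤ) ^ (n - 1) = 2 * 2 ^ (n - 2) := by
          rw [← pow_succ']; congr 1; omega
        have hp : (0 : ℤ) < 2 ^ (n - 1) := by positivity
        rcases h.mem_or a with ⟨j, rfl⟩ | ⟨j, rfl⟩
        · rw [← zpow_add, ← orderOf_dvd_iff_zpow_eq_one, h.2.2.1] at ha
          push_cast at ha
          obtain ⟨c, hc⟩ := ha
          exact hx2 j ⟨2 ^ (n - 2) * c, by rw [hn1, hn2] at hc; linarith⟩
        · have h5 : y * x * y⁻¹ = x ^ ((2 : ℤ) ^ (n - 1) - 1) := by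
            rw [h1, ← zpow_natCast, Nat.cast_sub Nat.one_le_two_pow]; push_cast; rfl
          rw [key _ j h5, h2, mul_one, ← zpow_add, ← orderOf_dvd_iff_zpow_eq_one, h.2.2.1] at ha
          push_cast at ha
          obtain ⟨c, hc⟩ := ha
          refine mul_mem (mem_sup_right (mem_zpowers y)) (hx2 j ⟨c, ?_⟩)
          rw [hn1] at hc
          exact mul_left_cancel₀ hp.ne' (by linarith)
      have hle := Fusion.commutator_inf_sylow_le S (L := L.map (S : Subgroup G).subtype)
        (fun a ha g hg => by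
          by_cases h2a : a * a = 1
          · refine mul_mem ⟨⟨_, hg⟩, hinv _ (Subtype.ext ?_), rfl⟩
              (inv_mem ⟨⟨a, ha⟩, hinv _ (Subtype.ext h2a), rfl⟩)
            change g * a * g⁻¹ * (g * a * g⁻¹) = 1
            rw [show g * a * g⁻¹ * (g * a * g⁻¹) = g * (a * a) * g⁻¹ by group, h2a]; group
          · obtain ⟨m, -, hm2⟩ := hpow a ha h2a
            have e1 := hm2 a ha rfl
            have e2 := hm2 _ hg (H5.orderOf_conj' g a)
            rw [conj_pow, e1, mul_inv_eq_iff_eq_mul] at e2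
            have hgS := hm.mpr e2
            exact ⟨⁅(⟨g, hgS⟩ : (S : Subgroup G)), ⟨a, ha⟩⁆,
              mem_sup_left (commutator_mem_commutator (mem_top _) (mem_top _)), rfl⟩)
      obtain ⟨x', hx', e⟩ := hle ⟨hc ▸ mem_top (x : G), x.2⟩
      rw [show x' = x from Subtype.ext e] at hx'
      obtain ⟨a, ha, b, ⟨j, rfl⟩, hab⟩ := mem_sup_of_normal_left.mp hx'
      rw [h.commutator_eq] at ha
      obtain ⟨c, rfl⟩ := ha
      have hy2 : y ^ (2 : ℤ) = 1 := by rw [zpow_ofNat, h2]
      rcases Int.even_or_odd j with ⟨d, rfl⟩ | ⟨d, rfl⟩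
      · simp only [← two_mul, zpow_mul, hy2, one_zpow, mul_one] at hab
        have h6 : x ^ (2 * c - 1) = 1 := by
          rw [zpow_sub, zpow_mul, zpow_ofNat, hab]; simp
        rw [← orderOf_dvd_iff_zpow_eq_one, h.2.2.1] at h6
        have h7 : (2 : ℤ) ∣ 2 * c - 1 := (dvd_pow_self 2 (by omega : n ≠ 0)).trans
          (by exact_mod_cast h6)
        omega
      · simp only [zpow_add, zpow_mul, hy2, one_zpow, one_mul, zpow_one] at hab
        refine h.2.2.2.1 ?_
        rw [eq_inv_mul_of_mul_eq hab]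
        exact mul_mem (inv_mem (zpow_mem (pow_mem (mem_zpowers x) 2) c)) (mem_zpowers x)
  · obtain ⟨k, hk⟩ := (IsPGroup.iff_orderOf.mp S.isPGroup') ⟨a, hKS ha⟩
    rw [← orderOf_coe] at hk
    obtain ⟨m, hm2⟩ := exists_pow_orderOf_eq_two hk ha1
    rw [← eq_of_mem_zpowers_of_sq (pow_mem ha m) htK hm2 ht]
    exact (Commute.pow_right hg m).eq
  · obtain ⟨g, hg⟩ := H5.exists_conj_mem_of_index_mod_four hidx (t := v)
      (by rw [← hv, pow_orderOf_eq_one]) (hc ▸ mem_top v)
    refine ⟨g, ?_⟩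
    rw [← eq_of_mem_zpowers_of_sq hg htK (by rw [H5.orderOf_conj'', hv]) ht]; group

theorem prime_or_eq_nine {F : Type*} [Field F] [Fintype F] {k : ℕ}
    (h : Fintype.card F = 2 ^ k + 1 ∨ Fintype.card F + 1 = 2 ^ k) :
    (Fintype.card F).Prime ∨ Fintype.card F = 9 := by
  obtain ⟨p, hp⟩ := CharP.exists F
  obtain ⟨⟨m, hm⟩, hpp, hq⟩ := FiniteField.card F p
  rw [hq] at h ⊢
  change p ^ m = _ ∨ p ^ m + 1 = _ at h
  change (p ^ m).Prime ∨ p ^ m = 9
  rcases h with h | h
  swap
  · left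
    rw [(H9.eq_one_of_pow_add_one_eq_two_pow hpp.two_le hm h).1, pow_one]; exact hpp
  rcases Nat.even_or_odd m with ⟨c, rfl⟩ | hodd
  · right
    obtain ⟨a, ha⟩ : ∃ a, p ^ c = a + 1 := ⟨p ^ c - 1, by have := pow_pos hpp.pos c; omega⟩
    rw [pow_add, ha] at h ⊢
    have h1 : a * (a + 2) = 2 ^ k := by nlinarith
    obtain ⟨i, -, hi⟩ := (Nat.dvd_prime_pow Nat.prime_two).1 (Dvd.intro _ h1)
    obtain ⟨j, -, hj⟩ := (Nat.dvd_prime_pow Nat.prime_two).1 (Dvd.intro_left _ h1)
    have ha2 : a = 2 := by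
      rcases i with _ | _ | i
      · rw [hi] at hj
        rcases j with _ | j
        · simp at hj
        · rw [pow_succ] at hj; omega
      · simpa using hi
      · rcases j with _ | _ | j
        · omega
        · have : 0 < 2 ^ (i + 1 + 1) := by positivity
          omega
        · rw [pow_succ, pow_succ] at hi hj; omega
    subst ha2; rfl
  · left
    have h1 := Nat.geomSum_eq hpp.two_le m
    have h2 : (∑ i ∈ Finset.range m, p ^ i) * (p - 1) = 2 ^ k := by
      rw [h1, Nat.div_mul_cancel (Nat.sub_one_dvd_pow_sub_one p m), h, Nat.add_sub_cancel]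
    obtain ⟨i, -, hi⟩ := (Nat.dvd_prime_pow Nat.prime_two).1 (Dvd.intro _ h2)
    obtain rfl : m = 1 := by
      by_contra hm1
      obtain ⟨c, rfl⟩ := hodd
      have hc : c ≠ 0 := by omega
      have h3 : Odd (∑ i ∈ Finset.range (2 * c + 1), p ^ i) := by
        rcases hpp.eq_two_or_odd' with rfl | ho
        · rw [Finset.sum_range_succ', pow_zero]
          exact (Finset.even_sum _ fun i _ => by rw [pow_succ]; simp).add_one
        · rw [Finset.odd_sum_iff_odd_card_odd, Finset.filter_true_of_mem fun i _ => ho.pow]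
          simp
      rcases i with _ | i
      · rw [Finset.sum_range_succ, pow_zero] at hi
        have := Nat.one_lt_pow (a := p) (show 2 * c ≠ 0 by omega) hpp.one_lt
        omega
      · rw [hi, pow_succ] at h3
        exact Nat.not_even_iff_odd.mpr h3 (by simp)
    simpa using hpp

/-- Simple groups whose Sylow `2`-subgroup has an element with centralizer of order `4` and is
the centralizer of each of its central involutions. -/
theorem psl_of_cent_eq_sylow [Finite G] [IsSimpleGroup G] (hna : ¬ IsMulCommutative G)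
    (S : Sylow 2 G) (hC : ∀ t : G, orderOf t = 2 → (S : Subgroup G) ≤ centralizer {t} →
      centralizer {t} = (S : Subgroup G)) {a : (S : Subgroup G)}
    (ha : Nat.card (centralizer ({a} : Set (S : Subgroup G))) = 4) :
    ∃ (F : Type) (_ : Field F) (_ : Fintype F), (Fintype.card F = 4 ∨ Fintype.card F = 9 ∨
      ((Fintype.card F).Prime ∧ ∃ k : ℕ, Fintype.card F = 2 ^ k + 1 ∨
        Fintype.card F = 2 ^ k - 1)) ∧
      Nonempty (G ≃* Matrix.ProjectiveSpecialLinearGroup (Fin 2) F) := by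
  haveI := Fact.mk Nat.prime_two
  have hns := not_isSolvable_of_simple hna
  obtain ⟨t, htS, ht, hSt⟩ := exists_central_of_sylow S (even_card_of_not_isSolvable hns).two_dvd
  have hCt := hC t ht hSt
  by_cases hS : IsMulCommutative (S : Subgroup G)
  · have h4 : Nat.card (S : Subgroup G) = 4 := by
      rw [← ha, show centralizer ({a} : Set (S : Subgroup G)) = ⊤ from
        eq_top_iff.mpr fun g _ => mem_cent.mpr (hS.is_comm.comm g a), card_top]
    have hT : CentTI (S : Subgroup G) := hCt ▸ centTI_of_cent_le (fun w hw hw1 g hg => by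
      rw [hCt] at hw ⊢
      obtain ⟨k, hk⟩ := (IsPGroup.iff_orderOf.mp S.isPGroup') ⟨w, hw⟩
      rw [← orderOf_coe] at hk
      obtain ⟨m, hm⟩ := exists_pow_orderOf_eq_two hk hw1
      rw [← hC _ hm fun b hb => mem_cent.mpr (isMulCommutative_iff'.mp hS b hb _ (pow_mem hw m))]
      exact mem_cent.mpr (Commute.pow_right (mem_cent.mp hg) m).eq)
      (ne_one_of_orderOf_prime Nat.prime_two ht)
    have hn : ¬ (S : Subgroup G).Normal := fun hn => hns (isSolvable_of_normal_sylow_two S)
    have hN : ¬ normalizer ((S : Subgroup G) : Set G) ≤ S := fun hN => hns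
      (isSolvable_of_complement_solvable (hT.isFrobeniusComplement hN
        (fun e => hn (e ▸ inferInstance)) fun e => hn (e ▸ inferInstance))
        isSolvable_of_isMulCommutative)
    obtain ⟨w, hw⟩ := hT.exists_zSetup ht htS (fun k hk => mem_cent.mp (hSt hk)) hn hN
    rcases hw.zt with ⟨n, hn2, -, hc, -, -, e⟩ | ⟨-, hnc, -⟩
    · letI := Fintype.ofFinite (GaloisField 2 n)
      refine ⟨GaloisField 2 n, inferInstance, inferInstance, Or.inl ?_, e⟩
      rw [← Nat.card_eq_fintype_card, GaloisField.card 2 n (by omega), ← hc, h4]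
    · exact absurd hS hnc
  · obtain ⟨n, x, y, hxy⟩ := isDQSD_of_card_centralizer S.isPGroup' hS ha
    obtain ⟨u, hu, hu1, hut, hcm⟩ := exists_other_involution hna ht
    obtain ⟨F, _, _, hF, e⟩ := (setup_of_isDQSDPair (commutator_eq_top_of_simple hna) S ht hCt
      hu hu1 hut hcm hxy).psl
    rw [Nat.card_zpowers, orderOf_coe, hxy.2.2.1, ← pow_succ'] at hF
    refine ⟨F, inferInstance, inferInstance, Or.inr ?_, e⟩
    rcases prime_or_eq_nine hF with h | h
    · exact Or.inr ⟨h, n + 1, hF.imp id fun h => by omega⟩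
    · exact Or.inl h

theorem isPGroup_closure_of_involutions [Finite G] {a b : G} (ha : a ^ 2 = 1) (hb : b ^ 2 = 1)
    {k : ℕ} (h : orderOf (a * b) = 2 ^ k) : IsPGroup 2 (closure {a, b} : Subgroup G) := by
  haveI := Fact.mk Nat.prime_two
  have h1 : IsPGroup 2 (zpowers a) := by
    rcases (Nat.dvd_prime Nat.prime_two).mp (orderOf_dvd_of_pow_eq_one ha) with e | e
    · exact IsPGroup.of_card (n := 0) (by rw [Nat.card_zpowers, e]; rfl)
    · exact IsPGroup.of_card (n := 1) (by rw [Nat.card_zpowers, e]; rfl)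
  have h2 : IsPGroup 2 (zpowers (a * b)) := IsPGroup.of_card (by rw [Nat.card_zpowers, h])
  refine (h1.to_sup_of_normal_right' h2
    (le_sup_left.trans (H5.sup_le_normalizer_zpowers_mul ha hb))).to_le ?_
  rw [closure_le]
  rintro c (rfl | rfl)
  · exact mem_sup_left (mem_zpowers _)
  · have := mul_mem (inv_mem (mem_sup_left (mem_zpowers a)))
      (mem_sup_right (mem_zpowers (a * c)) : a * c ∈ zpowers a ⊔ zpowers (a * c))
    rwa [inv_mul_cancel_left] at this

end CfsgLib.BSW
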