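import Cfsg.Agent.Lib.FrobTI
import Cfsg.Agent.Lib.H5Involutions

/-! TI subgroups containing the centralizers of their non-identity elements: if such a subgroup
has a central involution and is neither normal nor self-normalizing, then the group acts doubly
transitively on its conjugates, with two-point stabilizer inverted by an involution. -/

namespace CfsgLib.BSW

open Subgroup Cfsg CfsgLib.Frob

variable {G : Type*} [Group G]

/-- `K` is a TI subgroup containing the centralizer of each of its non-identity elements. -/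
structure CentTI (K : Subgroup G) : Prop where
  cent : ∀ x ∈ K, x ≠ 1 → ∀ g : G, g * x = x * g → g ∈ K
  ti : IsTISubset (K : Set G)

namespace CentTI

variable {K : Subgroup G}

theorem mem_norm (h : CentTI K) {g x : G} (hx : x ∈ K) (h1 : x ≠ 1) (hg : g * x * g⁻¹ ∈ K) :
    g ∈ normalizer (K : Set G) := h.ti.mem_normalizer hx h1 hg

theorem mem_norm' (h : CentTI K) {g x : G} (hx : x ∈ K) (h1 : x ≠ 1) (hg : g⁻¹ * x * g ∈ K) :
    g ∈ normalizer (K : Set G) := by
  have := h.mem_norm (g := g⁻¹) hx h1 (by simpa using hg)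
  simpa using inv_mem this

theorem fpf (h : CentTI K) {g : G} (hg : g ∉ K) : ∀ k ∈ K, g * k = k * g → k = 1 := by
  intro k hk hc
  by_contra h1
  exact hg (h.cent k hk h1 g hc)

/-- An element normalizing `K` outside `K` has order prime to `|K|`. -/
theorem coprime_orderOf [Finite G] (h : CentTI K) {y : G} (hy : y ∈ normalizer (K : Set G))
    (hyK : y ∉ K) : (orderOf y).Coprime (Nat.card K) := by
  by_cases hK : K = ⊥
  · subst hK; simp
  have hle : K ≤ normalizer (K : Set G) := le_normalizer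
  have hF : IsFrobeniusKernel (K.subgroupOf (normalizer (K : Set G))) := by
    refine ⟨inferInstance, ?_, ?_, ?_⟩
    · intro e
      apply hK
      rw [eq_bot_iff]
      intro x hx
      have : (⟨x, hle hx⟩ : normalizer (K : Set G)) ∈ K.subgroupOf (normalizer (K : Set G)) := hx
      rw [e, mem_bot] at this
      exact congrArg Subtype.val this
    · intro e
      apply hyK
      have : (⟨y, hy⟩ : normalizer (K : Set G)) ∈ K.subgroupOf (normalizer (K : Set G)) := by
        rw [e]; trivial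
      exact this
    · intro k hk h1 g hc
      exact h.cent k hk (fun e => h1 (Subtype.ext e)) g (congrArg Subtype.val hc)
  have := hF.coprime_orderOf (g := ⟨y, hy⟩) hyK
  rwa [card_subgroupOf_of_le hle, orderOf_mk] at this

theorem eq_one_of_conj_mem_norm [Finite G] (h : CentTI K) {g x : G}
    (hg : g ∉ normalizer (K : Set G)) (hx : x ∈ K) (hc : g⁻¹ * x * g ∈ normalizer (K : Set G)) :
    x = 1 := by
  by_contra h1
  have hK : g⁻¹ * x * g ∉ K := fun e => hg (h.mem_norm' hx h1 e)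
  have h2 := h.coprime_orderOf hc hK
  rw [H5.orderOf_conj''] at h2
  have h3 : orderOf x ∣ Nat.card K := Subgroup.orderOf_dvd_natCard K hx
  exact h1 (orderOf_eq_one_iff.mp (h2.eq_one_of_dvd h3))

/-- `K` is a Hall subgroup. -/
theorem coprime_index [Finite G] (h : CentTI K) : (Nat.card K).Coprime K.index := by
  apply h.ti.coprime_index
  have hle : K ≤ normalizer (K : Set G) := le_normalizer
  by_cases hK : K = ⊥
  · subst hK; simp
  by_cases hN : normalizer (K : Set G) ≤ K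
  · rw [relIndex_eq_one.mpr hN]; simp
  have hF : IsFrobeniusKernel (K.subgroupOf (normalizer (K : Set G))) := by
    refine ⟨inferInstance, ?_, ?_, ?_⟩
    · intro e
      apply hK
      rw [eq_bot_iff]
      intro x hx
      have : (⟨x, hle hx⟩ : normalizer (K : Set G)) ∈ K.subgroupOf (normalizer (K : Set G)) := hx
      rw [e, mem_bot] at this
      exact congrArg Subtype.val this
    · intro e
      apply hN
      intro y hy
      have : (⟨y, hy⟩ : normalizer (K : Set G)) ∈ K.subgroupOf (normalizer (K : Set G)) := by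
        rw [e]; trivial
      exact this
    · intro k hk h1 g hc
      exact h.cent k hk (fun e => h1 (Subtype.ext e)) g (congrArg Subtype.val hc)
  have := hF.coprime
  rwa [card_subgroupOf_of_le hle] at this

theorem isFrobeniusKernel (h : CentTI K) [K.Normal] (h1 : K ≠ ⊥) (h2 : K ≠ ⊤) :
    IsFrobeniusKernel K := ⟨inferInstance, h1, h2, h.cent⟩

theorem isFrobeniusComplement (h : CentTI K) (hN : normalizer (K : Set G) ≤ K) (h1 : K ≠ ⊥)
    (h2 : K ≠ ⊤) : IsFrobeniusComplement K := by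
  rw [isFrobeniusComplement_iff]
  refine ⟨h1, h2, fun g hg x hx hc => ?_⟩
  by_contra hx1
  exact hg (hN (h.mem_norm hx hx1 hc))

section Invol

variable {z : G}

/-- An involution normalizing `K` lies in `K`. -/
theorem mem_of_sq [Finite G] (h : CentTI K) (hz : orderOf z = 2) (hzK : z ∈ K) {x : G}
    (hx : x ∈ normalizer (K : Set G)) (hx2 : x ^ 2 = 1) : x ∈ K := by
  by_contra hxK
  have h1 := h.coprime_orderOf hx hxK
  have h2 : 2 ∣ Nat.card K := hz ▸ Subgroup.orderOf_dvd_natCard K hzK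
  have hx1 : x ≠ 1 := fun e => hxK (e ▸ one_mem K)
  rw [orderOf_eq_prime hx2 hx1] at h1
  exact absurd (h1.eq_one_of_dvd h2) (by norm_num)

/-- An involution of `K` and an involution of another conjugate are swapped by an involution. -/
theorem exists_swap [Finite G] (h : CentTI K) {g s z : G} (hg : g ∉ normalizer (K : Set G))
    (hs : orderOf s = 2) (hsK : s ∈ K) (hz : orderOf z = 2) (hzK : z ∈ K) :
    ∃ u : G, u ^ 2 = 1 ∧ u * s * u⁻¹ = g * z * g⁻¹ := by
  have hb : orderOf (g * z * g⁻¹) = 2 := by rw [H5.orderOf_conj', hz]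
  have hs1 : s ≠ 1 := by rintro rfl; simp at hs
  have hz1 : z ≠ 1 := by rintro rfl; simp at hz
  have hs2 : s ^ 2 = 1 := hs ▸ pow_orderOf_eq_one s
  have hb2 : (g * z * g⁻¹) ^ 2 = 1 := hb ▸ pow_orderOf_eq_one _
  by_cases he : 2 ∣ orderOf (g * z * g⁻¹ * s)
  · obtain ⟨u, -, hu, -, -, hc1, hc2⟩ := H5.exists_common_involution_of_even hb hs he
    have hu1 : u ≠ 1 := by rintro rfl; simp at hu
    have huK : u ∈ K := h.cent s hsK hs1 u hc2.eq.symm
    have : g⁻¹ * u * g ∈ K := by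
      refine h.cent z hzK hz1 _ ?_
      have e := hc1.eq
      calc g⁻¹ * u * g * z = g⁻¹ * (u * (g * z * g⁻¹)) * g := by group
        _ = g⁻¹ * (g * z * g⁻¹ * u) * g := by rw [e]
        _ = z * (g⁻¹ * u * g) := by group
    exact absurd (h.mem_norm' huK hu1 this) hg
  · have hc : (orderOf (g * z * g⁻¹ * s)).Coprime 2 :=
      (Nat.coprime_comm.mp ((Nat.Prime.coprime_iff_not_dvd Nat.prime_two).mpr he))
    obtain ⟨y, hy, e⟩ := H5.exists_conj_of_odd hb2 hs2 hc
    have hi := H5.inverts_of_mem_zpowers (H5.inverts_mul_right hb2 hs2) hy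
    have hss := H5.mul_self_eq_one_of_sq hs2
    refine ⟨y * s, ?_, ?_⟩
    · rw [sq]
      calc y * s * (y * s) = y * (s * y * s⁻¹) * (s * s) := by group
        _ = 1 := by rw [hi, hss]; group
    · rw [← e]; group

end Invol

end CentTI

/-- The two-point stabilizer. -/
def twoPt (K : Subgroup G) (g : G) : Subgroup G :=
  normalizer (K : Set G) ⊓ (normalizer (K : Set G)).map (MulAut.conj g).toMonoidHom

theorem mem_twoPt {K : Subgroup G} {g d : G} :
    d ∈ twoPt K g ↔ d ∈ normalizer (K : Set G) ∧ g⁻¹ * d * g ∈ normalizer (K : Set G) := by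
  rw [twoPt, mem_inf, mem_map_conj_iff]

theorem twoPt_mul_mem {K : Subgroup G} (g : G) {n : G} (hn : n ∈ normalizer (K : Set G)) :
    twoPt K (g * n) = twoPt K g := by
  ext d
  rw [mem_twoPt, mem_twoPt]
  refine and_congr_right fun _ => ⟨fun h => ?_, fun h => ?_⟩
  · have := mul_mem (mul_mem hn h) (inv_mem hn)
    convert this using 1; group
  · have := mul_mem (mul_mem (inv_mem hn) h) hn
    convert this using 1; group

namespace CentTI

variable {K : Subgroup G} {z : G}

theorem twoPt_disjoint [Finite G] (h : CentTI K) {g : G} (hg : g ∉ normalizer (K : Set G))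
    {x : G} (hx : x ∈ twoPt K g) (hK : x ∈ K) : x = 1 :=
  h.eq_one_of_conj_mem_norm hg hK (mem_twoPt.mp hx).2

/-- The basic lemma on two distinct conjugates. -/
theorem exists_inverting [Finite G] (h : CentTI K) (hz : orderOf z = 2) (hzK : z ∈ K)
    (hzc : ∀ k ∈ K, k * z = z * k) {g : G} (hg : g ∉ normalizer (K : Set G)) :
    ∃ u : G, u ^ 2 = 1 ∧ g⁻¹ * u ∈ normalizer (K : Set G) ∧
      (∀ d ∈ twoPt K g, u * d * u⁻¹ = d⁻¹) ∧
      (∀ s ∈ K, orderOf s = 2 → ∃ d ∈ twoPt K g, d * z * d⁻¹ = s) ∧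
      ∀ n ∈ normalizer (K : Set G), ∃ d ∈ twoPt K g, d⁻¹ * n ∈ K := by
  have hz1 : z ≠ 1 := by rintro rfl; simp at hz
  obtain ⟨u, hu2, hu⟩ := h.exists_swap hg hz hzK hz hzK
  have hui := H5.inv_eq_self_of_sq hu2
  have hgu : g⁻¹ * u ∈ normalizer (K : Set G) := by
    refine h.mem_norm hzK hz1 ?_
    have : g⁻¹ * u * z * (g⁻¹ * u)⁻¹ = g⁻¹ * (u * z * u⁻¹) * g := by group
    rw [this, hu]; simpa [mul_assoc] using hzK
  have key : ∀ s ∈ K, orderOf s = 2 →
      ∃ v : G, v ^ 2 = 1 ∧ v * u ∈ twoPt K g ∧ (v * u) * z * (v * u)⁻¹ = s := by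
    intro s hsK hs
    have hs1 : s ≠ 1 := by rintro rfl; simp at hs
    obtain ⟨v, hv2, hv⟩ := h.exists_swap hg hs hsK hz hzK
    have hvi := H5.inv_eq_self_of_sq hv2
    have e1 : (v * u) * z * (v * u)⁻¹ = s := by
      calc (v * u) * z * (v * u)⁻¹ = v * (u * z * u⁻¹) * v⁻¹ := by group
        _ = v * (v * s * v⁻¹) * v⁻¹ := by rw [hu, hv]
        _ = (v * v) * s * (v * v)⁻¹ := by group
        _ = s := by rw [H5.mul_self_eq_one_of_sq hv2]; group
    have hgv : g⁻¹ * v ∈ normalizer (K : Set G) := by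
      refine h.mem_norm hsK hs1 ?_
      have : g⁻¹ * v * s * (g⁻¹ * v)⁻¹ = g⁻¹ * (v * s * v⁻¹) * g := by group
      rw [this, hv]; simpa [mul_assoc] using hzK
    refine ⟨v, hv2, mem_twoPt.mpr ⟨h.mem_norm hzK hz1 (e1 ▸ hsK), ?_⟩, e1⟩
    have := mul_mem hgv (inv_mem hgu)
    convert this using 1
    rw [mul_inv_rev, inv_inv, hui]; group
  have hcent : ∀ x : G, x * z * x⁻¹ = z → x ∈ K := fun x hx =>
    h.cent z hzK hz1 x (by rw [← mul_inv_eq_iff_eq_mul]; exact hx)
  have hdec : ∀ n ∈ normalizer (K : Set G), ∃ v : G, v ^ 2 = 1 ∧ v * u ∈ twoPt K g ∧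
      (v * u)⁻¹ * n ∈ K := by
    intro n hn
    obtain ⟨v, hv2, hv, e⟩ := key (n * z * n⁻¹) (conj_mem_of_mem_normalizer hn hzK)
      (by rw [H5.orderOf_conj', hz])
    refine ⟨v, hv2, hv, hcent _ ?_⟩
    calc (v * u)⁻¹ * n * z * ((v * u)⁻¹ * n)⁻¹ = (v * u)⁻¹ * (n * z * n⁻¹) * (v * u) := by group
      _ = z := by rw [← e]; group
  refine ⟨u, hu2, hgu, fun d hd => ?_, fun s hsK hs => ?_, fun n hn => ?_⟩
  · obtain ⟨v, hv2, hv, hK⟩ := hdec d (mem_twoPt.mp hd).1
    have e := h.twoPt_disjoint hg (mul_mem (inv_mem hv) hd) hK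
    have e' : d = v * u := by rw [inv_mul_eq_one] at e; exact e.symm
    rw [e', mul_inv_rev, hui, H5.inv_eq_self_of_sq hv2]
    calc u * (v * u) * u = u * v * (u * u) := by group
      _ = u * v := by rw [H5.mul_self_eq_one_of_sq hu2, mul_one]
  · obtain ⟨v, -, hv, e⟩ := key s hsK hs
    exact ⟨_, hv, e⟩
  · obtain ⟨v, -, hv, e⟩ := hdec n hn
    exact ⟨_, hv, e⟩

end CentTI

/-- The conclusion: a rank one setup whose two-point stabilizer is inverted by `t`. -/
structure ZSetup (K : Subgroup G) (t : G) : Prop where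
  centTI : CentTI K
  sq : t ^ 2 = 1
  notMem : t ∉ normalizer (K : Set G)
  inv : ∀ d ∈ twoPt K t, t * d * t⁻¹ = d⁻¹
  dec : ∀ n ∈ normalizer (K : Set G), ∃ d ∈ twoPt K t, d⁻¹ * n ∈ K
  trans : ∀ s ∈ K, ∀ s' ∈ K, orderOf s = 2 → orderOf s' = 2 → ∃ d ∈ twoPt K t, d * s * d⁻¹ = s'
  central : ∀ s ∈ K, orderOf s = 2 → ∀ k ∈ K, k * s = s * k
  even : 2 ∣ Nat.card K
  ne_bot : twoPt K t ≠ ⊥
  bruhat : ∀ g : G, g ∉ normalizer (K : Set G) → ∃ k ∈ K, t * k * g ∈ normalizer (K : Set G)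

theorem CentTI.exists_zSetup [Finite G] {K : Subgroup G} {z : G} (h : CentTI K)
    (hz : orderOf z = 2) (hzK : z ∈ K) (hzc : ∀ k ∈ K, k * z = z * k) (hn : ¬ K.Normal)
    (hN : ¬ normalizer (K : Set G) ≤ K) : ∃ t, ZSetup K t := by
  obtain ⟨g, hg⟩ : ∃ g, g ∉ normalizer (K : Set G) := by
    by_contra hc
    push Not at hc
    exact hn (normal_of_le_normalizer_top fun x _ => hc x)
  obtain ⟨t, ht2, hgt, hinv, htr, hdec⟩ := h.exists_inverting hz hzK hzc hg
  have hti := H5.inv_eq_self_of_sq ht2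
  have e : twoPt K t = twoPt K g := by
    have := twoPt_mul_mem (K := K) g hgt
    rwa [mul_inv_cancel_left] at this
  have ht : t ∉ normalizer (K : Set G) := fun hc => hg (by
    have := mul_mem hc (inv_mem hgt)
    simpa using this)
  rw [← e] at hinv htr hdec
  have hcomm : ∀ d ∈ twoPt K t, ∀ d' ∈ twoPt K t, d * d' = d' * d := by
    intro d hd d' hd'
    have h1 := hinv _ (mul_mem hd hd')
    have h2 : t * (d * d') * t⁻¹ = (t * d * t⁻¹) * (t * d' * t⁻¹) := by group
    rw [h2, hinv d hd, hinv d' hd', ← mul_inv_rev] at h1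
    exact (inv_injective h1).symm
  have hne : twoPt K t ≠ ⊥ := by
    intro hb
    apply hN
    intro n hn
    obtain ⟨d, hd, hK⟩ := hdec n hn
    rw [hb, mem_bot] at hd
    simpa [hd] using hK
  refine ⟨t, h, ht2, ht, hinv, hdec, fun s hs s' hs' h2 h2' => ?_, fun s hs h2 k hk => ?_,
    hz ▸ Subgroup.orderOf_dvd_natCard K hzK, hne, fun g hg => ?_⟩
  · obtain ⟨d, hd, e1⟩ := htr s hs h2
    obtain ⟨d', hd', e2⟩ := htr s' hs' h2'
    refine ⟨d' * d⁻¹, mul_mem hd' (inv_mem hd), ?_⟩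
    rw [← e1, ← e2]; group
  · obtain ⟨d, hd, e1⟩ := htr s hs h2
    have hk' := hzc _ (conj_mem_of_mem_normalizer' (mem_twoPt.mp hd).1 hk)
    rw [← e1]
    calc k * (d * z * d⁻¹) = d * (d⁻¹ * k * d * z) * d⁻¹ := by group
      _ = d * (z * (d⁻¹ * k * d)) * d⁻¹ := by rw [hk']
      _ = _ := by group
  · -- double transitivity
    obtain ⟨u, -, -, -, -, hdec'⟩ := h.exists_inverting hz hzK hzc hg
    obtain ⟨d0, hd0, hd01⟩ := (bot_or_exists_ne_one _).resolve_left hne
    have hd0K : d0 ∉ K := fun hc => hd01 (h.twoPt_disjoint ht hd0 hc)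
    obtain ⟨d, hd, hK⟩ := hdec' d0 (mem_twoPt.mp hd0).1
    -- d = d0 * k is conjugate to d0 under K
    obtain ⟨x, hx, ex⟩ := exists_conj_eq_mul_of_fpf' (K := K) (h := d0)
      (fun k hk => conj_mem_of_mem_normalizer (mem_twoPt.mp hd0).1 hk) (h.fpf hd0K) (inv_mem hK)
    have ex' : x * d0 * x⁻¹ = d := by rw [ex]; group
    refine ⟨x⁻¹, inv_mem hx, ?_⟩
    by_contra hc
    have hg' : x⁻¹ * g ∉ normalizer (K : Set G) := fun hc' => hg (by
      have := mul_mem (le_normalizer hx) hc'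
      simpa using this)
    have hd0' : (x⁻¹ * g)⁻¹ * d0 * (x⁻¹ * g) ∈ normalizer (K : Set G) := by
      have := (mem_twoPt.mp hd).2
      rw [← ex'] at this
      convert this using 1; group
    obtain ⟨t', ht'2, hgt', hinv', -, -⟩ := h.exists_inverting hz hzK hzc hg'
    obtain ⟨v, hv2, hgv, hinvv, -, -⟩ := h.exists_inverting hz hzK hzc hc
    have i1 := hinv' d0 (mem_twoPt.mpr ⟨(mem_twoPt.mp hd0).1, hd0'⟩)
    have i0 := hinv d0 hd0
    have i2 : v * d0 * v⁻¹ = d0⁻¹ := by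
      apply hinvv d0 (mem_twoPt.mpr ⟨(mem_twoPt.mp hd0).1, ?_⟩)
      have e3 : t⁻¹ * d0 * t = d0⁻¹ := by
        have := i0; rw [hti] at this ⊢; exact this
      have : (t * x⁻¹ * g)⁻¹ * d0 * (t * x⁻¹ * g) =
          (x⁻¹ * g)⁻¹ * (t⁻¹ * d0 * t) * (x⁻¹ * g) := by group
      rw [this, e3]
      have := inv_mem hd0'
      convert this using 1; group
    have hw : t' * t * v ∈ normalizer (K : Set G) := by
      have := mul_mem (inv_mem hgt') hgv
      convert this using 1
      rw [mul_inv_rev, inv_inv, H5.inv_eq_self_of_sq ht'2, mul_inv_rev, mul_inv_rev, inv_inv, hti]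
      group
    have i3 : (t' * t * v) * d0 * (t' * t * v)⁻¹ = d0⁻¹ := by
      have i0' : t * d0⁻¹ * t⁻¹ = d0 := by
        have : t * d0⁻¹ * t⁻¹ = (t * d0 * t⁻¹)⁻¹ := by group
        rw [this, i0, inv_inv]
      calc (t' * t * v) * d0 * (t' * t * v)⁻¹ = t' * (t * (v * d0 * v⁻¹) * t⁻¹) * t'⁻¹ := by group
        _ = d0⁻¹ := by rw [i2, i0', i1]
    obtain ⟨d1, hd1, hk1⟩ := hdec _ hw
    set k := d1⁻¹ * (t' * t * v) with hk
    have i4 : k * d0 * k⁻¹ = d0⁻¹ := by
      have c := hcomm d1 hd1 _ (inv_mem hd0)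
      calc k * d0 * k⁻¹ = d1⁻¹ * ((t' * t * v) * d0 * (t' * t * v)⁻¹) * d1 := by rw [hk]; group
        _ = d1⁻¹ * (d0⁻¹ * d1) := by rw [i3]; group
        _ = d0⁻¹ := by rw [← c]; group
    have i5 : d0⁻¹ * d0⁻¹ ∈ K := by
      have := mul_mem hk1 (conj_mem_of_mem_normalizer (mem_twoPt.mp hd0).1 (inv_mem hk1))
      convert this using 1
      rw [← i4]; group
    have i6 := h.twoPt_disjoint ht (mul_mem (inv_mem hd0) (inv_mem hd0)) i5
    apply hd0K
    refine h.mem_of_sq hz hzK (mem_twoPt.mp hd0).1 ?_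
    rw [← mul_inv_rev, inv_eq_one] at i6
    rw [sq, i6]

end CfsgLib.BSW
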