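import Cfsg.Agent.Lib.BSW.PLine
import Cfsg.Agent.Lib.BSW.TIK

/-! Recognition of `PSL(2, q)` and `PGL(2, q)` as Zassenhaus groups with abelian kernel. -/

set_option autoImplicit false

namespace CfsgLib.BSW

open Subgroup Cfsg OnePoint

variable {G : Type*} [Group G]

namespace CentTI

variable [Finite G] {P : Subgroup G} (h : CentTI P)
include h

theorem injective_option {g : G} (hg : g ∉ normalizer (P : Set G)) :
    Function.Injective fun o : Option P => (o.elim ((1 : G) : G ⧸ normalizer (P : Set G))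
      fun x => ((x * g : G) : G ⧸ normalizer (P : Set G))) := by
  have hne : ∀ x : P, (x * g : G) ∉ normalizer (P : Set G) := fun x e =>
    hg ((Subgroup.mul_mem_cancel_left _ (le_normalizer x.2)).mp e)
  rintro (_ | x) (_ | y) e
  · rfl
  · exact absurd (by simpa using QuotientGroup.eq.mp e) (hne y)
  · exact absurd (by simpa using QuotientGroup.eq.mp e.symm) (hne x)
  · have h2 : ((x : G) * g)⁻¹ * (y * g) ∈ normalizer (P : Set G) := QuotientGroup.eq.mp e
    have h3 := h.eq_one_of_conj_mem_norm hg (P.mul_mem (P.inv_mem x.2) y.2)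
      (by convert h2 using 1; group)
    rw [Subtype.ext (inv_mul_eq_one.mp h3)]

theorem card_succ_le_index {g : G} (hg : g ∉ normalizer (P : Set G)) :
    Nat.card P + 1 ≤ (normalizer (P : Set G)).index := by
  rw [← Finite.card_option]
  exact Nat.card_le_card_of_injective _ (h.injective_option hg)

theorem two_trans (hi : (normalizer (P : Set G)).index = Nat.card P + 1) {g g' : G}
    (hg : g ∉ normalizer (P : Set G)) (hg' : g' ∉ normalizer (P : Set G)) :
    ∃ x ∈ P, (x * g)⁻¹ * g' ∈ normalizer (P : Set G) := by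
  have h2 := (Nat.bijective_iff_injective_and_card _).mpr ⟨h.injective_option hg, by
    rw [Finite.card_option, ← hi]; rfl⟩
  obtain ⟨_ | x, e⟩ := h2.2 (g' : G ⧸ normalizer (P : Set G))
  · exact absurd (by simpa using QuotientGroup.eq.mp e) hg'
  · exact ⟨x, x.2, QuotientGroup.eq.mp e⟩

theorem exists_dec (hi : (normalizer (P : Set G)).index = Nat.card P + 1) {g n : G}
    (hg : g ∉ normalizer (P : Set G)) (hn : n ∈ normalizer (P : Set G)) :
    ∃ x ∈ P, x⁻¹ * n ∈ twoPt P g := by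
  obtain ⟨x, hx, e⟩ := h.two_trans hi hg (g' := n * g)
    (fun e => hg ((Subgroup.mul_mem_cancel_left _ hn).mp e))
  exact ⟨x, hx, mem_twoPt.mpr ⟨mul_mem (inv_mem (le_normalizer hx)) hn, by
    convert e using 1; group⟩⟩

theorem card_twoPt (hi : (normalizer (P : Set G)).index = Nat.card P + 1) {g : G}
    (hg : g ∉ normalizer (P : Set G)) :
    Nat.card (normalizer (P : Set G)) = Nat.card P * Nat.card (twoPt P g) := by
  rw [← Nat.card_prod]
  symm
  refine Nat.card_congr (Equiv.ofBijective (fun p : P × twoPt P g => (⟨p.1 * p.2,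
    mul_mem (le_normalizer p.1.2) (mem_twoPt.mp p.2.2).1⟩ : normalizer (P : Set G))) ⟨?_, ?_⟩)
  · rintro ⟨x, d⟩ ⟨x', d'⟩ e
    have e' : (x : G) * d = x' * d' := congrArg Subtype.val e
    have h1 : (d : G) * (d' : G)⁻¹ = (x : G)⁻¹ * x' := by
      rw [eq_inv_mul_iff_mul_eq, ← mul_assoc, e', mul_inv_cancel_right]
    have h2 := h.twoPt_disjoint hg (mul_mem d.2 (inv_mem d'.2))
      (h1 ▸ P.mul_mem (P.inv_mem x.2) x'.2)
    have h3 : d = d' := Subtype.ext (mul_inv_eq_one.mp h2)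
    subst h3
    rw [Subtype.ext (mul_right_cancel e')]
  · rintro ⟨n, hn⟩
    obtain ⟨x, hx, e⟩ := h.exists_dec hi hg hn
    exact ⟨⟨⟨x, hx⟩, ⟨_, e⟩⟩, Subtype.ext (by simp)⟩

theorem card_succ_le {E Q : Subgroup G} (hE : ∀ d ∈ E, d ∈ P → d = 1) (hQ : Q ≤ P) (h1 : Q ≠ ⊥)
    (hn : ∀ d ∈ E, ∀ x ∈ Q, d * x * d⁻¹ ∈ Q) : Nat.card E + 1 ≤ Nat.card Q := by
  obtain ⟨⟨x, hx⟩, hx1⟩ := Subgroup.ne_bot_iff_exists_ne_one.mp h1
  have hx1' : x ≠ 1 := fun e => hx1 (Subtype.ext e)
  rw [← Finite.card_option]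
  refine Nat.card_le_card_of_injective (fun o : Option E => (o.elim 1 fun d =>
    ⟨d * x * (d : G)⁻¹, hn d d.2 x hx⟩ : Q)) ?_
  rintro (_ | d) (_ | d') e
  · rfl
  · exact absurd (by simpa using (congrArg Subtype.val e).symm) hx1'
  · exact absurd (by simpa using congrArg Subtype.val e) hx1'
  · have e' : (d : G) * x * (d : G)⁻¹ = d' * x * (d' : G)⁻¹ := congrArg Subtype.val e
    have h2 := hE _ (mul_mem (inv_mem d'.2) d.2) (h.cent x (hQ hx) hx1' _ (by
      calc (d' : G)⁻¹ * d * x = (d' : G)⁻¹ * (d * x * (d : G)⁻¹) * d := by group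
        _ = _ := by rw [e']; group))
    rw [Subtype.ext (inv_mul_eq_one.mp h2)]

end CentTI

/-- A Zassenhaus group with abelian Frobenius kernel `P`, whose two-point stabilizer is inverted
by the involution `w`. -/
structure ZAb (P : Subgroup G) (w : G) : Prop where
  cti : CentTI P
  comm : ∀ a ∈ P, ∀ b ∈ P, a * b = b * a
  ne_bot : P ≠ ⊥
  index : (normalizer (P : Set G)).index = Nat.card P + 1
  ww : w * w = 1
  notMem : w ∉ normalizer (P : Set G)
  inv : ∀ d ∈ twoPt P w, w * d * w⁻¹ = d⁻¹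

namespace ZAb

variable [Finite G] {P : Subgroup G} {w : G} (h : ZAb P w)
include h

theorem exists_lineGp (hc : Nat.card P ≤ 2 * Nat.card (twoPt P w) + 1) :
    ∃ (F : Type) (_ : Field F) (_ : Fintype F) (_ : DecidableEq F)
      (ρ : G →* Equiv.Perm (OnePoint F)) (S : Subgroup Fˣ), Fintype.card F = Nat.card P ∧
      Function.Injective ρ ∧ Nat.card S = Nat.card (twoPt P w) ∧ LineGp ρ.range S (ρ w) := by
  classical
  have hn : ∀ d ∈ twoPt P w, ∀ x ∈ P, d * x * d⁻¹ ∈ P := fun d hd x hx =>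
    conj_mem_of_mem_normalizer (mem_twoPt.mp hd).1 hx
  have hdis : ∀ d ∈ twoPt P w, d ∈ P → d = 1 := fun d hd => h.cti.twoPt_disjoint h.notMem hd
  obtain ⟨F, i1, i2, e, χ, he, hadd, hχ⟩ := exists_field_of_irr (E := twoPt P w) h.comm
    (fun d hd d' hd' => by
      have h1 := h.inv _ (mul_mem hd hd')
      have h2 : w * (d * d') * w⁻¹ = (w * d * w⁻¹) * (w * d' * w⁻¹) := by group
      rw [h2, h.inv d hd, h.inv d' hd', ← mul_inv_rev] at h1
      exact (inv_injective h1).symm) hn h.ne_bot (fun Q hQ hQn => by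
      by_cases h1 : Q = ⊥
      · exact Or.inl h1
      · right
        have h2 := h.cti.card_succ_le hdis hQ h1 hQn
        obtain ⟨m, hm⟩ := card_dvd_of_le hQ
        have h3 : 0 < Nat.card P := Nat.card_pos
        have h4 : m = 1 := by
          rcases m with _ | _ | m
          · omega
          · rfl
          · nlinarith
        exact eq_of_le_of_card_ge hQ (by rw [hm, h4, mul_one]))
  have he1 : e 1 = 0 := by simpa using hadd 1 P.one_mem 1 P.one_mem
  choose ψ hψ hψe using fun a : F => he.surjOn (Set.mem_univ a)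
  have hψ' : ∀ x ∈ P, ψ (e x) = x := fun x hx => he.injOn (hψ _) hx (hψe _)
  obtain ⟨⟨x₀, hx₀⟩, hx1⟩ := Subgroup.ne_bot_iff_exists_ne_one.mp h.ne_bot
  have hx1' : x₀ ≠ 1 := fun e => hx1 (Subtype.ext e)
  have he0 : ∀ x ∈ P, x ≠ 1 → e x ≠ 0 := fun x hx h1 e0 =>
    h1 (he.injOn hx P.one_mem (e0.trans he1.symm))
  have hχ0 : ∀ d ∈ twoPt P w, χ d ≠ 0 := fun d hd e0 =>
    he0 _ (hn d hd x₀ hx₀) (fun e => hx1' (by simpa using e)) (by rw [hχ d hd x₀ hx₀, e0, zero_mul])
  let χ' : twoPt P w →* Fˣ := MonoidHom.mk' (fun d => Units.mk0 (χ d) (hχ0 d d.2)) fun a b => by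
    ext
    apply mul_right_cancel₀ (he0 x₀ hx₀ hx1')
    simp only [Units.val_mk0, Units.val_mul]
    rw [← hχ _ (a * b).2 x₀ hx₀, mul_assoc (χ a), ← hχ _ b.2 x₀ hx₀, ← hχ _ a.2 _ (hn _ b.2 x₀ hx₀)]
    congr 1
    push_cast
    group
  have hχ' : Function.Injective χ' := (injective_iff_map_eq_one χ').mpr fun d hd => by
    have h1 : χ d = 1 := congrArg Units.val hd
    have h2 := hχ d d.2 x₀ hx₀
    rw [h1, one_mul] at h2
    have h3 := he.injOn (hn d d.2 x₀ hx₀) hx₀ h2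
    exact Subtype.ext (hdis d d.2 (h.cti.cent x₀ hx₀ hx1' d (by rwa [← mul_inv_eq_iff_eq_mul])))
  let φ : OnePoint F → G ⧸ normalizer (P : Set G) := fun o =>
    o.elim ((1 : G) : G ⧸ normalizer (P : Set G)) fun a => ((ψ a * w : G) : G ⧸ normalizer (P : Set G))
  have hne : ∀ a, ψ a * w ∉ normalizer (P : Set G) := fun a e =>
    h.notMem ((Subgroup.mul_mem_cancel_left _ (le_normalizer (hψ a))).mp e)
  have hφ : Function.Bijective φ := by
    constructor
    · intro x y e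
      induction x using OnePoint.rec <;> induction y using OnePoint.rec
      · rfl
      · exact absurd (by simpa using QuotientGroup.eq.mp e) (hne _)
      · exact absurd (by simpa using QuotientGroup.eq.mp e.symm) (hne _)
      · rename_i a b
        have h2 : (ψ a * w)⁻¹ * (ψ b * w) ∈ normalizer (P : Set G) := QuotientGroup.eq.mp e
        have h3 := h.cti.eq_one_of_conj_mem_norm h.notMem (P.mul_mem (P.inv_mem (hψ a)) (hψ b))
          (by convert h2 using 1; group)
        rw [← hψe a, inv_mul_eq_one.mp h3, hψe]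
    · intro y
      obtain ⟨g, rfl⟩ := QuotientGroup.mk_surjective y
      by_cases hg : g ∈ normalizer (P : Set G)
      · exact ⟨∞, QuotientGroup.eq.mpr (by simpa using hg)⟩
      · obtain ⟨x, hx, e'⟩ := h.cti.two_trans h.index h.notMem hg
        exact ⟨e x, QuotientGroup.eq.mpr (by rwa [hψ' x hx])⟩
  let Φ := Equiv.ofBijective φ hφ
  let ρ : G →* Equiv.Perm (OnePoint F) :=
    Φ.symm.permCongrHom.toMonoidHom.comp (MulAction.toPermHom G (G ⧸ normalizer (P : Set G)))
  have hρ : ∀ g x y, ρ g x = y ↔ g • φ x = φ y := fun g x y => by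
    change Φ.symm (g • Φ x) = y ↔ _
    rw [Equiv.symm_apply_eq]
    rfl
  have hρ1 : ∀ g, ρ g ∞ = ∞ ↔ g ∈ normalizer (P : Set G) := fun g => by
    rw [hρ, eq_comm]
    refine QuotientGroup.eq.trans ?_
    simp
  have hρ2 : ∀ g (a b : F), ρ g a = b ↔ (ψ b * w)⁻¹ * (g * (ψ a * w)) ∈ normalizer (P : Set G) :=
    fun g a b => by
      rw [hρ, eq_comm]
      exact QuotientGroup.eq
  have hψ0 : ψ 0 = 1 := by rw [← he1, hψ' 1 P.one_mem]
  have hU : ∀ x ∈ P, ρ x = pU (e x) := fun x hx => by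
    ext y
    induction y using OnePoint.rec with
    | infty => rw [pU_infty, hρ1]; exact le_normalizer hx
    | coe a =>
      rw [pU_coe, hρ2, ← hψe a, ← hadd x hx _ (hψ a), hψ' _ (P.mul_mem hx (hψ a)), hψe]
      convert (normalizer (P : Set G)).one_mem using 1
      group
  have hD : ∀ d : twoPt P w, ρ d = pD (χ' d) := fun d => by
    ext y
    induction y using OnePoint.rec with
    | infty => rw [pD_infty, hρ1]; exact (mem_twoPt.mp d.2).1
    | coe a =>
      rw [pD_coe, hρ2, show ((χ' d : Fˣ) : F) = χ d from rfl, ← hψe a, ← hχ d d.2 _ (hψ a),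
        hψ' _ (hn d d.2 _ (hψ a)), hψe]
      convert (mem_twoPt.mp d.2).2 using 1
      group
  have hstab : ∀ g, ρ g ∞ = ∞ → ρ g (0 : F) = (0 : F) → g ∈ twoPt P w := fun g h1 h2 => by
    rw [hρ2, hψ0] at h2
    exact mem_twoPt.mpr ⟨(hρ1 g).mp h1, by simpa [mul_assoc] using h2⟩
  refine ⟨F, i1, i2, inferInstance, ρ, χ'.range, ?_, ?_, ?_, ?_⟩
  · rw [← Nat.card_eq_fintype_card, ← Set.ncard_univ, ← he.ncard_eq]
    rfl
  · refine (injective_iff_map_eq_one ρ).mpr fun g hg => ?_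
    have h1 := hstab g (by rw [hg]; rfl) (by rw [hg]; rfl)
    have h2 := congrArg (fun σ => σ ((1 : F) : OnePoint F)) (hD ⟨g, h1⟩)
    simp only [hg, Equiv.Perm.one_apply, pD_coe, mul_one, coe_eq_coe] at h2
    exact congrArg Subtype.val (hχ' (a₁ := ⟨g, h1⟩) (a₂ := 1)
      (Units.ext (by rw [map_one]; exact h2.symm)))
  · exact (Nat.card_congr (MonoidHom.ofInjective hχ').toEquiv).symm
  · refine ⟨fun a => ⟨ψ a, by rw [hU _ (hψ a), hψe]⟩, ?_, ⟨w, rfl⟩, fun x => ?_, ?_, ?_, ?_⟩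
    · rintro _ ⟨d, rfl⟩
      exact ⟨d, hD d⟩
    · rw [← Equiv.Perm.mul_apply, ← map_mul, h.ww, map_one, Equiv.Perm.one_apply]
    · rw [hρ]
      exact QuotientGroup.eq.mpr (by simp [hψ0])
    · rintro _ ⟨d, rfl⟩ x
      rw [← map_inv, ← hD, ← hD, ← Equiv.Perm.mul_apply, ← Equiv.Perm.mul_apply, ← map_mul,
        ← map_mul, InvMemClass.coe_inv, ← h.inv d d.2, inv_mul_cancel_right]
    · rintro _ ⟨g, rfl⟩ h1 h2
      exact ⟨_, ⟨⟨g, hstab g h1 h2⟩, rfl⟩, hD ⟨g, hstab g h1 h2⟩⟩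

/-- Recognition of `PSL(2, q)`, `q` odd. -/
theorem psl (hc : Nat.card P = 2 * Nat.card (twoPt P w) + 1) :
    ∃ (F : Type) (_ : Field F) (_ : Fintype F), Fintype.card F = Nat.card P ∧
      Nonempty (G ≃* Matrix.ProjectiveSpecialLinearGroup (Fin 2) F) := by
  obtain ⟨F, i1, i2, i3, ρ, S, h1, h2, h3, h4⟩ := h.exists_lineGp hc.le
  refine ⟨F, i1, i2, h1, ?_⟩
  have h5 : S.index = 2 := by
    have := S.card_mul_index
    rw [Nat.card_units, Nat.card_eq_fintype_card (α := F), h1, hc, ← h3, Nat.add_sub_cancel,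
      mul_comm 2] at this
    exact Nat.eq_of_mul_eq_mul_left Nat.card_pos this
  exact nonempty_equiv_of_range_eq h2 (h4.eq_range_piSL h5) ker_piSL

/-- Recognition of `PGL(2, q)`. -/
theorem pgl (hc : Nat.card P = Nat.card (twoPt P w) + 1) :
    ∃ (F : Type) (_ : Field F) (_ : Fintype F), Fintype.card F = Nat.card P ∧
      Nonempty (G ≃* (GL (Fin 2) F ⧸ Subgroup.center (GL (Fin 2) F))) := by
  obtain ⟨F, i1, i2, i3, ρ, S, h1, h2, h3, h4⟩ := h.exists_lineGp (by omega)
  refine ⟨F, i1, i2, h1, ?_⟩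
  have h5 : S = ⊤ := by
    apply eq_top_of_card_eq
    rw [Nat.card_units, Nat.card_eq_fintype_card (α := F), h1, hc, ← h3, Nat.add_sub_cancel]
  exact nonempty_equiv_of_range_eq h2 (h4.eq_range_piGL h5) ker_piGL

end ZAb

end CfsgLib.BSW
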