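import Cfsg.Agent.Lib.BSW.OddC
import Cfsg.Agent.Lib.BSW.ZassOdd
import Cfsg.Agent.Lib.CorePClosed
import Cfsg.Agent.Lib.FT.Main

/-! The Brauer–Suzuki–Wall theorem (odd `q`). -/

set_option autoImplicit false

namespace CfsgLib.BSW

open Subgroup Cfsg CfsgLib.FT

variable {G : Type*} [Group G]

theorem isPClosed_of_solvable [Finite G] (hs : Group.IsSolvable G) {p : ℕ} [hp : Fact p.Prime]
    (h : ∀ x z : G, x ≠ 1 → (orderOf x).Coprime p → orderOf z = p →
      x * (z * x * z⁻¹) = (z * x * z⁻¹) * x → False) : IsPClosed p G := by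
  refine isPClosed_of_quotient (pCore_isPGroup p) (isPClosed_of_not_dvd fun hd => ?_)
  have : Nontrivial (G ⧸ pCore p G) := Finite.one_lt_card_iff_nontrivial.mp
    (lt_of_lt_of_le hp.out.one_lt (Nat.le_of_dvd Nat.card_pos hd))
  obtain ⟨r, hr, hne⟩ := exists_pCore_ne_bot (G := G ⧸ pCore p G)
  have : Fact r.Prime := ⟨hr⟩
  have hrp : r ≠ p := by
    rintro rfl
    exact hne (pCore_quotient_pCore r)
  set f := QuotientGroup.mk' (pCore p G) with hf
  set M := (pCore r (G ⧸ pCore p G)).comap f with hM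
  obtain ⟨R⟩ : Nonempty (Sylow r M) := inferInstance
  set R' := (R : Subgroup M).map M.subtype with hR'
  have h1 : R'.map f = pCore r (G ⧸ pCore p G) := by
    let φ : M →* pCore r (G ⧸ pCore p G) := (f.comp M.subtype).codRestrict _ fun x => x.2
    have hφ : Function.Surjective φ := fun y => by
      obtain ⟨x, hx⟩ := QuotientGroup.mk'_surjective _ y.1
      exact ⟨⟨x, by rw [hM, mem_comap, hf, hx]; exact y.2⟩, Subtype.ext hx⟩
    have h2 : ((R.mapSurjective hφ : Sylow r (pCore r (G ⧸ pCore p G))) :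
        Subgroup (pCore r (G ⧸ pCore p G))) = ⊤ :=
      ((R.mapSurjective hφ).is_maximal' ((pCore_isPGroup r).to_subgroup ⊤) le_top).symm
    apply le_antisymm
    · rintro _ ⟨_, ⟨x, -, rfl⟩, rfl⟩
      exact x.2
    · intro y hy
      have : (⟨y, hy⟩ : pCore r (G ⧸ pCore p G)) ∈ (R : Subgroup M).map φ := by
        rw [← Sylow.coe_mapSurjective (hf := hφ), h2]; trivial
      obtain ⟨x, hx, e⟩ := this
      exact ⟨x, ⟨x, hx, rfl⟩, congrArg Subtype.val e⟩
  have h2 : (normalizer (R' : Set G)).map f = ⊤ := by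
    have h3 := congrArg (Subgroup.map f) R.normalizer_sup_eq_top
    have h4 : M.map f = pCore r (G ⧸ pCore p G) :=
      map_comap_eq_self_of_surjective (QuotientGroup.mk'_surjective _) _
    rw [Subgroup.map_sup, h4, ← h1, sup_eq_left.mpr (map_mono le_normalizer),
      map_top_of_surjective _ (QuotientGroup.mk'_surjective _)] at h3
    exact h3
  have h3 : p ∣ Nat.card (normalizer (R' : Set G)) := by
    refine hd.trans ?_
    rw [← card_top, ← h2]
    exact card_map_dvd _ _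
  obtain ⟨z, hz⟩ := exists_prime_orderOf_dvd_card' p h3
  have hR : IsPGroup r R' := R.isPGroup'.map _
  have : Nontrivial R' := (nontrivial_iff_ne_bot _).mpr fun e => hne (by rw [← h1, e, Subgroup.map_bot])
  have := hR.center_nontrivial
  obtain ⟨x, hx⟩ := exists_ne (1 : center R')
  obtain ⟨j, hj⟩ := (IsPGroup.iff_orderOf.mp hR) x.1
  refine h x.1.1 z (fun e => hx (Subtype.ext (Subtype.ext e))) ?_ (by rw [orderOf_coe, hz]) ?_
  · rw [orderOf_coe, hj]
    exact ((Nat.coprime_primes hr hp.out).mpr hrp).pow_left j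
  · exact (congrArg Subtype.val (mem_center_iff.mp x.2
      ⟨_, conj_mem_of_mem_normalizer z.2 x.1.2⟩)).symm

theorem sylow_eq_of_isPClosed [Finite G] {p : ℕ} [Fact p.Prime]
    (h : ∀ D : Subgroup G, D ≠ ⊥ → IsPGroup p D → IsPClosed p (normalizer (D : Set G)))
    (P Q : Sylow p G) (hne : (P : Subgroup G) ⊓ Q ≠ ⊥) : P = Q := by
  induction hn : ((P : Subgroup G) ⊓ Q).index using Nat.strong_induction_on generalizing P Q with
  | _ n ih =>
    by_contra hPQ
    set D := (P : Subgroup G) ⊓ Q with hD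
    have hD' : IsPGroup p D := P.isPGroup'.to_le inf_le_left
    obtain ⟨R, hR⟩ := ((pCore_isPGroup p (G := normalizer (D : Set G))).map
      (normalizer (D : Set G)).subtype).exists_le_sylow
    have key : ∀ S : Sylow p G, D < S → S = R := fun S hS => by
      have h1 := lt_inf_normalizer_of_isNilpotent S.isPGroup'.isNilpotent hS
      have h2 : (S : Subgroup G) ⊓ normalizer (D : Set G) ≤ (S : Subgroup G) ⊓ R := fun x hx => ⟨hx.1, hR
        ⟨⟨x, hx.2⟩, isPClosed_iff_le_pCore.mp (h D hne hD') ((S : Subgroup G).subgroupOf _)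
          S.isPGroup'.comap_subtype hx.1, rfl⟩⟩
      have h3 := h1.trans_le h2
      exact ih _ (hn ▸ index_strictAnti h3) S R (fun e => hne (eq_bot_iff.mpr (e ▸ h3.le))) rfl
    have h1 : D < P := lt_of_le_of_ne inf_le_left fun e =>
      hPQ (Sylow.ext (P.is_maximal' Q.isPGroup' (e ▸ inf_le_right)).symm)
    have h2 : D < Q := lt_of_le_of_ne inf_le_right fun e =>
      hPQ (Sylow.ext (Q.is_maximal' P.isPGroup' (e ▸ inf_le_left)))
    exact hPQ ((key P h1).trans (key Q h2).symm)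

theorem pred_of_orderOf_eq [Finite G] {A : G → Prop} (h1 : ∀ g x, A x → A (g * x * g⁻¹))
    (h2 : ∀ x y, x ≠ 1 → y ≠ 1 → y * x = x * y → A x → A y) {r : ℕ} (hr : r.Prime) {x z : G}
    (hx : orderOf x = r) (hz : orderOf z = r) (h : A x) : A z := by
  have : Fact r.Prime := ⟨hr⟩
  obtain ⟨R⟩ : Nonempty (Sylow r G) := inferInstance
  obtain ⟨c, -, hc, hcR⟩ := exists_central_of_sylow R (hx ▸ orderOf_dvd_natCard x)
  obtain ⟨g, hg⟩ := exists_conj_mem_sylow R (k := 1) (by rw [hx, pow_one])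
  obtain ⟨g', hg'⟩ := exists_conj_mem_sylow R (k := 1) (by rw [hz, pow_one])
  have hc1 := ne_one_of_orderOf_prime hr hc
  have h3 := h2 _ c (conj_ne_one (ne_one_of_orderOf_prime hr hx)) hc1
    (mem_cent.mp (hcR hg)).symm (h1 g x h)
  have h4 := h2 c _ hc1 (conj_ne_one (ne_one_of_orderOf_prime hr hz)) (mem_cent.mp (hcR hg')) h3
  simpa [mul_assoc] using h1 g'⁻¹ _ h4

theorem ncard_class [Finite G] (x : G) : {u | ∃ g, g * x * g⁻¹ = u}.ncard = cidx x := by
  have := Fintype.ofFinite G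
  have h1 := sum_conj_eq x (fun _ => 1)
  simp only [Finset.sum_const, Finset.card_univ, nsmul_eq_mul, mul_one, card_elems_set,
    ← Nat.card_eq_fintype_card] at h1
  have h2 : Nat.card G = Nat.card (centralizer ({x} : Set G)) * {u | ∃ g, g * x * g⁻¹ = u}.ncard := by
    exact_mod_cast h1
  rw [← (centralizer ({x} : Set G)).card_mul_index] at h2
  exact (Nat.eq_of_mul_eq_mul_left Nat.card_pos h2).symm

theorem CentTI.ncard_classSupport [Finite G] {P : Subgroup G} (h : CentTI P) (h1 : P ≠ ⊥) :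
    (classSupport (sharp P) ⊤).ncard + (normalizer (P : Set G)).index =
      (normalizer (P : Set G)).index * Nat.card P := by
  have := Fintype.ofFinite G
  have h2 := ((normedTI_sharp_iff h1).mpr ⟨h.ti, rfl⟩).card_classSupport
  have h3 : (sharp P).ncard + 1 = Nat.card P := by
    rw [sharp, Set.ncard_diff_singleton_add_one P.one_mem]
    rfl
  rw [h2, relIndex_top_right, ← h3]
  ring

namespace Setup

variable [Finite G] {K : Subgroup G} {t s : G} (h : Setup K t s)
include h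

theorem inverts_of_not_inK {D : Subgroup G} (hD : ∀ x ∈ D, x ≠ 1 → ¬ InK K x) {u : G}
    (hu : u * u = 1) (hu1 : u ≠ 1) (hn : ∀ x ∈ D, u * x * u⁻¹ ∈ D) {x : G} (hx : x ∈ D) :
    u * x * u⁻¹ = x⁻¹ := by
  obtain ⟨a, -, ha⟩ := Frob.exists_conj_eq_mul_of_fpf hn (fun k hk e => by
    by_contra h1
    exact hD k hk h1 (h.inK_of_comm (h.inK_of_sq hu) hu1 e.symm)) hx
  have h1 : x * u * (x * u) = 1 := by
    rw [← ha]
    calc a * u * a⁻¹ * (a * u * a⁻¹) = a * (u * u) * a⁻¹ := by group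
      _ = 1 := by rw [hu]; group
  rw [inv_eq_of_mul_eq_one_right hu]
  exact eq_inv_of_mul_eq_one_right (by rw [← h1]; group)

omit [Finite G] in
theorem not_inK_of_cent {y : G} (hy : ¬ InK K y) (x : G) (hx : x ∈ centralizer ({y} : Set G))
    (hx1 : x ≠ 1) : ¬ InK K x := fun e => hy (h.inK_of_comm e hx1 (mem_cent.mp hx).symm)

omit [Finite G] in
theorem ne_one_of_inverts {y u : G} (hy : ¬ InK K y) (hi : u * y * u⁻¹ = y⁻¹) : u ≠ 1 := by
  rintro rfl
  exact hy (h.inK_of_sq (by nth_rewrite 1 [show y = y⁻¹ by simpa using hi]; simp))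

theorem inverts_cent {y u : G} (hy : ¬ InK K y) (hu : u * u = 1) (hi : u * y * u⁻¹ = y⁻¹) {z : G}
    (hz : z ∈ centralizer ({y} : Set G)) : u * z * u⁻¹ = z⁻¹ :=
  h.inverts_of_not_inK (h.not_inK_of_cent hy) hu (h.ne_one_of_inverts hy hi) (fun x hx => by
    have := conj_mem_cent (g := u) hx
    rw [hi] at this
    exact mem_cent_comm (by simpa using inv_mem (mem_cent_comm this))) hz

theorem cent_comm {y u : G} (hy : ¬ InK K y) (hu : u * u = 1) (hi : u * y * u⁻¹ = y⁻¹) :
    ∀ a ∈ centralizer ({y} : Set G), ∀ b ∈ centralizer ({y} : Set G), a * b = b * a := by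
  intro a ha b hb
  have h1 := h.inverts_cent hy hu hi (Subgroup.mul_mem _ ha hb)
  have h4 : u * (a * b) * u⁻¹ = (u * a * u⁻¹) * (u * b * u⁻¹) := by group
  rw [h1, h.inverts_cent hy hu hi ha, h.inverts_cent hy hu hi hb, ← mul_inv_rev, inv_inj] at h4
  exact h4

theorem cent_eq {y u : G} (hy : ¬ InK K y) (hu : u * u = 1) (hi : u * y * u⁻¹ = y⁻¹) {z : G}
    (hz : z ∈ centralizer ({y} : Set G)) (hz1 : z ≠ 1) :
    centralizer ({z} : Set G) = centralizer {y} :=
  le_antisymm (fun g hg => mem_cent.mpr (h.cent_comm (h.not_inK_of_cent hy z hz hz1) hu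
    (h.inverts_cent hy hu hi hz) g hg y (mem_cent_comm hz)))
    fun g hg => mem_cent.mpr (h.cent_comm hy hu hi g hg z hz)

theorem centTI_cent {y u : G} (hy : ¬ InK K y) (hu : u * u = 1) (hi : u * y * u⁻¹ = y⁻¹) :
    CentTI (centralizer ({y} : Set G)) :=
  centTI_of_cent_le (fun _ hw hw1 => (h.cent_eq hy hu hi hw hw1).le)
    (by rintro rfl; exact hy (inK_one K))

omit h [Finite G] in
theorem inverts_of_mem_iota {y u : G} (h1 : orderOf u = 2) (h2 : orderOf (u * y) = 2) :
    u * u = 1 ∧ u * y * u⁻¹ = y⁻¹ := by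
  rw [orderOf_eq_two_iff'] at h1 h2
  refine ⟨h1.1, ?_⟩
  rw [inv_eq_of_mul_eq_one_right h1.1]
  exact eq_inv_of_mul_eq_one_left (by rw [← h2.1]; group)

omit h [Finite G] in
theorem exists_inverts {y : G} (hy : iota y ≠ 0) : ∃ u, u * u = 1 ∧ u * y * u⁻¹ = y⁻¹ := by
  obtain ⟨u, h1, h2⟩ := Set.nonempty_of_ncard_ne_zero hy
  exact ⟨u, inverts_of_mem_iota h1 h2⟩

theorem iota_eq_card {y u : G} (hy : ¬ InK K y) (hu : u * u = 1) (hi : u * y * u⁻¹ = y⁻¹) :
    iota y = Nat.card (centralizer ({y} : Set G)) := by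
  have : {v : G | orderOf v = 2 ∧ orderOf (v * y) = 2} =
      (fun a => u * a) '' (centralizer ({y} : Set G) : Set G) := by
    ext v
    constructor
    · rintro ⟨h1, h2⟩
      obtain ⟨-, h3⟩ := inverts_of_mem_iota h1 h2
      refine ⟨u⁻¹ * v, mem_cent.mpr ?_, by simp⟩
      calc u⁻¹ * v * y = u⁻¹ * (v * y * v⁻¹) * v := by group
        _ = _ := by rw [h3, ← hi]; group
    · rintro ⟨a, ha, rfl⟩
      have key : ∀ a ∈ centralizer ({y} : Set G), orderOf (u * a) = 2 := fun a ha => by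
        refine orderOf_eq_two_iff'.mpr ⟨?_, fun e => ?_⟩
        · calc u * a * (u * a) = u * a * u⁻¹ * (u * u) * a := by group
            _ = 1 := by rw [h.inverts_cent hy hu hi ha, hu]; group
        · have e' : a = u := by rw [← inv_eq_of_mul_eq_one_right e, inv_eq_of_mul_eq_one_right hu]
          rw [e'] at ha
          exact h.not_inK_of_cent hy u ha (h.ne_one_of_inverts hy hi) (h.inK_of_sq hu)
      exact ⟨key a ha, by rw [mul_assoc]; exact key _ (Subgroup.mul_mem _ ha (self_mem_cent y))⟩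
  rw [iota, this, Set.ncard_image_of_injective _ (mul_right_injective u)]
  rfl

theorem iota_eq_of_cent {y : G} (hy : ¬ InK K y) (h0 : iota y ≠ 0) {z : G}
    (hz : z ∈ centralizer ({y} : Set G)) (hz1 : z ≠ 1) : iota z = iota y := by
  obtain ⟨u, hu, hi⟩ := exists_inverts h0
  rw [h.iota_eq_card hy hu hi, h.iota_eq_card (h.not_inK_of_cent hy z hz hz1) hu
    (h.inverts_cent hy hu hi hz), h.cent_eq hy hu hi hz hz1]

theorem exists_cent_dec {y u : G} (hy : ¬ InK K y) (hu : u * u = 1) (hi : u * y * u⁻¹ = y⁻¹)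
    {n : G} (hn : n ∈ normalizer (centralizer ({y} : Set G) : Set G)) :
    ∃ a ∈ centralizer ({y} : Set G), a⁻¹ * n * u = u * (a⁻¹ * n) := by
  have h1 : n * u * n⁻¹ * u⁻¹ ∈ centralizer ({y} : Set G) := mem_cent.mpr (by
    have h2 := h.inverts_cent hy hu hi (conj_mem_of_mem_normalizer' hn (self_mem_cent y))
    have h3 : u⁻¹ * y * u = y⁻¹ := by
      rw [← hi, inv_eq_of_mul_eq_one_right hu]
    calc n * u * n⁻¹ * u⁻¹ * y = n * u * n⁻¹ * (u⁻¹ * y * u) * u⁻¹ := by group
      _ = n * (u * (n⁻¹ * y * n) * u⁻¹)⁻¹ * u * n⁻¹ * u⁻¹ := by rw [h3]; group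
      _ = _ := by rw [h2]; group)
  obtain ⟨a, ha, e⟩ := Frob.exists_conj_eq_mul_of_fpf (h := u)
    (fun k hk => by rw [h.inverts_cent hy hu hi hk]; exact inv_mem hk)
    (fun k hk e => by
      by_contra h1
      exact h.not_inK_of_cent hy k hk h1
        (h.inK_of_comm (h.inK_of_sq hu) (h.ne_one_of_inverts hy hi) e.symm)) h1
  refine ⟨a, ha, ?_⟩
  calc a⁻¹ * n * u = a⁻¹ * (n * u * n⁻¹ * u⁻¹ * u) * n := by group
    _ = _ := by rw [← e]; group

theorem notMem_norm {y u : G} (hy : ¬ InK K y) (hi : t * y * t⁻¹ = y⁻¹) (hu : u * t = t * u)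
    (huK : u ∉ K) : u ∉ normalizer (centralizer ({y} : Set G) : Set G) := by
  intro hn
  have h1 := h.inverts_of_not_inK (h.not_inK_of_cent hy) (h.sq u hu huK)
    (fun e => huK (e ▸ K.one_mem)) (fun x hx => conj_mem_of_mem_normalizer hn hx) (self_mem_cent y)
  have h2 : u * t ∉ K := fun e => huK (by simpa using K.mul_mem e (K.inv_mem h.mem))
  refine h.not_inK_of_cent hy (u * t) (mem_cent.mpr ?_) (fun e => h2 (e ▸ K.one_mem))
    (h.inK_of_sq (h.sq _ (by rw [← mul_assoc, hu]) h2))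
  calc u * t * y = u * (t * y * t⁻¹) * u⁻¹ * (u * t) := by group
    _ = (u * y * u⁻¹)⁻¹ * (u * t) := by rw [hi]; group
    _ = _ := by rw [h1]; group

theorem zab_plus (hi : cidx t = (2 * Nat.card K + 1) * (Nat.card K + 1))
    (hv : ∀ y, ¬ InK K y → iota y = Nat.card K + 1 ∨ iota y = 2 * Nat.card K + 1)
    (hc : {y | ¬ InK K y ∧ iota y ≠ Nat.card K + 1}.ncard + 1 = (2 * Nat.card K + 1) ^ 2) :
    ∃ (P : Subgroup G) (w : G), ZAb P w ∧ Nat.card P = 2 * Nat.card (twoPt P w) + 1 ∧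
      Nat.card P = 2 * Nat.card K + 1 := by
  have hk := h.four
  obtain ⟨y, hy, hy', hti⟩ : ∃ y, ¬ InK K y ∧ iota y ≠ Nat.card K + 1 ∧ t * y * t⁻¹ = y⁻¹ := by
    obtain ⟨y, hy, hy'⟩ := Set.nonempty_of_ncard_ne_zero
      (s := {y | ¬ InK K y ∧ iota y ≠ Nat.card K + 1}) (by nlinarith)
    obtain ⟨u, hu, hi⟩ := exists_inverts (y := y) (by have := hv y hy; omega)
    obtain ⟨a, rfl⟩ := h.conj u (orderOf_eq_two_iff'.mpr ⟨hu, h.ne_one_of_inverts hy hi⟩)
    refine ⟨a⁻¹ * y * a⁻¹⁻¹, by rwa [inK_conj_iff], by rwa [iota_conj], ?_⟩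
    calc t * (a⁻¹ * y * a⁻¹⁻¹) * t⁻¹ = a⁻¹ * (a * t * a⁻¹ * y * (a * t * a⁻¹)⁻¹) * a := by group
      _ = _ := by rw [hi]; group
  have hq := (hv y hy).resolve_left hy'
  have hP := h.centTI_cent hy h.tt hti
  have hcard := h.iota_eq_card hy h.tt hti
  set P := centralizer ({y} : Set G) with hPdef
  rw [hq] at hcard
  have hP1 : P ≠ ⊥ := fun e => by rw [e, card_bot] at hcard; omega
  have hs := h.notMem_norm hy hti h.s_comm h.s_notMem
  have hidx : (normalizer (P : Set G)).index = Nat.card P + 1 := by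
    refine le_antisymm ?_ (hP.card_succ_le_index hs)
    have h1 := hP.ncard_classSupport hP1
    have h2 : classSupport (sharp P) ⊤ ⊆ {y | ¬ InK K y ∧ iota y ≠ Nat.card K + 1} := by
      rintro _ ⟨a, ha, g, -, rfl⟩
      refine ⟨by rw [inK_conj_iff]; exact h.not_inK_of_cent hy a ha.1 ha.2, ?_⟩
      rwa [iota_conj, h.iota_eq_of_cent hy (by omega) ha.1 ha.2]
    have h3 := Set.ncard_le_ncard h2
    rw [← hcard] at h1 ⊢
    nlinarith
  have hN : Nat.card (normalizer (P : Set G)) = Nat.card P * Nat.card K := by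
    have h1 := (normalizer (P : Set G)).card_mul_index
    rw [h.card_eq, hi, hidx, ← hcard] at h1
    rw [← hcard]
    apply Nat.eq_of_mul_eq_mul_right (show 0 < 2 * Nat.card K + 1 + 1 by omega)
    rw [h1]; ring
  have hKN : K ≤ normalizer (P : Set G) := by
    have := Fintype.ofFinite G
    have h1 := card_mul_eq (L := normalizer (P : Set G)) (K := P) (H := K ⊓ normalizer (P : Set G))
      le_normalizer inf_le_right (fun n hn => by
        obtain ⟨a, ha, e⟩ := h.exists_cent_dec hy h.tt hti hn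
        have h2 : a⁻¹ * n ∈ normalizer (P : Set G) :=
          Subgroup.mul_mem _ (inv_mem (le_normalizer ha)) hn
        refine ⟨a, ha, a⁻¹ * n, ⟨?_, h2⟩, by simp⟩
        by_contra hc
        exact h.notMem_norm hy hti e hc h2)
    have h2 : 0 < Nat.card ↥(P ⊓ (K ⊓ normalizer (P : Set G))) := Nat.card_pos
    have h3 : 0 < Nat.card P := Nat.card_pos
    rw [hN] at h1
    have h4 : Nat.card K ≤ Nat.card ↥(K ⊓ normalizer (P : Set G)) := by
      apply Nat.le_of_mul_le_mul_left _ h3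
      rw [h1]
      exact Nat.le_mul_of_pos_left _ h2
    exact inf_eq_left.mp (eq_of_le_of_card_ge inf_le_left h4)
  have hE : Nat.card (twoPt P s) = Nat.card K := by
    have := hP.card_twoPt hidx hs
    rw [hN] at this
    exact (Nat.eq_of_mul_eq_mul_left Nat.card_pos this).symm
  have hKE : K = twoPt P s := eq_of_le_of_card_ge (fun x hx => mem_twoPt.mpr ⟨hKN hx, hKN (by
    simpa using h.conj_mem (g := s⁻¹) (by
      rw [inv_eq_of_mul_eq_one_right h.ss]; exact h.s_comm) hx)⟩) hE.le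
  have Z : ZAb P s := ⟨hP, h.cent_comm hy h.tt hti, hP1, hidx, h.ss, hs, fun d hd =>
    h.inverts h.s_comm h.s_notMem (hKE ▸ hd)⟩
  exact ⟨P, s, Z, by rw [hE, hcard], hcard.symm⟩

theorem odd_norm {D : Subgroup G} (h1 : D ≠ ⊥) (hD : ∀ x ∈ D, x ≠ 1 → ¬ InK K x ∧ iota x = 0) :
    Odd (Nat.card (normalizer (D : Set G))) := by
  by_contra hc
  rw [Nat.not_odd_iff_even, even_iff_two_dvd] at hc
  obtain ⟨u, hu⟩ := exists_prime_orderOf_dvd_card' 2 hc
  rw [← orderOf_coe, orderOf_eq_two_iff'] at hu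
  obtain ⟨⟨x, hx⟩, hx1⟩ := Subgroup.ne_bot_iff_exists_ne_one.mp h1
  have hx1' : x ≠ 1 := fun e => hx1 (Subtype.ext e)
  have h2 := h.inverts_of_not_inK (fun x hx h1 => (hD x hx h1).1) hu.1 hu.2
    (fun x hx => conj_mem_of_mem_normalizer u.2 hx) hx
  have h3 := h.iota_eq_card (hD x hx hx1').1 hu.1 h2
  rw [(hD x hx hx1').2] at h3
  exact Nat.card_pos.ne h3

theorem orderOf_dvd_of_inK {x : G} (hx : InK K x) : orderOf x ∣ Nat.card K := by
  obtain ⟨g, hg⟩ := hx
  rw [← H5.orderOf_conj' g x]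
  exact K.orderOf_dvd_natCard hg

theorem zab_minus {m : ℕ} (hm : Nat.card K = m + 1) (hi : cidx t = (2 * m + 1) * m)
    (hv : ∀ y, ¬ InK K y → iota y = m ∨ iota y = 0)
    (hc : {y | ¬ InK K y ∧ iota y ≠ m}.ncard + 1 = (2 * m + 1) ^ 2) :
    ∃ (P : Subgroup G) (w : G), ZAb P w ∧ Nat.card P = 2 * Nat.card (twoPt P w) + 1 ∧
      Nat.card P = 2 * m + 1 := by
  have hk := h.four
  have hS : {y | ¬ InK K y ∧ iota y ≠ m} = {y | ¬ InK K y ∧ iota y = 0} := by
    ext y
    exact and_congr_right fun hy => ⟨(hv y hy).resolve_left, by omega⟩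
  rw [hS] at hc
  set S := {y | ¬ InK K y ∧ iota y = 0} with hSdef
  have hg : Nat.card G = 2 * (m + 1) * m * (2 * m + 1) := by rw [h.card_eq, hi, hm]; ring
  have hconj : ∀ g y, y ∈ S → g * y * g⁻¹ ∈ S := fun g y hy =>
    ⟨by rw [inK_conj_iff]; exact hy.1, by rw [iota_conj]; exact hy.2⟩
  have hcent : ∀ y ∈ S, ∀ z ∈ centralizer ({y} : Set G), z ≠ 1 → z ∈ S := fun y hy z hz hz1 => by
    have h1 := h.not_inK_of_cent hy.1 z hz hz1
    refine ⟨h1, ?_⟩
    by_contra h2
    exact h2 (by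
      rw [← h.iota_eq_of_cent h1 h2 (mem_cent_comm hz) (by rintro rfl; exact hy.1 (inK_one K))]
      exact hy.2)
  have hne1 : ∀ y ∈ S, y ≠ 1 := fun y hy e => hy.1 (e ▸ inK_one K)
  obtain ⟨y₁, hy₁, hy₁'⟩ : ∃ y, ¬ InK K y ∧ iota y ≠ 0 := by
    classical
    by_contra hcon
    push Not at hcon
    have := Fintype.ofFinite G
    have h1 := h.sum_split (fun _ => 1) 1 (fun _ _ _ => rfl)
    have h2 : (Finset.univ.filter fun x => ¬ InK K x) = elems S := by
      ext x
      simp only [elems, Finset.mem_filter, Finset.mem_univ, true_and]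
      exact ⟨fun e => ⟨e, hcon x e⟩, fun e => e.1⟩
    simp only [h2, Finset.sum_const, Finset.card_univ, nsmul_eq_mul, mul_one, card_elems_set,
      ← Nat.card_eq_fintype_card, hm, hi, hg] at h1
    have h3 : 2 * (m + 1) * m * (2 * m + 1) = (2 * m + 1) * m * m + (S.ncard + 1) := by
      have : ((2 * (m + 1) * m * (2 * m + 1) : ℕ) : ℂ) =
          (((2 * m + 1) * m * m + (S.ncard + 1) : ℕ) : ℂ) := by
        push_cast at h1 ⊢
        linear_combination h1
      exact_mod_cast this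
    rw [hc] at h3
    have h4 : (2 * m + 1) * (m * m) = (2 * m + 1) * 1 := by nlinarith
    have := Nat.eq_of_mul_eq_mul_left (by omega) h4
    nlinarith
  have hdvd : ∀ y ∈ S, Nat.card (centralizer ({y} : Set G)) ∣ 2 * m + 1 := by
    intro y hy
    refine Nat.Coprime.dvd_of_dvd_mul_left ?_ (hg ▸ card_subgroup_dvd_card _)
    refine Nat.coprime_of_dvd fun r hr h1 h2 => ?_
    have : Fact r.Prime := ⟨hr⟩
    obtain ⟨z, hz⟩ := exists_prime_orderOf_dvd_card' r h1
    rw [← orderOf_coe] at hz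
    have hzS := hcent y hy z z.2 (ne_one_of_orderOf_prime hr hz)
    rcases (Nat.Prime.dvd_mul hr).mp h2 with h3 | h3
    · have h4 : r ∣ Nat.card K := by
        rcases (Nat.Prime.dvd_mul hr).mp h3 with h4 | h4
        · exact h4.trans h.even_card
        · rwa [hm]
      obtain ⟨x, hx⟩ := exists_prime_orderOf_dvd_card' r h4
      rw [← orderOf_coe] at hx
      exact hzS.1 (pred_of_orderOf_eq (A := InK K) (fun g x e => e.conj g)
        (fun x y a _ e b => h.inK_of_comm b a e) hr hx hz (inK_of_mem x.2))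
    · obtain ⟨u, hu, hi⟩ := exists_inverts hy₁'
      rw [← (hv y₁ hy₁).resolve_right hy₁', h.iota_eq_card hy₁ hu hi] at h3
      obtain ⟨x, hx⟩ := exists_prime_orderOf_dvd_card' r h3
      rw [← orderOf_coe] at hx
      have hx1 := ne_one_of_orderOf_prime hr hx
      refine (pred_of_orderOf_eq (A := fun x => ¬ InK K x ∧ iota x ≠ 0)
        (fun g x e => ⟨by rw [inK_conj_iff]; exact e.1, by rw [iota_conj]; exact e.2⟩)
        (fun x y a b e c => ⟨h.not_inK_of_cent c.1 y (mem_cent.mpr e) b, by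
          rw [h.iota_eq_of_cent c.1 c.2 (mem_cent.mpr e) b]; exact c.2⟩) hr hx hz
        ⟨h.not_inK_of_cent hy₁ x x.2 hx1, by
          rw [h.iota_eq_of_cent hy₁ hy₁' x.2 hx1]; exact hy₁'⟩).2 hzS.2
  have hkey : ∀ y ∈ S, Nat.card (centralizer ({y} : Set G)) = 2 * m + 1 ∧
      ∀ z ∈ S, orderOf z = orderOf y := by
    intro y hy
    have hyi : y⁻¹ ∈ S := hcent y hy _ (inv_mem (self_mem_cent y)) (inv_ne_one.mpr (hne1 y hy))
    have hdis : Disjoint {u | ∃ g, g * y * g⁻¹ = u} {u | ∃ g, g * y⁻¹ * g⁻¹ = u} := by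
      rw [Set.disjoint_left]
      rintro _ ⟨a, rfl⟩ ⟨b, e⟩
      have h1 : a⁻¹ * b * y * (a⁻¹ * b)⁻¹ = y⁻¹ := by
        calc a⁻¹ * b * y * (a⁻¹ * b)⁻¹ = a⁻¹ * (b * y⁻¹ * b⁻¹)⁻¹ * a := by group
          _ = _ := by rw [e]; group
      set g := a⁻¹ * b
      have h2 : g ∈ normalizer (zpowers y : Set G) := mem_normalizer_of_conj_mem fun x hx => by
        rw [H5.inverts_of_mem_zpowers h1 hx]; exact inv_mem hx
      have h3 := h.odd_norm (D := zpowers y) (by simpa using hne1 y hy) fun x hx hx1 =>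
        hcent y hy x (zpowers_le.mpr (self_mem_cent y) hx) hx1
      obtain ⟨j, hj⟩ := Odd.of_dvd_nat h3 (Subgroup.orderOf_dvd_natCard _ h2)
      have h4 : g ^ 2 ∈ centralizer ({y} : Set G) := mem_cent.mpr (by
        calc g ^ 2 * y = g * (g * y * g⁻¹) * g := by rw [pow_two]; group
          _ = g * y⁻¹ * g := by rw [h1]
          _ = (g * y * g⁻¹)⁻¹ * g ^ 2 := by rw [pow_two]; group
          _ = _ := by rw [h1, inv_inv])
      have h5 : g ∈ centralizer ({y} : Set G) := by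
        have h6 := pow_orderOf_eq_one g
        rw [hj, pow_succ, pow_mul] at h6
        rw [← inv_eq_of_mul_eq_one_right h6]
        exact inv_mem (pow_mem h4 j)
      rw [mem_cent.mp h5, mul_inv_cancel_right] at h1
      exact hy.1 (h.inK_of_sq (by nth_rewrite 1 [h1]; simp))
    have hsub : {u | ∃ g, g * y * g⁻¹ = u} ∪ {u | ∃ g, g * y⁻¹ * g⁻¹ = u} ⊆ S := by
      rintro _ (⟨g, rfl⟩ | ⟨g, rfl⟩)
      exacts [hconj g y hy, hconj g _ hyi]
    have h1 := Set.ncard_le_ncard hsub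
    have h2 := Set.ncard_union_eq hdis
    have h3 : centralizer ({y⁻¹} : Set G) = centralizer {y} := by
      rw [← centralizer_zpowers', zpowers_inv, centralizer_zpowers']
    rw [ncard_class, ncard_class, cidx, cidx, h3] at h2
    have h4 := (centralizer ({y} : Set G)).card_mul_index
    have h5 := Nat.le_of_dvd (by omega) (hdvd y hy)
    rw [hg] at h4
    have h6 : (centralizer ({y} : Set G)).index ≤ 2 * (m + 1) * m := by nlinarith
    have h7 : 2 * m + 1 ≤ Nat.card (centralizer ({y} : Set G)) := by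
      by_contra hcon
      have : 0 < 2 * (m + 1) * m := Nat.mul_pos (by omega) (by omega)
      nlinarith
    have h8 := le_antisymm h5 h7
    refine ⟨h8, fun z hz => ?_⟩
    rw [h8, mul_comm] at h4
    have h9 := Nat.eq_of_mul_eq_mul_right (by omega) h4
    have h10 := Set.eq_of_subset_of_ncard_le hsub (by rw [h2, h9]; nlinarith)
    rw [← h10] at hz
    rcases hz with ⟨g, rfl⟩ | ⟨g, rfl⟩
    · exact H5.orderOf_conj' g y
    · rw [H5.orderOf_conj', orderOf_inv]
  obtain ⟨y₀, hy₀⟩ : S.Nonempty := Set.nonempty_of_ncard_ne_zero (by nlinarith)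
  obtain ⟨p, hp, hpq⟩ := Nat.exists_prime_and_dvd (show 2 * m + 1 ≠ 1 by omega)
  have : Fact p.Prime := ⟨hp⟩
  have hord : ∀ z ∈ S, orderOf z = p := by
    obtain ⟨y, hy⟩ := exists_prime_orderOf_dvd_card' p ((hkey y₀ hy₀).1 ▸ hpq)
    rw [← orderOf_coe] at hy
    intro z hz
    rw [← hy]
    exact (hkey y (hcent y₀ hy₀ y y.2 (ne_one_of_orderOf_prime hp hy))).2 z hz
  have hcop : (2 * (m + 1) * m).Coprime (2 * m + 1) := by
    refine Nat.Coprime.mul_left ?_ ?_
    · rw [show 2 * (m + 1) = 2 * m + 1 + 1 by ring]; simp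
    · simp
  have hpn : ¬ p ∣ 2 * (m + 1) * m := fun e =>
    hp.one_lt.ne' (Nat.eq_one_of_dvd_coprimes hcop e hpq)
  have hmemS : ∀ z, z ≠ 1 → (∃ j, orderOf z = p ^ j) → z ∈ S := by
    rintro z hz1 ⟨j, hj⟩
    have h1 : p ∣ orderOf z := by
      rw [hj]
      exact dvd_pow_self p (by rintro rfl; exact hz1 (orderOf_eq_one_iff.mp hj))
    have h2 : ¬ InK K z := fun e => hpn (((h1.trans (h.orderOf_dvd_of_inK e)).trans
      (hm ▸ Dvd.intro_left 2 rfl)).mul_right m)
    refine ⟨h2, (hv z h2).resolve_left fun e => ?_⟩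
    obtain ⟨u, hu, hi⟩ := exists_inverts (y := z) (by omega)
    rw [h.iota_eq_card h2 hu hi] at e
    exact hpn ((e ▸ h1.trans (Subgroup.orderOf_dvd_natCard _ (self_mem_cent z))).mul_left _)
  have hsyl : ∀ y ∈ S, ∃ P : Sylow p G, (P : Subgroup G) = centralizer {y} := fun y hy => by
    have h1 : IsPGroup p (centralizer ({y} : Set G)) := fun x => by
      by_cases hx : (x : G) = 1
      · exact ⟨0, Subtype.ext (by simpa using hx)⟩
      · exact ⟨1, Subtype.ext (by
          rw [pow_one, ← hord x (hcent y hy x x.2 hx)]; exact pow_orderOf_eq_one _)⟩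
    have h4 := (centralizer ({y} : Set G)).card_mul_index
    rw [(hkey y hy).1, hg, mul_comm] at h4
    exact ⟨h1.toSylow (by rwa [Nat.eq_of_mul_eq_mul_right (by omega) h4]), rfl⟩
  have hTI : ∀ P Q : Sylow p G, (P : Subgroup G) ⊓ Q ≠ ⊥ → P = Q := by
    refine sylow_eq_of_isPClosed fun D h1 hD => ?_
    have h2 := h.odd_norm h1 fun x hx hx1 => hmemS x hx1 (by
      obtain ⟨j, hj⟩ := IsPGroup.iff_orderOf.mp hD ⟨x, hx⟩
      exact ⟨j, by rw [← hj, orderOf_mk]⟩)
    refine isPClosed_of_solvable (feit_thompson h2) fun x z hx1 hxp hz hc => ?_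
    have hx1' : (x : G) ≠ 1 := fun e => hx1 (Subtype.ext e)
    have hc' : (x : G) * (z * x * (z : G)⁻¹) = z * x * (z : G)⁻¹ * x := congrArg Subtype.val hc
    rw [← orderOf_coe] at hxp hz
    have hzS := hmemS z (ne_one_of_orderOf_prime hp hz) ⟨1, by rw [hz, pow_one]⟩
    have hodd : Odd (orderOf (x : G)) := Odd.of_dvd_nat h2 (Subgroup.orderOf_dvd_natCard _ x.2)
    generalize (x : G) = x at hx1' hc' hxp hodd
    generalize (z : G) = z at hc' hz hzS
    by_cases hx : InK K x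
    · obtain ⟨g, hg⟩ := hx
      have h3 := h.cent _ hg (conj_ne_one hx1') (g * (z * x * z⁻¹) * g⁻¹) (by
        calc g * (z * x * z⁻¹) * g⁻¹ * (g * x * g⁻¹) = g * (z * x * z⁻¹ * x) * g⁻¹ := by group
          _ = _ := by rw [← hc']; group)
      by_cases h4 : g * (z * x * z⁻¹) * g⁻¹ ∈ K
      · have h5 := h.ti (g := g * z * g⁻¹) hg (conj_ne_one hx1') (by convert h4 using 1; group)
        exact hzS.1 ((inK_conj_iff g).mp (h.inK_of_comm (inK_of_mem h.mem) h.t_ne h5))
      · have h5 := orderOf_eq_two_iff'.mpr ⟨h.sq _ h3 h4, conj_ne_one (conj_ne_one hx1')⟩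
        rw [H5.orderOf_conj', H5.orderOf_conj'] at h5
        rw [h5] at hodd
        exact absurd hodd (by decide)
    · have h3 : iota x ≠ 0 := fun e => by
        rw [hord x ⟨hx, e⟩] at hxp
        exact hp.one_lt.ne' (Nat.Coprime.eq_one_of_dvd hxp dvd_rfl)
      obtain ⟨u, hu, hi⟩ := exists_inverts h3
      have hT := h.centTI_cent hx hu hi
      have h4 := hT.mem_norm (self_mem_cent x) hx1' (mem_cent.mpr hc'.symm)
      obtain ⟨a, ha, e⟩ := h.exists_cent_dec hx hu hi h4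
      have h5 : z ∉ centralizer ({x} : Set G) := fun e' => h3 (by
        rw [← h.iota_eq_of_cent hx h3 e' (hne1 z hzS)]; exact hzS.2)
      have h6 : a⁻¹ * z ∉ centralizer ({x} : Set G) := fun e' =>
        h5 ((Subgroup.mul_mem_cancel_left _ (inv_mem ha)).mp e')
      obtain ⟨b, -, hb⟩ := Frob.exists_conj_eq_mul_of_fpf (h := a⁻¹ * z)
        (fun k hk => conj_mem_of_mem_normalizer
          (Subgroup.mul_mem _ (inv_mem (le_normalizer ha)) h4) hk) (hT.fpf h6) ha
      rw [mul_inv_cancel_left] at hb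
      exact hzS.1 (hb ▸ (h.inK_of_comm (h.inK_of_sq hu) (h.ne_one_of_inverts hx hi) e).conj b)
  have hceq : ∀ z ∈ centralizer ({y₀} : Set G), z ≠ 1 →
      centralizer ({z} : Set G) = centralizer {y₀} := fun z hz hz1 => by
    obtain ⟨P, hP⟩ := hsyl z (hcent y₀ hy₀ z hz hz1)
    obtain ⟨Q, hQ⟩ := hsyl y₀ hy₀
    rw [← hP, ← hQ, hTI P Q fun e => hz1 (by
      rw [← mem_bot, ← e, hP, hQ]; exact ⟨self_mem_cent z, hz⟩)]
  have hP := centTI_of_cent_le (fun z hz hz1 => (hceq z hz hz1).le) (hne1 y₀ hy₀)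
  have hcard := (hkey y₀ hy₀).1
  obtain ⟨Q, hQ⟩ := hsyl y₀ hy₀
  have hodd := h.odd_norm (D := centralizer {y₀}) (fun e => by rw [e, card_bot] at hcard; omega)
    (hcent y₀ hy₀)
  set P := centralizer ({y₀} : Set G) with hPdef
  have hP1 : P ≠ ⊥ := fun e => by rw [e, card_bot] at hcard; omega
  have hidx : (normalizer (P : Set G)).index = Nat.card P + 1 := by
    have h1 := hP.ncard_classSupport hP1
    have h2 : classSupport (sharp P) ⊤ = S := by
      ext z
      constructor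
      · rintro ⟨a, ha, g, -, rfl⟩
        exact hconj g a (hcent y₀ hy₀ a ha.1 ha.2)
      · intro hz
        obtain ⟨g, hg⟩ := exists_conj_mem_sylow Q (k := 1) (by rw [hord z hz, pow_one])
        exact ⟨_, ⟨hQ ▸ hg, conj_ne_one (hne1 z hz)⟩, g⁻¹, mem_top _, by group⟩
    rw [h2, hcard] at h1
    rw [hcard]
    apply Nat.eq_of_mul_eq_mul_right (show 0 < 2 * m by omega)
    nlinarith
  have ht : t ∉ normalizer (P : Set G) := fun e => by
    have := Odd.of_dvd_nat hodd (Subgroup.orderOf_dvd_natCard _ e)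
    rw [h.ord] at this
    exact absurd this (by decide)
  have hE : Nat.card (twoPt P t) = m := by
    have h1 := (normalizer (P : Set G)).card_mul_index
    rw [hP.card_twoPt hidx ht, hidx, hcard, hg] at h1
    apply Nat.eq_of_mul_eq_mul_right (show 0 < (2 * m + 1) * (2 * m + 1 + 1) by positivity)
    linarith
  have Z : ZAb P t := ⟨hP, fun a ha b hb => by
      by_cases h1 : b = 1
      · simp [h1]
      · exact mem_cent.mp (hceq b hb h1 ▸ ha), hP1, hidx, h.tt, ht, fun d hd =>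
    h.inverts_of_not_inK (D := twoPt P t) (fun x hx hx1 e => hx1 (by
      have h1 := h.orderOf_dvd_of_inK e
      have h2 := Subgroup.orderOf_dvd_natCard _ hx
      rw [hm] at h1
      rw [hE] at h2
      exact orderOf_eq_one_iff.mp (Nat.eq_one_of_dvd_coprimes (by simp) h1 h2))) h.tt h.t_ne
      (fun x hx => by
        have h1 := inv_eq_of_mul_eq_one_right h.tt
        refine mem_twoPt.mpr ⟨?_, by simpa [mul_assoc] using (mem_twoPt.mp hx).1⟩
        have := (mem_twoPt.mp hx).2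
        rw [h1] at this ⊢
        exact this) hd⟩
  exact ⟨P, t, Z, by rw [hE, hcard], hcard⟩

theorem exists_zAb : ∃ (P : Subgroup G) (w : G), ZAb P w ∧
    Nat.card P = 2 * Nat.card (twoPt P w) + 1 ∧
    (Nat.card P = 2 * Nat.card K + 1 ∨ Nat.card P + 1 = 2 * Nat.card K) := by
  have := Fintype.ofFinite G
  obtain ⟨ε, hε, hi, hv, hc⟩ := h.char_main
  rcases hε with rfl | rfl
  · obtain ⟨P, w, Z, h1, h2⟩ := h.zab_plus (by zify; linarith)
      (fun y hy => by have := hv y hy; omega) (by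
        have : {y | ¬ InK K y ∧ iota y ≠ Nat.card K + 1} =
            {y | ¬ InK K y ∧ (iota y : ℤ) ≠ Nat.card K + 1} := by
          ext y
          exact and_congr_right fun _ => by omega
        rw [this]
        exact_mod_cast hc)
    exact ⟨P, w, Z, h1, Or.inl h2⟩
  · obtain ⟨m, hm⟩ : ∃ m, Nat.card K = m + 1 := ⟨Nat.card K - 1, by have := h.four; omega⟩
    rw [hm] at hi hv hc
    obtain ⟨P, w, Z, h1, h2⟩ := h.zab_minus hm (by zify; push_cast at hi; linarith)
      (fun y hy => by have := hv y hy; omega) (by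
        have : {y : G | ¬ InK K y ∧ iota y ≠ m} =
            {y | ¬ InK K y ∧ (iota y : ℤ) ≠ (m + 1 : ℕ) + -1} := by
          ext y
          exact and_congr_right fun _ => by omega
        rw [this]
        zify
        push_cast at hc
        linarith)
    exact ⟨P, w, Z, h1, Or.inr (by omega)⟩

/-- **The Brauer–Suzuki–Wall theorem** (odd `q`). -/
theorem psl : ∃ (F : Type) (_ : Field F) (_ : Fintype F),
    (Fintype.card F = 2 * Nat.card K + 1 ∨ Fintype.card F + 1 = 2 * Nat.card K) ∧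
      Nonempty (G ≃* Matrix.ProjectiveSpecialLinearGroup (Fin 2) F) := by
  obtain ⟨P, w, Z, h1, h2⟩ := h.exists_zAb
  obtain ⟨F, i1, i2, h3, h4⟩ := Z.psl h1
  exact ⟨F, i1, i2, h3 ▸ h2, h4⟩

end Setup

end CfsgLib.BSW
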