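import Cfsg.Agent.Lib.BSW.ClsC
import Cfsg.Agent.Lib.Blk.BSa

/-! The Brauer–Suzuki–Wall theorem (odd `q`), part A: the set-up and counting of involutions. -/

set_option autoImplicit false

namespace CfsgLib.BSW

open Subgroup Cfsg CfsgLib.FT

variable {G : Type*} [Group G]

/-- The hypothesis of the Brauer–Suzuki–Wall theorem. -/
structure Setup (K : Subgroup G) (t s : G) : Prop where
  ord : orderOf t = 2
  mem : t ∈ K
  le : ∀ x ∈ K, x * t = t * x
  uniq : ∀ x ∈ K, x * x = 1 → x = 1 ∨ x = t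
  four : 4 ≤ Nat.card K
  s_comm : s * t = t * s
  s_notMem : s ∉ K
  sq : ∀ u, u * t = t * u → u ∉ K → u * u = 1
  cent : ∀ x ∈ K, x ≠ 1 → ∀ g, g * x = x * g → g * t = t * g
  conj : ∀ u, orderOf u = 2 → ∃ g, g * t * g⁻¹ = u

/-- `y` is conjugate to an element of `K`. -/
def InK (K : Subgroup G) (y : G) : Prop := ∃ g : G, g * y * g⁻¹ ∈ K

theorem InK.conj {K : Subgroup G} {y : G} (h : InK K y) (g : G) : InK K (g * y * g⁻¹) := by
  obtain ⟨x, hx⟩ := h
  exact ⟨x * g⁻¹, by simpa [mul_assoc] using hx⟩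

theorem inK_conj_iff {K : Subgroup G} {y : G} (g : G) : InK K (g * y * g⁻¹) ↔ InK K y :=
  ⟨fun h => by simpa [mul_assoc] using h.conj g⁻¹, fun h => h.conj g⟩

theorem inK_of_mem {K : Subgroup G} {y : G} (h : y ∈ K) : InK K y := ⟨1, by simpa using h⟩

theorem inK_one (K : Subgroup G) : InK K 1 := inK_of_mem K.one_mem

theorem InK.inv {K : Subgroup G} {y : G} (h : InK K y) : InK K y⁻¹ := by
  obtain ⟨x, hx⟩ := h
  exact ⟨x, by simpa [mul_assoc] using K.inv_mem hx⟩

theorem orderOf_eq_two_iff' {u : G} : orderOf u = 2 ↔ u * u = 1 ∧ u ≠ 1 := by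
  rw [orderOf_eq_prime_iff, sq]

/-- The number of pairs of involutions with product `y`. -/
noncomputable def iota (y : G) : ℕ := {u : G | orderOf u = 2 ∧ orderOf (u * y) = 2}.ncard

theorem iota_conj (g y : G) : iota (g * y * g⁻¹) = iota y := by
  unfold iota
  symm
  apply Set.ncard_congr (fun u _ => g * u * g⁻¹)
  · rintro u ⟨h1, h2⟩
    refine ⟨by rw [H5.orderOf_conj', h1], ?_⟩
    rw [← h2, ← H5.orderOf_conj' g (u * y)]; congr 1; group
  · intro a b _ _ h
    simpa using h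
  · rintro u ⟨h1, h2⟩
    refine ⟨g⁻¹ * u * g, ⟨by rw [H5.orderOf_conj'', h1], ?_⟩, by group⟩
    rw [← h2, ← H5.orderOf_conj'' g (u * (g * y * g⁻¹))]; congr 1; group

namespace Setup

variable {K : Subgroup G} {t s : G} (h : Setup K t s)
include h

theorem tt : t * t = 1 := (orderOf_eq_two_iff'.mp h.ord).1

theorem t_ne : t ≠ 1 := (orderOf_eq_two_iff'.mp h.ord).2

theorem inverts {u : G} (hu : u * t = t * u) (huK : u ∉ K) {x : G} (hx : x ∈ K) :
    u * x * u⁻¹ = x⁻¹ := by
  have h1 := h.sq u hu huK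
  have h2 := h.sq (u * x) (by rw [mul_assoc, h.le x hx, ← mul_assoc, hu, mul_assoc])
    (fun e => huK (by simpa using K.mul_mem e (K.inv_mem hx)))
  rw [inv_eq_of_mul_eq_one_right h1]
  exact eq_inv_of_mul_eq_one_left (by rw [← h2]; group)

theorem comm {a : G} (ha : a ∈ K) {b : G} (hb : b ∈ K) : a * b = b * a := by
  have h1 := h.inverts h.s_comm h.s_notMem (K.mul_mem ha hb)
  have h2 := h.inverts h.s_comm h.s_notMem ha
  have h3 := h.inverts h.s_comm h.s_notMem hb
  have h4 : s * (a * b) * s⁻¹ = (s * a * s⁻¹) * (s * b * s⁻¹) := by group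
  rw [h1, h2, h3, ← mul_inv_rev, inv_inj] at h4
  exact h4

theorem exists_not_sq [Finite G] : ∃ x ∈ K, x * x ≠ 1 := by
  by_contra hc
  push Not at hc
  have h1 : (K : Set G) ⊆ {1, t} := fun x hx => h.uniq x hx (hc x hx)
  have h2 := Set.ncard_le_ncard h1
  have h3 := Set.ncard_pair h.t_ne.symm
  have h4 := h.four
  rw [← SetLike.coe_sort_coe, Nat.card_coe_set_eq] at h4
  omega

theorem mul_mem [Finite G] {u v : G} (hu : u * t = t * u) (huK : u ∉ K) (hv : v * t = t * v)
    (hvK : v ∉ K) : u * v ∈ K := by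
  by_contra hc
  obtain ⟨x, hx, hx2⟩ := h.exists_not_sq
  have h1 := h.inverts (u := u * v) (by rw [mul_assoc, hv, ← mul_assoc, hu, mul_assoc]) hc hx
  have h2 := h.inverts hv hvK hx
  have h3 := h.inverts hu huK (K.inv_mem hx)
  have h4 : u * v * x * (u * v)⁻¹ = u * (v * x * v⁻¹) * u⁻¹ := by group
  rw [h1, h2, h3, inv_inv] at h4
  exact hx2 (by nth_rewrite 1 [← h4]; simp)

theorem conj_mem {g : G} (hg : g * t = t * g) {x : G} (hx : x ∈ K) : g * x * g⁻¹ ∈ K := by
  by_cases hgK : g ∈ K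
  · exact K.mul_mem (K.mul_mem hgK hx) (K.inv_mem hgK)
  · rw [h.inverts hg hgK hx]; exact K.inv_mem hx

theorem ti {g x : G} (hx : x ∈ K) (hx1 : x ≠ 1) (hg : g * x * g⁻¹ ∈ K) : g * t = t * g := by
  have hy1 : g * x * g⁻¹ ≠ 1 := conj_ne_one hx1
  have h1 : g * t * g⁻¹ * (g * x * g⁻¹) = g * x * g⁻¹ * (g * t * g⁻¹) := by
    calc g * t * g⁻¹ * (g * x * g⁻¹) = g * (t * x) * g⁻¹ := by group
      _ = _ := by rw [← h.le x hx]; group
  have h2 := h.cent _ hg hy1 _ h1
  have h3 : g * t * g⁻¹ * (g * t * g⁻¹) = 1 := by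
    calc g * t * g⁻¹ * (g * t * g⁻¹) = g * (t * t) * g⁻¹ := by group
      _ = 1 := by rw [h.tt]; group
  have key : g * t * g⁻¹ ∈ K → g * t = t * g := fun hK => by
    rcases h.uniq _ hK h3 with e | e
    · exact absurd e (conj_ne_one h.t_ne)
    · rw [← mul_inv_eq_iff_eq_mul, e]
  by_cases hK : g * t * g⁻¹ ∈ K
  · exact key hK
  · have h4 := h.inverts h2 hK hg
    rw [h1, mul_inv_cancel_right] at h4
    have h5 : x * x = 1 := by
      have : g * x * g⁻¹ * (g * x * g⁻¹) = 1 := by nth_rewrite 2 [h4]; simp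
      calc x * x = g⁻¹ * (g * x * g⁻¹ * (g * x * g⁻¹)) * g := by group
        _ = 1 := by rw [this]; group
    rcases h.uniq x hx h5 with e | e
    · exact absurd e hx1
    · rw [e] at hg; exact absurd hg hK

theorem normedTI : NormedTI (sharp K) ⊤ (centralizer ({t} : Set G)) :=
  ⟨⟨t, h.mem, h.t_ne⟩, le_top,
    fun _ hx _ ha => ⟨h.conj_mem (mem_cent.mp hx) ha.1, conj_ne_one ha.2⟩,
    fun _ _ _ ha hg => mem_cent.mpr (h.ti ha.1 ha.2 hg.1)⟩

theorem le_cent : K ≤ centralizer ({t} : Set G) := fun x hx => mem_cent.mpr (h.le x hx)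

theorem ss : s * s = 1 := h.sq s h.s_comm h.s_notMem

theorem relIndex_eq [Finite G] : K.relIndex (centralizer ({t} : Set G)) = 2 := by
  rw [relIndex, index_eq_two_iff']
  refine ⟨⟨s, mem_cent.mpr h.s_comm⟩, fun b => ?_⟩
  by_cases hb : (b : G) ∈ K
  · refine Or.inr ⟨hb, fun e => h.s_notMem ?_⟩
    have : s * b ∈ K := e
    simpa using K.mul_mem this (K.inv_mem hb)
  · exact Or.inl ⟨h.mul_mem h.s_comm h.s_notMem (mem_cent.mp b.2) hb, hb⟩

theorem card_cent [Finite G] : Nat.card (centralizer ({t} : Set G)) = 2 * Nat.card K := by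
  rw [← h.relIndex_eq, mul_comm, ← card_subgroupOf_of_le h.le_cent, relIndex, card_mul_index]

theorem card_eq [Finite G] : Nat.card G = 2 * Nat.card K * cidx t := by
  rw [← h.card_cent, card_mul_index]

theorem even_card [Finite G] : 2 ∣ Nat.card K := h.ord ▸ Subgroup.orderOf_dvd_natCard K h.mem

theorem odd_cidx [Finite G] : ¬ 2 ∣ cidx t := by
  obtain ⟨z, hz, hz2⟩ := exists_order_not_dvd_cidx (G := G) Nat.prime_two
    (h.ord ▸ orderOf_dvd_natCard t)
  obtain ⟨g, rfl⟩ := h.conj z hz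
  rwa [cidx_conj] at hz2

theorem inK_of_orderOf {u : G} (hu : orderOf u = 2) : InK K u := by
  obtain ⟨g, rfl⟩ := h.conj u hu
  exact (inK_of_mem h.mem).conj g

theorem inK_of_sq {u : G} (hu : u * u = 1) : InK K u := by
  by_cases h1 : u = 1
  · rw [h1]; exact inK_one K
  · exact h.inK_of_orderOf (orderOf_eq_two_iff'.mpr ⟨hu, h1⟩)

/-- An element commuting with a nonidentity element of a conjugate of `K` is conjugate into `K`. -/
theorem inK_of_comm {x y : G} (hx : InK K x) (hx1 : x ≠ 1) (hc : y * x = x * y) : InK K y := by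
  obtain ⟨g, hg⟩ := hx
  have h1 := h.cent _ hg (conj_ne_one hx1) (g * y * g⁻¹) (by
    calc g * y * g⁻¹ * (g * x * g⁻¹) = g * (y * x) * g⁻¹ := by group
      _ = _ := by rw [hc]; group)
  by_cases hK : g * y * g⁻¹ ∈ K
  · exact ⟨g, hK⟩
  · exact (inK_conj_iff g).mp (h.inK_of_sq (h.sq _ h1 hK))

theorem iota_of_mem [Finite G] {x : G} (hx : x ∈ K) (hx1 : x ≠ 1) : iota x = Nat.card K := by
  have : {u : G | orderOf u = 2 ∧ orderOf (u * x) = 2} = (fun a => s * a) '' (K : Set G) := by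
    ext u
    constructor
    · rintro ⟨h1, h2⟩
      rw [orderOf_eq_two_iff'] at h1 h2
      have h3 : u * x * u⁻¹ = x⁻¹ := by
        rw [inv_eq_of_mul_eq_one_right h1.1]
        exact eq_inv_of_mul_eq_one_left (by rw [← h2.1]; group)
      have h4 := h.ti hx hx1 (h3 ▸ K.inv_mem hx)
      have h5 : u ∉ K := fun hu => by
        rcases h.uniq u hu h1.1 with e | e
        · exact h1.2 e
        · rcases h.uniq _ (K.mul_mem hu hx) h2.1 with e' | e'
          · exact h2.2 e'
          · exact hx1 (by rw [e] at e'; simpa using e')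
      exact ⟨s * u, h.mul_mem h.s_comm h.s_notMem h4 h5, by
        simp only [← mul_assoc, h.ss, one_mul]⟩
    · rintro ⟨a, ha, rfl⟩
      have key : ∀ a ∈ K, orderOf (s * a) = 2 := fun a ha => by
        have h1 : s * a ∉ K := fun e => h.s_notMem (by simpa using K.mul_mem e (K.inv_mem ha))
        refine orderOf_eq_two_iff'.mpr ⟨h.sq _ ?_ h1, fun e => h1 (e ▸ K.one_mem)⟩
        rw [mul_assoc, h.le a ha, ← mul_assoc, h.s_comm, mul_assoc]
      exact ⟨key a ha, by rw [mul_assoc]; exact key _ (K.mul_mem ha hx)⟩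
  rw [iota, this, Set.ncard_image_of_injective _ (mul_right_injective s)]
  rfl

end Setup

section Sum

variable [Fintype G]

theorem sum_conj_eq (t : G) (F : G → ℂ) :
    ∑ z : G, F (z * t * z⁻¹) =
      Nat.card (centralizer ({t} : Set G)) * ∑ u ∈ elems {u | ∃ g, g * t * g⁻¹ = u}, F u := by
  classical
  rw [← Finset.sum_fiberwise_of_maps_to (s := Finset.univ)
    (t := elems {u | ∃ g, g * t * g⁻¹ = u}) (g := fun z => z * t * z⁻¹)
    (fun z _ => by simp [elems]), Finset.mul_sum]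
  refine Finset.sum_congr rfl fun u hu => ?_
  obtain ⟨g, rfl⟩ : ∃ g, g * t * g⁻¹ = u := by simpa [elems] using hu
  rw [Finset.sum_congr rfl (g := fun _ => F (g * t * g⁻¹))
    (fun z hz => by rw [(Finset.mem_filter.mp hz).2]), Finset.sum_const, nsmul_eq_mul]
  congr 2
  rw [← card_elems]
  symm
  apply Finset.card_bij (fun c _ => g * c)
  · intro c hc
    have : c * t = t * c := mem_cent.mp (by simpa [elems] using hc)
    simp only [Finset.mem_filter, Finset.mem_univ, true_and]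
    calc g * c * t * (g * c)⁻¹ = g * (c * t) * c⁻¹ * g⁻¹ := by group
      _ = _ := by rw [this]; group
  · intro a _ b _ e
    simpa using e
  · intro z hz
    have hz' := (Finset.mem_filter.mp hz).2
    refine ⟨g⁻¹ * z, ?_, by group⟩
    have : g⁻¹ * z ∈ centralizer ({t} : Set G) := mem_cent.mpr (by
      calc g⁻¹ * z * t = g⁻¹ * (z * t * z⁻¹) * z := by group
        _ = _ := by rw [hz']; group)
    simpa [elems] using this

/-- `iota` as a class function -/
noncomputable def iotaF : G → ℂ := fun y => iota y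

omit [Fintype G] in
theorem iotaF_mem : (iotaF : G → ℂ) ∈ CF ⊤ :=
  ⟨fun x hx => (hx (mem_top x)).elim, fun y _ x => by simp only [iotaF, iota_conj]⟩

theorem sum_mul_iota (θ : G → ℂ) : ∑ y, θ y * iota y =
    ∑ u ∈ elems {u : G | orderOf u = 2}, ∑ v ∈ elems {u : G | orderOf u = 2}, θ (u * v) := by
  classical
  have h1 : ∀ y : G, (iota y : ℂ) =
      ∑ u ∈ elems {u : G | orderOf u = 2}, if orderOf (u * y) = 2 then 1 else 0 := by
    intro y
    rw [iota, ← card_elems_set, Finset.sum_boole]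
    congr 2
    ext u
    simp [elems]
  simp only [h1, Finset.mul_sum]
  rw [Finset.sum_comm]
  refine Finset.sum_congr rfl fun u hu => ?_
  have hu2 : u * u = 1 := (orderOf_eq_two_iff'.mp (by simpa [elems] using hu)).1
  rw [← Equiv.sum_comp (Equiv.mulLeft u)]
  simp only [Equiv.coe_mulLeft, ← mul_assoc, hu2, one_mul, mul_ite, mul_one, mul_zero]
  rw [← Finset.sum_filter]
  congr 1
  ext v
  simp [elems]

theorem Setup.dot_iota {K : Subgroup G} {t s : G} (h : Setup K t s) {θ : G → ℂ}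
    (hθ : IsDirr ⊤ θ) :
    cfdot ⊤ θ iotaF = Nat.card G / (4 * (Nat.card K : ℂ) ^ 2) * (θ t ^ 2 / θ 1) := by
  have hJ : {u : G | orderOf u = 2} = {u | ∃ g, g * t * g⁻¹ = u} := by
    ext u
    refine ⟨h.conj u, ?_⟩
    rintro ⟨g, rfl⟩
    rw [Set.mem_setOf_eq, H5.orderOf_conj', h.ord]
  have hk : (Nat.card K : ℂ) ≠ 0 := card_ne_zero K
  have hg : (Nat.card G : ℂ) ≠ 0 := by exact_mod_cast Nat.card_pos.ne'
  have h1 : ∑ x : G, ∑ z : G, θ ((x * t * x⁻¹) * (z * t * z⁻¹)) =
      (2 * Nat.card K : ℂ) ^ 2 * ∑ y, θ y * iota y := by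
    rw [sum_mul_iota, hJ, sum_conj_eq t (fun u => ∑ z : G, θ (u * (z * t * z⁻¹)))]
    have h0 : ∀ u : G, ∑ z : G, θ (u * (z * t * z⁻¹)) = _ := fun u =>
      sum_conj_eq t (fun v => θ (u * v))
    simp only [h0, ← Finset.mul_sum, h.card_cent]
    push_cast
    ring
  have h2 : ∀ x : G, ∑ z : G, θ ((x * t * x⁻¹) * (z * t * z⁻¹)) =
      Nat.card G * θ t ^ 2 / θ 1 := by
    intro x
    rw [← Blk.sum_dirr_conj hθ, ← Equiv.sum_comp (Equiv.mulLeft x)]
    refine Finset.sum_congr rfl fun z _ => ?_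
    rw [← CF_conj hθ.mem_CF (mem_top x) (t * (z * t * z⁻¹))]
    congr 1
    simp only [Equiv.coe_mulLeft]
    group
  simp only [h2, Finset.sum_const, Finset.card_univ, nsmul_eq_mul,
    ← Nat.card_eq_fintype_card] at h1
  rw [cfdot, elems_top, card_top]
  simp only [iotaF, map_natCast]
  have h3 := hθ.one_ne_zero
  field_simp
  field_simp at h1
  linear_combination -h1

end Sum

end CfsgLib.BSW
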