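import Cfsg.Agent.Lib.BSW.OddA
import Cfsg.Agent.Lib.FT.CFAut

/-! The Brauer–Suzuki–Wall theorem (odd `q`), part B: exceptional characters. -/

set_option autoImplicit false

namespace CfsgLib.BSW

open Subgroup Cfsg CfsgLib.FT

variable {G : Type*} [Group G] [Fintype G]

/-- `(1 - λ)^G` -/
noncomputable def al (K : Subgroup G) (l : Irr K) : G → ℂ := cfInd K ⊤ (cf1 K - l)

/-- `(1 - λ)^G - 1` -/
noncomputable def aA (K : Subgroup G) (l : Irr K) : G → ℂ := al K l - cf1 ⊤

theorem al_mem (K : Subgroup G) (l : Irr K) : al K l ∈ ZIrr (⊤ : Subgroup G) :=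
  ZIrr_cfInd le_top ((ZIrr K).sub_mem cf1_mem_ZIrr l.mem_ZIrr)

theorem aA_mem (K : Subgroup G) (l : Irr K) : aA K l ∈ ZIrr (⊤ : Subgroup G) :=
  (ZIrr ⊤).sub_mem (al_mem K l) cf1_mem_ZIrr

theorem al_one (K : Subgroup G) : al K 1 = 0 := by
  have : ((1 : Irr K) : G → ℂ) = cf1 K := rfl
  rw [al, this, sub_self, map_zero]

theorem al_apply_of_not_inK {K : Subgroup G} (l : Irr K) {y : G} (hy : ¬ InK K y) :
    al K l y = 0 := cfInd_eq_zero fun x _ hx => absurd ⟨x, hx⟩ hy

theorem dot_irr_one {K : Subgroup G} (l : Irr K) :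
    cfdot K l (cf1 K) = if l = 1 then 1 else 0 := Irr.cfdot_eq l 1

theorem one_dot_irr {K : Subgroup G} (l : Irr K) :
    cfdot K (cf1 K) l = if l = 1 then 1 else 0 := by
  have := Irr.cfdot_eq 1 l
  rw [show ((1 : Irr K) : G → ℂ) = cf1 K from rfl] at this
  rw [this]; simp only [eq_comm]

theorem dot_al_one {K : Subgroup G} {l : Irr K} (hl : l ≠ 1) : cfdot ⊤ (al K l) (cf1 ⊤) = 1 := by
  rw [al, cfdot_cfInd_cfRes le_top cf1_mem_CF, cfRes_cf1 le_top, cfdot_sub_left, cfdot_cf1,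
    dot_irr_one, if_neg hl, sub_zero]

theorem dot_aA_one {K : Subgroup G} {l : Irr K} (hl : l ≠ 1) : cfdot ⊤ (aA K l) (cf1 ⊤) = 0 := by
  rw [aA, cfdot_sub_left, dot_al_one hl, cfdot_cf1, sub_self]

theorem IsDirr.dot_int_sq_le {a b φ : G → ℂ} {L : Subgroup G} (ha : IsDirr L a) (hb : IsDirr L b)
    (hab : cfdot L a b = 0) {m n : ℤ} (hm : cfdot L a φ = m) (hn : cfdot L b φ = n) :
    ((m ^ 2 + n ^ 2 : ℤ) : ℝ) ≤ cfnorm L φ := by
  have h0 := cfnorm_nonneg (L := L) (φ := φ - (m : ℂ) • a - (n : ℂ) • b)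
  have hm' : cfdot L φ a = m := by rw [← cfdot_conj, hm, map_intCast]
  have hn' : cfdot L φ b = n := by rw [← cfdot_conj, hn, map_intCast]
  have hba := cfdot_symm_zero hab
  have h1 : cfdot L (φ - (m : ℂ) • a - (n : ℂ) • b) (φ - (m : ℂ) • a - (n : ℂ) • b) =
      ((cfnorm L φ - ((m ^ 2 + n ^ 2 : ℤ) : ℝ) : ℝ) : ℂ) := by
    simp only [cfdot_sub_left, cfdot_sub_right, cfdot_smul_left, cfdot_intCast_smul_right, hm, hn,
      hm', hn', hab, hba, ha.cfdot_self, hb.cfdot_self, cfdot_self (φ := φ)]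
    push_cast
    ring
  rw [cfnorm_eq_of_cfdot_eq h1] at h0
  linarith

namespace Setup

variable {K : Subgroup G} {t s : G} (h : Setup K t s)
include h

theorem lin (l : Irr K) : IsLin K l := l.irr.isLin_of_comm fun _ ha _ hb => h.comm ha hb

theorem card_irr : Fintype.card (Irr K) = Nat.card K :=
  card_irr_of_comm fun _ ha _ hb => h.comm ha hb

open Classical in
theorem sum_irr (x : G) : ∑ l : Irr K, l x = if x = 1 then (Nat.card K : ℂ) else 0 := by
  have := sum_irr_one_mul' (L := K) x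
  simp only [(h.lin _).one, one_mul] at this
  convert this

theorem irr_t (l : Irr K) : l t = 1 ∨ l t = -1 := by
  have := (h.lin l).map_mul h.mem h.mem
  rw [h.tt, (h.lin l).one] at this
  exact mul_self_eq_one_iff.mp this.symm

theorem conj_apply (l : Irr K) (x : G) : l.conj x = l x⁻¹ := ZIrr_cfConjC_apply l.mem_ZIrr x

theorem conj_t (l : Irr K) : l.conj t = l t := by
  rw [h.conj_apply, inv_eq_of_mul_eq_one_right h.tt]

theorem cfInd_apply_mem {φ : G → ℂ} (hφ : φ ∈ CF K) {x : G} (hx : x ∈ K) (hx1 : x ≠ 1) :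
    cfInd K ⊤ φ x = φ x + φ x⁻¹ := by
  classical
  rw [cfInd_apply' hφ.1 (mem_top x), elems_top]
  have hd : Disjoint (elems (K : Set G)) ((elems (K : Set G)).image (s * ·)) := by
    rw [Finset.disjoint_left]
    intro a ha hb
    obtain ⟨b, hb, rfl⟩ := Finset.mem_image.mp hb
    have h1 : s * b ∈ K := by simpa [elems] using ha
    have h2 : b ∈ K := by simpa [elems] using hb
    exact h.s_notMem (by simpa using K.mul_mem h1 (K.inv_mem h2))
  have h1 : ∑ g : G, φ (g * x * g⁻¹) =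
      ∑ g ∈ elems (K : Set G) ∪ (elems (K : Set G)).image (s * ·), φ (g * x * g⁻¹) := by
    symm
    refine Finset.sum_subset (Finset.subset_univ _) fun g _ hg => hφ.1 _ fun hc => hg ?_
    have h2 := h.ti hx hx1 hc
    by_cases hgK : g ∈ K
    · exact Finset.mem_union_left _ (by simpa [elems] using hgK)
    · refine Finset.mem_union_right _ (Finset.mem_image.mpr ⟨s * g, ?_, ?_⟩)
      · simpa [elems] using h.mul_mem h.s_comm h.s_notMem h2 hgK
      · rw [← mul_assoc, h.ss, one_mul]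
  rw [h1, Finset.sum_union hd, Finset.sum_image (fun a _ b _ e => by simpa using e),
    Finset.sum_congr rfl (g := fun _ => φ x) (fun g hg => CF_conj hφ (by simpa [elems] using hg) x),
    Finset.sum_congr rfl (f := fun g => φ (s * g * x * (s * g)⁻¹)) (g := fun _ => φ x⁻¹)
      (fun g hg => ?_), sum_elems_const, sum_elems_const]
  · have := card_ne_zero K
    simp only [nsmul_eq_mul]
    field_simp
  · have hg' : g ∈ K := by simpa [elems] using hg
    have h2 : s * g ∉ K := fun e => h.s_notMem (by simpa using K.mul_mem e (K.inv_mem hg'))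
    rw [h.inverts (u := s * g) (by rw [mul_assoc, h.le g hg', ← mul_assoc, h.s_comm, mul_assoc])
      h2 hx]

theorem al_apply_one (l : Irr K) : al K l 1 = 0 := by
  rw [al, cfInd_one le_top, Pi.sub_apply, cf1_apply K.one_mem, (h.lin l).one, sub_self, mul_zero]

theorem al_apply {x : G} (hx : x ∈ K) (l : Irr K) : al K l x = 2 - l x - l.conj x := by
  by_cases hx1 : x = 1
  · rw [hx1, h.al_apply_one, (h.lin l).one, (h.lin l.conj).one]; ring
  · rw [al, h.cfInd_apply_mem ((CF K).sub_mem cf1_mem_CF l.mem_CF) hx hx1, h.conj_apply]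
    simp only [Pi.sub_apply, cf1_apply hx, cf1_apply (K.inv_mem hx)]
    ring

theorem al_t (l : Irr K) : al K l t = 2 - 2 * l t := by
  rw [h.al_apply h.mem, h.conj_t]; ring

theorem aA_t (l : Irr K) : aA K l t = 1 - 2 * l t := by
  rw [aA, Pi.sub_apply, h.al_t, cf1_apply (mem_top t)]; ring

theorem aA_one (l : Irr K) : aA K l 1 = -1 := by
  rw [aA, Pi.sub_apply, h.al_apply_one, cf1_apply (mem_top 1)]; ring

theorem dot_al {l m : Irr K} (hl : l ≠ 1) (hm : m ≠ 1) :
    cfdot ⊤ (al K l) (al K m) = 2 + (if l = m then 1 else 0) + (if l = m.conj then 1 else 0) := by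
  have hm' : m.conj ≠ 1 := fun e => hm ((Irr.aut_eq_one _).mp e)
  conv_lhs => rw [al]
  rw [cfdot_cfInd_left le_top (ZIrr_mem_CF (al_mem K m)),
    cfdot_congr (φ' := cf1 K - (l : G → ℂ))
      (ψ' := cf1 K + cf1 K - (m : G → ℂ) - (m.conj : G → ℂ)) (fun _ _ => rfl)
      (fun x hx => by rw [h.al_apply hx]; simp only [Pi.sub_apply, Pi.add_apply, cf1_apply hx]; ring)]
  simp only [cfdot_sub_left, cfdot_sub_right, cfdot_add_right, cfdot_cf1, one_dot_irr, dot_irr_one,
    Irr.cfdot_eq, if_neg hl, if_neg hm, if_neg hm']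
  ring

theorem dot_aA {l m : Irr K} (hl : l ≠ 1) (hm : m ≠ 1) :
    cfdot ⊤ (aA K l) (aA K m) = 1 + (if l = m then 1 else 0) + (if l = m.conj then 1 else 0) := by
  have h1 := dot_al_one hl
  have h2 : cfdot ⊤ (cf1 ⊤) (al K m) = 1 := by
    rw [ZIrr_cfdot_comm cf1_mem_ZIrr (al_mem K m), dot_al_one hm]
  simp only [aA, cfdot_sub_left, cfdot_sub_right, h.dot_al hl hm, h1, h2, cfdot_cf1]
  ring

theorem dot_al_iota {l : Irr K} (hl : l ≠ 1) : cfdot ⊤ (al K l) iotaF = Nat.card K := by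
  rw [al, cfdot_cfInd_left le_top iotaF_mem,
    cfdot_congr_of_supp (A := sharp K) (ψ' := (Nat.card K : ℂ) • cf1 K), cfdot_natCast_smul_right,
    cfdot_sub_left, cfdot_cf1, dot_irr_one, if_neg hl, sub_zero, mul_one]
  · intro x hx
    by_cases hxK : x ∈ K
    · have : x = 1 := by
        by_contra h1
        exact hx ⟨hxK, h1⟩
      rw [this, Pi.sub_apply, cf1_apply K.one_mem, (h.lin l).one, sub_self]
    · rw [Pi.sub_apply, cf1_apply_of_notMem hxK, CF_zero l.mem_CF hxK, sub_self]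
  · intro x hx
    rw [iotaF, h.iota_of_mem hx.1 hx.2, Pi.smul_apply, cf1_apply hx.1, smul_eq_mul, mul_one]

theorem dot_aA_iota {l : Irr K} (hl : l ≠ 1) :
    cfdot ⊤ (aA K l) iotaF = Nat.card K - Nat.card G / (4 * (Nat.card K : ℂ) ^ 2) := by
  rw [aA, cfdot_sub_left, h.dot_al_iota hl, h.dot_iota (isIrr_cf1 ⊤).isDirr,
    cf1_apply (mem_top t), cf1_apply (mem_top 1)]
  ring

open Classical in
theorem res_apply {θ : G → ℂ} (hθ : θ ∈ CF (⊤ : Subgroup G)) {x : G} (hx : x ∈ K) :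
    θ x = (if x = 1 then (Nat.card K : ℂ) else 0) * cfdot K θ (cf1 K) -
      ∑ l : Irr K, cfdot ⊤ θ (al K l) * l x := by
  have h1 := congrFun (cfun_sum_cfdot (cfRes_mem_CF le_top hθ (H := K))) x
  rw [cfRes_apply hx, Finset.sum_apply] at h1
  rw [h1, ← h.sum_irr, Finset.sum_mul, ← Finset.sum_sub_distrib]
  refine Finset.sum_congr rfl fun l _ => ?_
  rw [al, cfdot_cfInd_right le_top hθ, cfdot_sub_right, cfdot_cfRes_left, Pi.smul_apply,
    smul_eq_mul]
  ring

theorem res_apply_ne {θ : G → ℂ} (hθ : θ ∈ CF (⊤ : Subgroup G)) {x : G} (hx : x ∈ K)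
    (hx1 : x ≠ 1) : θ x = -∑ l : Irr K, cfdot ⊤ θ (al K l) * l x := by
  rw [h.res_apply hθ hx, if_neg hx1]; ring

theorem exists_real : ∃ l0 : Irr K, l0 ≠ 1 ∧ l0.conj = l0 ∧
    ∀ l : Irr K, l.conj = l → l = 1 ∨ l = l0 := by
  classical
  have h1 : ∀ l : Irr K, ∑ x ∈ elems (K : Set G), l (x * x) =
      Nat.card K * if l.conj = l then 1 else 0 := by
    intro l
    have h2 := Irr.cfdot_eq l l.conj
    rw [cfdot] at h2
    have hk := card_ne_zero K
    rw [inv_mul_eq_iff_eq_mul₀ hk] at h2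
    simp only [eq_comm (a := l)] at h2
    rw [← h2]
    refine Finset.sum_congr rfl fun x hx => ?_
    have hx' : x ∈ K := by simpa [elems] using hx
    rw [(h.lin l).map_mul hx' hx', Irr.coe_aut, cfAut_apply, starRingEnd_self_apply]
  have h2 : ∑ x ∈ elems (K : Set G), ∑ l : Irr K, l (x * x) = Nat.card K * 2 := by
    rw [Finset.sum_congr rfl (g := fun x => if x * x = 1 then (Nat.card K : ℂ) else 0)
      (fun x _ => by convert h.sum_irr (x * x)), ← Finset.sum_filter, Finset.sum_const]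
    have : (elems (K : Set G)).filter (fun x => x * x = 1) = {1, t} := by
      ext x
      simp only [elems, Finset.mem_filter, Finset.mem_univ, true_and, SetLike.mem_coe,
        Finset.mem_insert, Finset.mem_singleton]
      refine ⟨fun hx => h.uniq x hx.1 hx.2, ?_⟩
      rintro (rfl | rfl)
      · exact ⟨K.one_mem, one_mul _⟩
      · exact ⟨h.mem, h.tt⟩
    rw [this, Finset.card_pair h.t_ne.symm, nsmul_eq_mul]
    push_cast
    ring
  rw [Finset.sum_comm] at h2
  simp only [h1, ← Finset.mul_sum] at h2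
  have h3 := mul_left_cancel₀ (card_ne_zero K) h2
  rw [Finset.sum_boole] at h3
  have h4 : (Finset.univ.filter fun l : Irr K => l.conj = l).card = 2 := by exact_mod_cast h3
  obtain ⟨a, b, hab, e⟩ := Finset.card_eq_two.mp h4
  have h5 : ∀ l : Irr K, l.conj = l ↔ l = a ∨ l = b := fun l => by
    have := Finset.ext_iff.mp e l
    simpa using this
  rcases (h5 1).mp (Irr.aut_one _) with e1 | e1
  · exact ⟨b, fun e' => hab (by rw [← e1, e']), (h5 b).mpr (Or.inr rfl), fun l hl => by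
      rw [e1]; exact (h5 l).mp hl⟩
  · exact ⟨a, fun e' => hab (by rw [← e1, e']), (h5 a).mpr (Or.inl rfl), fun l hl => by
      rw [e1]; exact ((h5 l).mp hl).symm⟩

end Setup

end CfsgLib.BSW
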