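import Cfsg.Agent.Lib.BSW.OddB

/-! The Brauer–Suzuki–Wall theorem (odd `q`), part C: the common constituent and the order. -/

set_option autoImplicit false

namespace CfsgLib.BSW

open Subgroup Cfsg CfsgLib.FT

variable {G : Type*} [Group G] [Fintype G]

/-- `l0` is the unique real non-principal character -/
structure Real0 {K : Subgroup G} (l0 : Irr K) : Prop where
  ne : l0 ≠ 1
  real : l0.conj = l0
  uniq : ∀ l : Irr K, l.conj = l → l = 1 ∨ l = l0

/-- decomposition of `aA K l` -/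
structure Dec {K : Subgroup G} (l0 l : Irr K) (X Y : G → ℂ) : Prop where
  dX : IsDirr ⊤ X
  dY : IsDirr ⊤ Y
  eq : aA K l = X + Y
  X0 : cfdot ⊤ X (aA K l0) = 1
  Y0 : cfdot ⊤ Y (aA K l0) = 0
  X1 : cfdot ⊤ X (cf1 ⊤) = 0
  Y1 : cfdot ⊤ Y (cf1 ⊤) = 0

theorem ne_one_of_conj_ne {K : Subgroup G} {l : Irr K} (hl : l.conj ≠ l) : l ≠ 1 := by
  rintro rfl
  exact hl (Irr.aut_one _)

namespace Dec

variable {K : Subgroup G} {l0 l m : Irr K} {X Y X' Y' : G → ℂ}

theorem XY (d : Dec l0 l X Y) (d' : Dec l0 m X' Y') : cfdot ⊤ X Y' = 0 := by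
  by_contra hc
  have h1 := d.X0
  rcases d.dX.eq_or_neg_of_cfdot_ne d'.dY hc with rfl | rfl
  · rw [d'.Y0] at h1; exact zero_ne_one h1
  · rw [cfdot_neg_left, d'.Y0, neg_zero] at h1; exact zero_ne_one h1

theorem XX (d : Dec l0 l X Y) (d' : Dec l0 m X' Y') (hne : X ≠ X') : cfdot ⊤ X X' = 0 := by
  by_contra hc
  have h1 := d.X0
  rcases d.dX.eq_or_neg_of_cfdot_ne d'.dX hc with rfl | rfl
  · exact hne rfl
  · rw [cfdot_neg_left, d'.X0] at h1; norm_num at h1

theorem dot_al (d : Dec l0 l X Y) (m : Irr K) : cfdot ⊤ X (al K m) = cfdot ⊤ X (aA K m) := by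
  rw [aA, cfdot_sub_right, d.X1, sub_zero]

end Dec

namespace Setup

variable {K : Subgroup G} {t s : G} (h : Setup K t s) {l0 : Irr K}
include h

theorem exists_real0 : ∃ l0 : Irr K, Real0 l0 := by
  obtain ⟨l0, h1, h2, h3⟩ := h.exists_real
  exact ⟨l0, h1, h2, h3⟩

theorem exists_dec (h0 : Real0 l0) {l : Irr K} (hl : l.conj ≠ l) : ∃ X Y, Dec l0 l X Y := by
  have hl1 := ne_one_of_conj_ne hl
  have hl0 : l ≠ l0 := by rintro rfl; exact hl h0.real
  have hn : cfdot ⊤ (aA K l) (aA K l) = 2 := by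
    rw [h.dot_aA hl1 hl1, if_pos rfl, if_neg hl.symm]; norm_num
  obtain ⟨b, c, hb, hc, e, hb1, hc1⟩ := Blk.exists_dirr_of_norm_two (aA_mem K l)
    (cfnorm_eq_of_cfdot_eq (r := 2) (by rw [hn]; norm_num)) (isIrr_cf1 ⊤).isDirr (dot_aA_one hl1)
  have hbc : cfdot ⊤ b c = 0 := by
    rw [e, cfdot_add_left, cfdot_add_right, cfdot_add_right, hb.cfdot_self, hc.cfdot_self,
      ZIrr_cfdot_comm hc.mem_ZIrr hb.mem_ZIrr] at hn
    linear_combination hn / 2
  obtain ⟨m, hm⟩ := ZIrr_cfdot_int hb.mem_ZIrr (aA_mem K l0)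
  obtain ⟨n, hn'⟩ := ZIrr_cfdot_int hc.mem_ZIrr (aA_mem K l0)
  have h1 := IsDirr.dot_int_sq_le hb hc hbc hm hn'
  have h2 : cfnorm ⊤ (aA K l0) = 3 := cfnorm_eq_of_cfdot_eq (by
    rw [h.dot_aA h0.ne h0.ne, if_pos rfl, if_pos h0.real.symm]; norm_num)
  have h3 := h.dot_aA hl1 h0.ne
  rw [h0.real, if_neg hl0, e, cfdot_add_left, hm, hn'] at h3
  have h4 : m + n = 1 := by
    have : ((m + n : ℤ) : ℂ) = 1 := by push_cast; linear_combination h3
    exact_mod_cast this
  rw [h2] at h1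
  have h5 : m ^ 2 + n ^ 2 ≤ 3 := by exact_mod_cast h1
  have h6 : m = 1 ∨ m = 0 := by
    obtain rfl : n = 1 - m := by omega
    have : -1 < m := by nlinarith
    have : m < 2 := by nlinarith
    omega
  rcases h6 with rfl | rfl
  · obtain rfl : n = 0 := by omega
    exact ⟨b, c, hb, hc, e, by simpa using hm, by simpa using hn', hb1, hc1⟩
  · obtain rfl : n = 1 := by omega
    exact ⟨c, b, hc, hb, by rw [e, add_comm], by simpa using hn', by simpa using hm, hc1, hb1⟩

theorem Y_eq {l m : Irr K} (hl : l ≠ 1) (hm : m ≠ 1) {X Y X' Y' : G → ℂ} (d : Dec l0 l X Y)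
    (d' : Dec l0 m X' Y') (hne : X ≠ X') : Y = Y' ∧ l ≠ m ∧ l ≠ m.conj := by
  have h1 := h.dot_aA hl hm
  rw [d.eq, d'.eq, cfdot_add_left, cfdot_add_right, cfdot_add_right, d.XX d' hne, d.XY d',
    cfdot_symm_zero (d'.XY d)] at h1
  rcases d.dY.cfdot_cases d'.dY with ⟨e, e'⟩ | ⟨-, e'⟩ | ⟨-, -, e'⟩ <;> rw [e'] at h1
  · refine ⟨e, fun e1 => ?_, fun e1 => ?_⟩
    · rw [if_pos e1] at h1
      split_ifs at h1 <;> norm_num at h1
    · rw [if_pos e1] at h1
      split_ifs at h1 <;> norm_num at h1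
  · split_ifs at h1 <;> norm_num at h1
  · split_ifs at h1 <;> norm_num at h1

theorem sum_two {l : Irr K} (hl : l.conj ≠ l) (f : Irr K → ℂ) :
    ∑ m : Irr K, ((if l = m then 1 else 0) + (if l = m.conj then 1 else 0)) * f m =
      f l + f l.conj := by
  have : ∀ m : Irr K, l = m.conj ↔ l.conj = m := fun m =>
    ⟨fun e => by rw [e, Irr.conj_conj], fun e => by rw [← e, Irr.conj_conj]⟩
  simp only [this, add_mul, Finset.sum_add_distrib, ite_mul, one_mul, zero_mul,
    Finset.sum_ite_eq, Finset.mem_univ, if_true]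

theorem exists_common (h0 : Real0 l0) : ∃ X, IsDirr ⊤ X ∧ cfdot ⊤ X (cf1 ⊤) = 0 ∧
    (∀ l : Irr K, l ≠ 1 → cfdot ⊤ X (aA K l) = 1) := by
  classical
  have hk := card_ne_zero K
  have hg : (Nat.card G : ℂ) ≠ 0 := by exact_mod_cast Nat.card_pos.ne'
  have hex : ∀ l : Irr K, ∃ X Y, l.conj ≠ l → Dec l0 l X Y := fun l => by
    by_cases hl : l.conj = l
    · exact ⟨0, 0, fun e => absurd hl e⟩
    · obtain ⟨X, Y, d⟩ := h.exists_dec h0 hl
      exact ⟨X, Y, fun _ => d⟩
  choose X Y hd using hex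
  set T : Finset (Irr K) := Finset.univ.filter fun l => l.conj ≠ l with hT
  have hTc : T = Finset.univ \ {1, l0} := by
    ext l
    simp only [hT, Finset.mem_filter, Finset.mem_univ, true_and, Finset.mem_sdiff,
      Finset.mem_insert, Finset.mem_singleton]
    refine not_congr ⟨h0.uniq l, ?_⟩
    rintro (rfl | rfl)
    · exact Irr.aut_one _
    · exact h0.real
  have hTcard : T.card + 2 = Nat.card K := by
    rw [hTc, Finset.card_univ_diff, Finset.card_pair h0.ne.symm, h.card_irr]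
    have := h.four
    omega
  have hsum : ∀ f : Irr K → ℂ, ∑ l, f l = f 1 + f l0 + ∑ l ∈ T, f l := fun f => by
    rw [hTc, ← Finset.sum_sdiff (Finset.subset_univ {1, l0}), Finset.sum_pair h0.ne.symm]
    ring
  have key : ∀ l m : Irr K, l.conj ≠ l → m.conj ≠ m → X l = X m := by
    by_contra hc
    push Not at hc
    obtain ⟨l, m, hl, hm, hne⟩ := hc
    have hbad : ∀ a : Irr K, a.conj ≠ a → ∃ b : Irr K, b.conj ≠ b ∧ X a ≠ X b := fun a _ => by
      by_cases e : X a = X l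
      · exact ⟨m, hm, e ▸ hne⟩
      · exact ⟨l, hl, e⟩
    have hsame : ∀ a c : Irr K, a.conj ≠ a → c.conj ≠ c → X a = X c → a = c ∨ a = c.conj := by
      intro a c ha hc e
      obtain ⟨b, hb, hab⟩ := hbad a ha
      have h1 := (h.Y_eq (ne_one_of_conj_ne ha) (ne_one_of_conj_ne hb) (hd a ha) (hd b hb) hab).1
      have h2 := (h.Y_eq (ne_one_of_conj_ne hc) (ne_one_of_conj_ne hb) (hd c hc) (hd b hb)
        (e ▸ hab)).1
      have h3 := h.dot_aA (ne_one_of_conj_ne ha) (ne_one_of_conj_ne hc)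
      have h4 := h.dot_aA (ne_one_of_conj_ne ha) (ne_one_of_conj_ne ha)
      rw [(hd c hc).eq, ← e, h2, ← h1, ← (hd a ha).eq, h4, if_pos rfl, if_neg ha.symm] at h3
      by_contra hcon
      push Not at hcon
      rw [if_neg hcon.1, if_neg hcon.2] at h3
      norm_num at h3
    have hval : ∀ a : Irr K, a.conj ≠ a → X a t = -l0 t - 2 * a t := by
      intro a ha
      have d := hd a ha
      rw [h.res_apply_ne d.dX.mem_CF h.mem h.t_ne, hsum, al_one, cfdot_zero_right, d.dot_al, d.X0]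
      have h1 : ∑ c ∈ T, cfdot ⊤ (X a) (al K c) * c t =
          ∑ c, ((if a = c then 1 else 0) + (if a = c.conj then 1 else 0)) * c t := by
        rw [hsum, if_neg (ne_one_of_conj_ne ha), show Irr.conj (1 : Irr K) = 1 from Irr.aut_one _,
          if_neg (ne_one_of_conj_ne ha),
          h0.real, if_neg (show a ≠ l0 by rintro rfl; exact ha h0.real)]
        simp only [add_zero, zero_mul, zero_add]
        refine Finset.sum_congr rfl fun c hc => ?_
        have hc' : c.conj ≠ c := (Finset.mem_filter.mp hc).2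
        rw [d.dot_al, (hd c hc').eq, cfdot_add_right, d.XY (hd c hc'), add_zero]
        congr 1
        by_cases e : X a = X c
        · rw [← e, d.dX.cfdot_self]
          rcases hsame a c ha hc' e with rfl | rfl
          · rw [if_pos rfl, if_neg ha.symm, add_zero]
          · rw [if_neg hc', if_pos rfl, zero_add]
        · obtain ⟨-, e1, e2⟩ := h.Y_eq (ne_one_of_conj_ne ha) (ne_one_of_conj_ne hc') d
            (hd c hc') e
          rw [d.XX (hd c hc') e, if_neg e1, if_neg e2, add_zero]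
      rw [h1, h.sum_two ha (fun c => c t), h.conj_t]
      ring
    have heq : ∀ a b : Irr K, a.conj ≠ a → b.conj ≠ b → X a ≠ X b → a t = b t := by
      intro a b ha hb hab
      have da := hd a ha
      have db := hd b hb
      have h1 := (h.Y_eq (ne_one_of_conj_ne ha) (ne_one_of_conj_ne hb) da db hab).1
      have h2 := h.dot_aA_iota (ne_one_of_conj_ne ha)
      rw [← h.dot_aA_iota (ne_one_of_conj_ne hb), da.eq, db.eq, cfdot_add_left, cfdot_add_left, h1,
        add_left_inj, h.dot_iota da.dX, h.dot_iota db.dX] at h2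
      have h3 : X a 1 = X b 1 := by
        have e1 := h.aA_one a
        have e2 := h.aA_one b
        rw [da.eq, Pi.add_apply] at e1
        rw [db.eq, Pi.add_apply, ← h1] at e2
        linear_combination e1 - e2
      have h4 := db.dX.one_ne_zero
      rw [h3, hval a ha, hval b hb] at h2
      field_simp at h2
      rcases h.irr_t a with e1 | e1 <;> rcases h.irr_t b with e2 | e2 <;>
        rcases h.irr_t l0 with e3 | e3 <;> rw [e1, e2] <;> rw [e1, e2, e3] at h2 <;> norm_num at h2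
    have hall : ∀ a ∈ T, a t = l t := fun a ha => by
      have ha' : a.conj ≠ a := (Finset.mem_filter.mp ha).2
      by_cases e : X a = X l
      · rcases hsame a l ha' hl e with rfl | rfl
        · rfl
        · exact h.conj_t l
      · exact heq a l ha' hl e
    have h1 := h.sum_irr t
    rw [if_neg h.t_ne, hsum, Finset.sum_congr rfl hall, Finset.sum_const, nsmul_eq_mul,
      show ((1 : Irr K) : G → ℂ) = cf1 K from rfl, cf1_apply h.mem] at h1
    obtain ⟨-, e1, e2⟩ := h.Y_eq (ne_one_of_conj_ne hm) (ne_one_of_conj_ne hl) (hd m hm) (hd l hl)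
      hne.symm
    have h2 : 3 ≤ T.card := by
      have : ({l, l.conj, m} : Finset (Irr K)) ⊆ T := by
        intro a ha
        simp only [Finset.mem_insert, Finset.mem_singleton] at ha
        rcases ha with rfl | rfl | rfl <;> simp only [hT, Finset.mem_filter, Finset.mem_univ,
          true_and, Irr.conj_conj]
        exacts [hl, hl.symm, hm]
      refine le_trans (le_of_eq ?_) (Finset.card_le_card this)
      rw [Finset.card_eq_three.mpr ⟨l, l.conj, m, hl.symm, e1.symm, e2.symm, rfl⟩]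
    rcases h.irr_t l with e3 | e3 <;> rcases h.irr_t l0 with e4 | e4 <;> rw [e3, e4] at h1
    · have : ((2 + T.card : ℕ) : ℂ) = 0 := by push_cast; linear_combination h1
      norm_cast at this
      omega
    · have : ((T.card : ℕ) : ℂ) = 0 := by linear_combination h1
      norm_cast at this
      omega
    · have : ((T.card : ℕ) : ℂ) = 2 := by linear_combination -h1
      norm_cast at this
      omega
    · have : ((T.card : ℕ) : ℂ) = 0 := by linear_combination -h1
      norm_cast at this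
      omega
  obtain ⟨l, hl⟩ : T.Nonempty := Finset.card_pos.mp (by have := h.four; omega)
  have hl' : l.conj ≠ l := (Finset.mem_filter.mp hl).2
  refine ⟨X l, (hd l hl').dX, (hd l hl').X1, fun m hm => ?_⟩
  by_cases hm' : m.conj = m
  · rcases h0.uniq m hm' with e | e
    · exact absurd e hm
    · rw [e, (hd l hl').X0]
  · rw [(hd m hm').eq, cfdot_add_right, (hd l hl').XY (hd m hm'), ← key l m hl' hm',
      (hd l hl').dX.cfdot_self, add_zero]

theorem exists_nonreal (h0 : Real0 l0) : ∃ l : Irr K, l.conj ≠ l := by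
  classical
  by_contra hc
  push Not at hc
  have h1 : (Finset.univ : Finset (Irr K)) ⊆ {1, l0} := fun l _ => by
    simpa using h0.uniq l (hc l)
  have h2 := Finset.card_le_card h1
  rw [Finset.card_univ, h.card_irr, Finset.card_pair h0.ne.symm] at h2
  have := h.four
  omega

end Setup

theorem arith_order {i n k : ℤ} (hi : ¬ 2 ∣ i) (hk : 2 ∣ k)
    (h : i * n ^ 2 = 2 * (1 + n * k) * (2 + n * k)) :
    ∃ ε : ℤ, (ε = 1 ∨ ε = -1) ∧ n = 2 * ε ∧ i = (1 + 2 * ε * k) * (1 + ε * k) := by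
  have h1 : n ∣ 4 := ⟨i * n - 6 * k - 2 * n * k ^ 2, by linear_combination -h⟩
  have h2 : n.natAbs ∣ 4 := Int.natAbs_dvd_natAbs.mpr h1
  have h3 : n.natAbs ≤ 4 := Nat.le_of_dvd (by norm_num) h2
  obtain ⟨j, rfl⟩ := hk
  have h4 : -4 ≤ n := by omega
  have h5 : n ≤ 4 := by omega
  interval_cases n
  · exfalso
    have : 16 * i = 4 - 48 * j + 128 * (j * j) := by linear_combination h
    omega
  · norm_num at h2
  · exact ⟨-1, Or.inr rfl, rfl, by linarith⟩
  · exact absurd ⟨(1 - 2 * j) * (2 - 2 * j), by linear_combination h⟩ hi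
  · norm_num at h
  · exact absurd ⟨(1 + 2 * j) * (2 + 2 * j), by linear_combination h⟩ hi
  · exact ⟨1, Or.inl rfl, rfl, by linarith⟩
  · norm_num at h2
  · exfalso
    have : 16 * i = 4 + 48 * j + 128 * (j * j) := by linear_combination h
    omega

theorem exists_int_of_mul_eq {z : ℂ} (hz : IsIntegral ℤ z) {a b : ℤ} (ha : a ≠ 0)
    (h : a * z = b) : ∃ n : ℤ, z = n := by
  have ha' : (a : ℂ) ≠ 0 := by exact_mod_cast ha
  have h1 : z = algebraMap ℚ ℂ ((b : ℚ) / a) := by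
    simp only [map_div₀, map_intCast]
    field_simp
    linear_combination h
  rw [h1, isIntegral_algebraMap_iff (algebraMap ℚ ℂ).injective] at hz
  obtain ⟨n, hn⟩ := IsIntegrallyClosed.isIntegral_iff.mp hz
  exact ⟨n, by rw [h1, ← hn]; simp⟩

/-- the common constituent -/
structure Common (K : Subgroup G) (X : G → ℂ) : Prop where
  d : IsDirr ⊤ X
  one : cfdot ⊤ X (cf1 ⊤) = 0
  dot : ∀ l : Irr K, l ≠ 1 → cfdot ⊤ X (aA K l) = 1

namespace Setup

variable {K : Subgroup G} {t s : G} (h : Setup K t s) {l0 : Irr K} {X : G → ℂ} (c : Common K X)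
include h c

omit h in
theorem aB_mem (l : Irr K) : aA K l - X ∈ ZIrr (⊤ : Subgroup G) :=
  (ZIrr ⊤).sub_mem (aA_mem K l) c.d.mem_ZIrr

omit h in
theorem dot_aA_X {l : Irr K} (hl : l ≠ 1) : cfdot ⊤ (aA K l) X = 1 := by
  rw [ZIrr_cfdot_comm (aA_mem K l) c.d.mem_ZIrr, c.dot l hl]

theorem dot_aB {l m : Irr K} (hl : l ≠ 1) (hm : m ≠ 1) :
    cfdot ⊤ (aA K l - X) (aA K m - X) =
      (if l = m then 1 else 0) + (if l = m.conj then 1 else 0) := by
  simp only [cfdot_sub_left, cfdot_sub_right, h.dot_aA hl hm, dot_aA_X c hl, c.dot m hm,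
    c.d.cfdot_self]
  ring

omit h in
theorem dot_aB_one {l : Irr K} (hl : l ≠ 1) : cfdot ⊤ (aA K l - X) (cf1 ⊤) = 0 := by
  rw [cfdot_sub_left, dot_aA_one hl, c.one, sub_self]

omit h in
theorem dot_aB_X {l : Irr K} (hl : l ≠ 1) : cfdot ⊤ (aA K l - X) X = 0 := by
  rw [cfdot_sub_left, dot_aA_X c hl, c.d.cfdot_self, sub_self]

theorem aB_dirr {l : Irr K} (hl : l.conj ≠ l) : IsDirr ⊤ (aA K l - X) :=
  isDirr_of_cfdot (aB_mem c l) (by
    rw [h.dot_aB c (ne_one_of_conj_ne hl) (ne_one_of_conj_ne hl), if_pos rfl, if_neg hl.symm,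
      add_zero])

omit h in
theorem dot_X_al (l : Irr K) : cfdot ⊤ X (al K l) = 1 - if l = 1 then 1 else 0 := by
  by_cases hl : l = 1
  · rw [hl, al_one, cfdot_zero_right, if_pos rfl, sub_self]
  · have := c.dot l hl
    rw [aA, cfdot_sub_right, c.one, sub_zero] at this
    rw [this, if_neg hl, sub_zero]

open Classical in
theorem sum_X_al {x : G} (hx : x ∈ K) :
    ∑ l : Irr K, cfdot ⊤ X (al K l) * l x = (if x = 1 then (Nat.card K : ℂ) else 0) - 1 := by
  simp only [dot_X_al c, sub_mul, one_mul, Finset.sum_sub_distrib, ite_mul, zero_mul,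
    Finset.sum_ite_eq', Finset.mem_univ, if_true]
  rw [h.sum_irr, show ((1 : Irr K) : G → ℂ) = cf1 K from rfl, cf1_apply hx]

theorem X_apply {x : G} (hx : InK K x) (hx1 : x ≠ 1) : X x = 1 := by
  obtain ⟨g, hg⟩ := hx
  rw [← CF_conj c.d.mem_CF (mem_top g), h.res_apply_ne c.d.mem_CF hg (conj_ne_one hx1),
    h.sum_X_al c hg, if_neg (conj_ne_one hx1)]
  ring

theorem X_t : X t = 1 := h.X_apply c (inK_of_mem h.mem) h.t_ne

theorem X_one : ∃ n : ℤ, X 1 = 1 + n * Nat.card K := by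
  obtain ⟨n, hn⟩ := ZIrr_cfdot_int (ZIrr_cfRes (H := K) le_top c.d.mem_ZIrr) cf1_mem_ZIrr
  rw [cfdot_cfRes_left] at hn
  refine ⟨n - 1, ?_⟩
  rw [h.res_apply c.d.mem_CF K.one_mem, h.sum_X_al c K.one_mem, if_pos rfl, hn]
  push_cast
  ring

theorem aB_one (l : Irr K) : (aA K l - X) 1 = -(1 + X 1) := by
  rw [Pi.sub_apply, h.aA_one]; ring

theorem aB_t_sq (l : Irr K) : (aA K l - X) t ^ 2 = 4 := by
  rw [Pi.sub_apply, h.aA_t, h.X_t c]
  rcases h.irr_t l with e | e <;> rw [e] <;> norm_num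

theorem one_add_ne (h0 : Real0 l0) : 1 + X 1 ≠ 0 := by
  obtain ⟨l, hl⟩ := h.exists_nonreal h0
  have := (h.aB_dirr c hl).one_ne_zero
  rw [h.aB_one c] at this
  exact neg_ne_zero.mp this

theorem dot_aB_iota {l : Irr K} (hl : l ≠ 1) (h0 : Real0 l0) :
    cfdot ⊤ (aA K l - X) iotaF = Nat.card G / (4 * (Nat.card K : ℂ) ^ 2) * (-4 / (1 + X 1)) := by
  obtain ⟨m, hm⟩ := h.exists_nonreal h0
  have h1 := h.dot_iota (h.aB_dirr c hm)
  rw [h.aB_t_sq c, h.aB_one c, cfdot_sub_left, h.dot_aA_iota (ne_one_of_conj_ne hm)] at h1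
  rw [cfdot_sub_left, h.dot_aA_iota hl, h1, div_neg, neg_div]

theorem order (h0 : Real0 l0) : ∃ ε : ℤ, (ε = 1 ∨ ε = -1) ∧ X 1 = 1 + 2 * ε * Nat.card K ∧
    (cidx t : ℤ) = (1 + 2 * ε * Nat.card K) * (1 + ε * Nat.card K) := by
  obtain ⟨n, hn⟩ := h.X_one c
  have h1 := h.dot_aB_iota c h0.ne h0
  rw [cfdot_sub_left, h.dot_aA_iota h0.ne, h.dot_iota c.d, h.X_t c, h.card_eq] at h1
  have h2 := h.one_add_ne c h0
  have h3 := c.d.one_ne_zero
  have hk := card_ne_zero K
  have h4 : ((cidx t * n ^ 2 : ℤ) : ℂ) = ((2 * (1 + n * Nat.card K) * (2 + n * Nat.card K) : ℤ) : ℂ) := by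
    push_cast at h1 ⊢
    field_simp at h1
    rw [hn] at h1
    have h5 : (Nat.card K : ℂ) ^ 2 ≠ 0 := pow_ne_zero 2 hk
    apply mul_left_cancel₀ h5
    linear_combination -h1 / 2
  obtain ⟨ε, hε, rfl, hi⟩ := arith_order (i := cidx t) (n := n) (k := Nat.card K)
    (by exact_mod_cast h.odd_cidx)
    (by exact_mod_cast h.even_card) (by exact_mod_cast h4)
  exact ⟨ε, hε, by rw [hn]; push_cast; ring, hi⟩

theorem w_eq (h0 : Real0 l0) {θ : G → ℂ} (hθ : IsDirr ⊤ θ) :
    cfdot ⊤ θ (cf1 ⊤) + cfdot ⊤ θ X / X 1 -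
      2 / (1 + X 1) * ∑ l ∈ Finset.univ.erase (1 : Irr K), cfdot ⊤ θ (aA K l - X) =
      θ t ^ 2 / θ 1 := by
  classical
  set P : (G → ℂ) → Prop := fun θ => cfdot ⊤ θ (cf1 ⊤) + cfdot ⊤ θ X / X 1 -
      2 / (1 + X 1) * ∑ l ∈ Finset.univ.erase (1 : Irr K), cfdot ⊤ θ (aA K l - X) =
      θ t ^ 2 / θ 1 with hP
  have hneg : ∀ θ, P θ → P (-θ) := fun θ e => by
    simp only [hP, cfdot_neg_left, Finset.sum_neg_distrib, Pi.neg_apply] at e ⊢
    rw [neg_sq, div_neg, ← e]
    ring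
  have hof : ∀ ψ, IsDirr ⊤ ψ → P ψ → cfdot ⊤ θ ψ ≠ 0 → P θ := fun ψ hψ e hne => by
    rcases hθ.eq_or_neg_of_cfdot_ne hψ hne with rfl | rfl
    exacts [e, hneg _ e]
  have h2 := h.one_add_ne c h0
  have h3 := c.d.one_ne_zero
  change P θ
  by_cases c1 : cfdot ⊤ θ (cf1 ⊤) ≠ 0
  · refine hof _ (isIrr_cf1 ⊤).isDirr ?_ c1
    simp only [hP]
    rw [Finset.sum_eq_zero fun l hl => cfdot_symm_zero (dot_aB_one c (Finset.ne_of_mem_erase hl)),
      cfdot_cf1, cfdot_symm_zero c.one, cf1_apply (mem_top t), cf1_apply (mem_top 1)]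
    ring
  by_cases c2 : cfdot ⊤ θ X ≠ 0
  · refine hof _ c.d ?_ c2
    simp only [hP]
    rw [Finset.sum_eq_zero fun l hl => cfdot_symm_zero (dot_aB_X c (Finset.ne_of_mem_erase hl)),
      c.one, c.d.cfdot_self, h.X_t c]
    ring
  by_cases c3 : ∃ l : Irr K, l.conj ≠ l ∧ cfdot ⊤ θ (aA K l - X) ≠ 0
  · obtain ⟨l, hl, c3⟩ := c3
    have hl1 := ne_one_of_conj_ne hl
    refine hof _ (h.aB_dirr c hl) ?_ c3
    simp only [hP]
    have h4 := h.sum_two hl (fun _ => 1)
    rw [← Finset.add_sum_erase _ _ (Finset.mem_univ 1), if_neg hl1,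
      show Irr.conj (1 : Irr K) = 1 from Irr.aut_one _, if_neg hl1] at h4
    simp only [mul_one, add_zero, zero_add] at h4
    rw [Finset.sum_congr rfl fun m hm => h.dot_aB c hl1 (Finset.ne_of_mem_erase hm), h4,
      dot_aB_one c hl1, dot_aB_X c hl1, h.aB_t_sq c, h.aB_one c]
    field_simp
    ring
  push Not at c1 c2 c3
  have hval : ∀ ψ, ψ ∈ CF (⊤ : Subgroup G) → cfdot ⊤ ψ (cf1 ⊤) = 0 → cfdot ⊤ ψ X = 0 →
      (∀ l : Irr K, l.conj ≠ l → cfdot ⊤ ψ (aA K l - X) = 0) →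
      ψ t = -cfdot ⊤ ψ (aA K l0 - X) * l0 t ∧
      ∑ l ∈ Finset.univ.erase (1 : Irr K), cfdot ⊤ ψ (aA K l - X) = cfdot ⊤ ψ (aA K l0 - X) := by
    intro ψ hψ e1 e2 e3
    have e4 : ∀ l : Irr K, cfdot ⊤ ψ (al K l) = cfdot ⊤ ψ (aA K l - X) := fun l => by
      rw [aA, cfdot_sub_right, cfdot_sub_right, e1, e2, sub_zero, sub_zero]
    have e5 : ∀ l : Irr K, l ≠ 1 → l ≠ l0 → cfdot ⊤ ψ (aA K l - X) = 0 := fun l a b =>
      e3 l fun e => (h0.uniq l e).elim a b
    constructor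
    · rw [h.res_apply_ne hψ h.mem h.t_ne, Finset.sum_eq_single l0, e4, neg_mul]
      · intro l _ hl
        by_cases hl1 : l = 1
        · rw [hl1, al_one, cfdot_zero_right, zero_mul]
        · rw [e4, e5 l hl1 hl, zero_mul]
      · simp
    · rw [Finset.sum_eq_single l0]
      · intro l hl hl0
        exact e5 l (Finset.ne_of_mem_erase hl) hl0
      · intro hc
        exact absurd (Finset.mem_erase.mpr ⟨h0.ne, Finset.mem_univ _⟩) hc
  have hB0 : cfdot ⊤ (aA K l0 - X) (aA K l0 - X) = 2 := by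
    rw [h.dot_aB c h0.ne h0.ne, if_pos rfl, if_pos h0.real.symm]; norm_num
  have hl0 : l0 t ^ 2 = 1 := by rcases h.irr_t l0 with e | e <;> rw [e] <;> norm_num
  have main : ∀ ψ, IsDirr ⊤ ψ → cfdot ⊤ ψ (cf1 ⊤) = 0 → cfdot ⊤ ψ X = 0 →
      (∀ l : Irr K, l.conj ≠ l → cfdot ⊤ ψ (aA K l - X) = 0) → cfdot ⊤ ψ (aA K l0 - X) = 1 →
      P ψ := by
    intro ψ hψ e1 e2 e3 e4
    have e4' : cfdot ⊤ (aA K l0 - X) ψ = 1 := by
      rw [ZIrr_cfdot_comm (aB_mem c l0) hψ.mem_ZIrr, e4]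
    have hZ : IsDirr ⊤ (aA K l0 - X - ψ) :=
      isDirr_of_cfdot ((ZIrr ⊤).sub_mem (aB_mem c l0) hψ.mem_ZIrr) (by
        rw [cfdot_sub_left, cfdot_sub_right (ψ' := ψ), cfdot_sub_right (ψ' := ψ), hB0, e4, e4',
          hψ.cfdot_self]
        norm_num)
    obtain ⟨f1, f2⟩ := hval ψ hψ.mem_CF e1 e2 e3
    obtain ⟨g1, -⟩ := hval _ hZ.mem_CF (by rw [cfdot_sub_left, dot_aB_one c h0.ne, e1, sub_self])
      (by rw [cfdot_sub_left, dot_aB_X c h0.ne, e2, sub_self])
      (fun l hl => by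
        rw [cfdot_sub_left, e3 l hl, h.dot_aB c h0.ne (ne_one_of_conj_ne hl),
          if_neg (by rintro rfl; exact hl h0.real),
          if_neg (by rintro rfl; exact hl (by simpa using h0.real.symm))]
        ring)
    rw [cfdot_sub_left (φ' := ψ), hB0, e4] at g1
    rw [e4] at f1 f2
    have k1 := h.dot_iota hψ
    have k2 := h.dot_iota hZ
    have k3 := h.dot_aB_iota c h0.ne h0
    rw [cfdot_sub_left (φ' := ψ), k1, k3, g1, f1, Pi.sub_apply (aA K l0 - X), h.aB_one c] at k2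
    have k4 := hZ.one_ne_zero
    rw [Pi.sub_apply (aA K l0 - X), h.aB_one c] at k4
    have k5 := hψ.one_ne_zero
    have hk := card_ne_zero K
    have hg : (Nat.card G : ℂ) ≠ 0 := by exact_mod_cast Nat.card_pos.ne'
    simp only [hP]
    rw [e1, e2, f2, f1]
    simp only [mul_pow, hl0] at k2 ⊢
    field_simp at k2
    have k6 : (2 * ψ 1 + (1 + X 1)) ^ 2 = 0 := by linear_combination k2
    have k7 : 1 + X 1 = -2 * ψ 1 := by linear_combination (pow_eq_zero_iff two_ne_zero).mp k6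
    rw [k7]
    field_simp
    ring
  obtain ⟨a, ha⟩ := ZIrr_cfdot_int hθ.mem_ZIrr (aB_mem c l0)
  have ha2 := IsDirr.dot_int_sq_le hθ (isIrr_cf1 ⊤).isDirr c1 ha (n := 0)
    (by rw [cfdot_symm_zero (dot_aB_one c h0.ne)]; simp)
  rw [cfnorm_eq_of_cfdot_eq (r := 2) (by rw [hB0]; norm_num)] at ha2
  have ha3 : a ^ 2 + 0 ^ 2 ≤ 2 := by exact_mod_cast ha2
  have ha4 : -2 < a := by nlinarith
  have ha5 : a < 2 := by nlinarith
  interval_cases a
  · have := hneg _ (main (-θ) hθ.neg (by rw [cfdot_neg_left, c1, neg_zero])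
      (by rw [cfdot_neg_left, c2, neg_zero])
      (fun l hl => by rw [cfdot_neg_left, c3 l hl, neg_zero]) (by rw [cfdot_neg_left, ha]; simp))
    rwa [neg_neg] at this
  · obtain ⟨f1, f2⟩ := hval θ hθ.mem_CF c1 c2 c3
    simp only [hP]
    rw [c1, c2, f2, f1, ha]
    simp
  · exact main θ hθ c1 c2 c3 (by rw [ha]; simp)

theorem iota_eq (h0 : Real0 l0) {y : G} (hy : ¬ InK K y) :
    (iota y : ℂ) = Nat.card G / (4 * (Nat.card K : ℂ) ^ 2) *
      (1 + X y / X 1 + 2 / (1 + X 1) * ((Nat.card K - 1) * (1 + X y))) := by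
  classical
  obtain ⟨f, hf⟩ := ZIrr_one_int c.d.mem_ZIrr
  set T : G → ℂ := (Nat.card G / (4 * (Nat.card K : ℂ) ^ 2) : ℂ) • (cf1 ⊤ + (X 1)⁻¹ • X -
    (2 / (1 + X 1)) • ∑ l ∈ Finset.univ.erase (1 : Irr K), (aA K l - X)) with hT
  have hTm : T ∈ CF (⊤ : Subgroup G) := (CF ⊤).smul_mem _ ((CF ⊤).sub_mem
    ((CF ⊤).add_mem cf1_mem_CF ((CF ⊤).smul_mem _ c.d.mem_CF))
    ((CF ⊤).smul_mem _ ((CF ⊤).sum_mem fun l _ => ZIrr_mem_CF (aB_mem c l))))
  have h1 : iotaF - T = 0 := CF_eq_zero_of_ortho ((CF ⊤).sub_mem iotaF_mem hTm) fun χ hχ => by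
    apply cfdot_symm_zero
    rw [cfdot_sub_right, h.dot_iota hχ.isDirr, ← h.w_eq c h0 hχ.isDirr, hT, cfdot_smul_right,
      cfdot_sub_right, cfdot_add_right, cfdot_smul_right, cfdot_smul_right, cfdot_sum_right, hf]
    simp only [map_div₀, map_mul, map_pow, map_natCast, map_ofNat, map_inv₀, map_intCast, map_add,
      map_one]
    ring
  have h2 := congrFun (sub_eq_zero.mp h1) y
  rw [iotaF] at h2
  rw [h2, hT]
  simp only [Pi.smul_apply, Pi.sub_apply, Pi.add_apply, Finset.sum_apply, smul_eq_mul, aA,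
    al_apply_of_not_inK _ hy, cf1_apply (mem_top y), Finset.sum_const, nsmul_eq_mul]
  rw [Finset.card_erase_of_mem (Finset.mem_univ _), Finset.card_univ, h.card_irr,
    Nat.cast_sub (by have := h.four; omega)]
  push_cast
  ring

omit c in
open Classical in
theorem sum_split (F : G → ℂ) (a : ℂ) (hF : ∀ x, InK K x → x ≠ 1 → F x = a) :
    ∑ x, F x = F 1 + cidx t * (Nat.card K - 1) * a +
      ∑ x ∈ Finset.univ.filter (fun x => ¬ InK K x), F x := by
  rw [← Finset.sum_filter_add_sum_filter_not Finset.univ (fun x => InK K x),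
    ← Finset.add_sum_erase _ _ (show (1 : G) ∈ Finset.univ.filter (fun x => InK K x) by
      simpa using inK_one K), Finset.sum_congr rfl (g := fun _ => a) (fun x hx => hF x
        (Finset.mem_filter.mp (Finset.mem_of_mem_erase hx)).2 (Finset.ne_of_mem_erase hx)),
    Finset.sum_const, nsmul_eq_mul]
  congr 3
  have h1 := h.normedTI.card_classSupport
  rw [relIndex_top_right, ← card_elems_set] at h1
  have h2 : (sharp K).ncard + 1 = Nat.card K := by
    rw [sharp, Set.ncard_diff_singleton_add_one K.one_mem]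
    rfl
  have h3 : elems (classSupport (sharp K) ⊤) =
      (Finset.univ.filter (fun x => InK K x)).erase 1 := by
    ext x
    simp only [elems, Finset.mem_filter, Finset.mem_univ, true_and, Finset.mem_erase]
    constructor
    · rintro ⟨a, ha, y, -, rfl⟩
      exact ⟨conj_ne_one ha.2, (inK_of_mem ha.1).conj y⟩
    · rintro ⟨h1, g, hg⟩
      exact ⟨_, ⟨hg, conj_ne_one h1⟩, g⁻¹, mem_top _, by group⟩
  rw [← h3, h1, ← h2]
  push_cast
  ring

omit c in
/-- The output of the character theory. -/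
theorem char_main : ∃ ε : ℤ, (ε = 1 ∨ ε = -1) ∧
    (cidx t : ℤ) = (1 + 2 * ε * Nat.card K) * (1 + ε * Nat.card K) ∧
    (∀ y, ¬ InK K y → (iota y : ℤ) = Nat.card K + ε ∨
      (2 * iota y : ℤ) = (2 * Nat.card K + ε) * (1 + ε)) ∧
    (({y | ¬ InK K y ∧ (iota y : ℤ) ≠ Nat.card K + ε}.ncard + 1 : ℕ) : ℤ) =
      (2 * Nat.card K + ε) ^ 2 := by
  classical
  obtain ⟨l0, h0⟩ := h.exists_real0
  obtain ⟨X, c1, c2, c3⟩ := h.exists_common h0
  have c : Common K X := ⟨c1, c2, c3⟩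
  obtain ⟨ε, hε, hf, hi⟩ := h.order c h0
  have hk := card_ne_zero K
  have hk4 := h.four
  have hi' : (cidx t : ℂ) = (1 + 2 * ε * Nat.card K) * (1 + ε * Nat.card K) := by
    exact_mod_cast congrArg (fun z : ℤ => (z : ℂ)) hi
  have hg : (Nat.card G : ℂ) = 2 * Nat.card K * cidx t := by exact_mod_cast h.card_eq
  have hval : ∀ y, ¬ InK K y →
      2 * (iota y : ℂ) = 2 * (Nat.card K + ε) + (2 * Nat.card K + ε - 1) * ε * (1 + X y) := by
    intro y hy
    have h1 := h.iota_eq c h0 hy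
    have h2 := h.one_add_ne c h0
    have h3 := c.d.one_ne_zero
    rw [hg, hi', hf] at h1
    rw [hf] at h2 h3
    have h4 : (1 + ε * Nat.card K : ℂ) ≠ 0 := fun e => h2 (by linear_combination 2 * e)
    rw [show (1 + (1 + 2 * ε * Nat.card K) : ℂ) = 2 * (1 + ε * Nat.card K) by ring] at h1
    have h5 : ∀ k f b z : ℂ, k ≠ 0 → f ≠ 0 → b ≠ 0 →
        2 * k * (2 * k * (f * b) / (4 * k ^ 2) * (1 + z / f + 2 / (2 * b) * ((k - 1) * (1 + z)))) =
          f * b + z * b + f * (k - 1) * (1 + z) := fun k f b z _ _ _ => by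
      field_simp
      ring
    apply mul_left_cancel₀ hk
    rw [← mul_assoc, mul_comm _ (2 : ℂ), h1, h5 _ _ _ _ hk h3 h4]
    rcases hε with rfl | rfl <;> push_cast <;> ring
  have hint : ∀ y, ∃ n : ℤ, ¬ InK K y → X y = n := fun y => by
    by_cases hy : InK K y
    · exact ⟨0, fun e => absurd hy e⟩
    · obtain ⟨n, hn⟩ := exists_int_of_mul_eq (ZIrr_isIntegral c.d.mem_ZIrr y)
        (a := (2 * Nat.card K + ε - 1) * ε)
        (b := 2 * iota y - 2 * (Nat.card K + ε) - (2 * Nat.card K + ε - 1) * ε)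
        (by rcases hε with rfl | rfl <;> omega)
        (by push_cast; linear_combination -hval y hy)
      exact ⟨n, fun _ => hn⟩
  choose x hx using hint
  set S := Finset.univ.filter (fun x => ¬ InK K x) with hS
  have hxS : ∀ y ∈ S, X y = x y := fun y hy => hx y (Finset.mem_filter.mp hy).2
  have hg0 : (Nat.card G : ℂ) ≠ 0 := by exact_mod_cast Nat.card_pos.ne'
  have m0 := h.sum_split (fun _ => 1) 1 (fun _ _ _ => rfl)
  simp only [Finset.sum_const, Finset.card_univ, nsmul_eq_mul, mul_one,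
    ← Nat.card_eq_fintype_card] at m0
  have m1 := h.sum_split X 1 (fun _ => h.X_apply c)
  have m1' := c.one
  rw [cfdot_cf1_right, elems_top, card_top, m1, Finset.sum_congr rfl hxS,
    mul_eq_zero, or_iff_right (inv_ne_zero hg0)] at m1'
  have m2 := h.sum_split (fun y => X y * starRingEnd ℂ (X y)) 1
    (fun y a b => by simp only [h.X_apply c a b, map_one, mul_one])
  have m2' := c.d.cfdot_self
  rw [cfdot, elems_top, card_top, m2, Finset.sum_congr rfl (g := fun y => (x y : ℂ) * x y)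
    (fun y hy => by simp only [hxS y hy, map_intCast]), ZIrr_conj_one c.d.mem_ZIrr,
    inv_mul_eq_iff_eq_mul₀ hg0] at m2'
  have hε2 : (ε : ℂ) ^ 2 = 1 := by rcases hε with rfl | rfl <;> norm_num
  have m3 : ∑ y ∈ S, x y * (x y + 1) = 0 := by
    have : ((∑ y ∈ S, x y * (x y + 1) : ℤ) : ℂ) = 0 := by
      push_cast
      simp only [mul_add, mul_one, Finset.sum_add_distrib]
      rw [hg, hi', hf] at m2'
      rw [hi', hf] at m1'
      linear_combination m1' + m2'
    exact_mod_cast this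
  have m4 : ∀ y ∈ S, x y = 0 ∨ x y = -1 := fun y hy => by
    have := (Finset.sum_eq_zero_iff_of_nonneg fun y _ => by
      rcases le_or_gt 0 (x y) with e | e
      · positivity
      · exact mul_nonneg_of_nonpos_of_nonpos e.le (by omega)).mp m3 y hy
    rcases mul_eq_zero.mp this with e | e
    · exact Or.inl e
    · exact Or.inr (by omega)
  have hval' : ∀ y ∈ S,
      2 * (iota y : ℤ) = 2 * (Nat.card K + ε) + (2 * Nat.card K + ε - 1) * ε * (1 + x y) := by
    intro y hy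
    have := hval y (Finset.mem_filter.mp hy).2
    rw [hxS y hy] at this
    exact_mod_cast this
  have m5 : ∀ y ∈ S, (iota y : ℤ) ≠ Nat.card K + ε ↔ x y = 0 := fun y hy => by
    have := hval' y hy
    rcases m4 y hy with e | e <;> rw [e] at this ⊢ <;> rcases hε with rfl | rfl <;> omega
  refine ⟨ε, hε, hi, fun y hy => ?_, ?_⟩
  · have hy' : y ∈ S := Finset.mem_filter.mpr ⟨Finset.mem_univ _, hy⟩
    have := hval' y hy'
    rcases m4 y hy' with e | e <;> rw [e] at this <;> rcases hε with rfl | rfl <;> omega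
  · have e1 : {y | ¬ InK K y ∧ (iota y : ℤ) ≠ Nat.card K + ε}.ncard =
        (S.filter fun y => x y = 0).card := by
      rw [← card_elems_set]
      congr 1
      ext y
      simp only [elems, Finset.mem_filter, Finset.mem_univ, true_and, Set.mem_setOf_eq, hS]
      exact and_congr_right fun hy => m5 y (Finset.mem_filter.mpr ⟨Finset.mem_univ _, hy⟩)
    have e2 : ∑ y ∈ S, ((x y : ℂ) + 1) = (S.filter fun y => x y = 0).card := by
      rw [← Finset.sum_boole]
      refine Finset.sum_congr rfl fun y hy => ?_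
      rcases m4 y hy with e | e <;> simp [e]
    rw [e1]
    have : (((S.filter fun y => x y = 0).card + 1 : ℕ) : ℂ) = (2 * Nat.card K + ε) ^ 2 := by
      push_cast
      rw [← e2, Finset.sum_add_distrib, Finset.sum_const, nsmul_eq_mul, mul_one]
      rw [hg, hi'] at m0
      rw [hi', hf] at m1'
      linear_combination m1' - m0 + (4 * (Nat.card K : ℂ) ^ 2 - 1) * hε2
    exact_mod_cast this

end Setup

end CfsgLib.BSW
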