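import Mathlib

/-! Subgroups of the symmetric group of the projective line: recognition of `PSL(2, F)` and
`PGL(2, F)`; fields attached to irreducible abelian operator groups. -/

set_option autoImplicit false

namespace CfsgLib.BSW

open Subgroup Matrix OnePoint
open scoped MatrixGroups

open scoped IsMulCommutative in
theorem exists_field_int {A : Type*} [AddCommGroup A] [Finite A] (S : Set (Module.End ℤ A))
    (hcomm : ∀ x ∈ S, ∀ y ∈ S, x * y = y * x)
    (hirr : ∀ T : Submodule ℤ A, (∀ f ∈ S, ∀ v ∈ T, f v ∈ T) → T = ⊥ ∨ T = ⊤)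
    {s : A} (hs : s ≠ 0) :
    ∃ (F : Type) (_ : Field F) (_ : Fintype F) (e : A ≃+ F),
      ∀ f ∈ S, ∃ c : F, ∀ v, e (f v) = c * e v := by
  classical
  let R := Algebra.adjoin ℤ S
  have := Algebra.isMulCommutative_adjoin ℤ hcomm
  have hc : ∀ a b : R, ∀ v, a.1 (b.1 v) = b.1 (a.1 v) := fun a b v =>
    LinearMap.congr_fun (congrArg Subtype.val (mul_comm a b)) v
  have hinj : ∀ r : R, r ≠ 0 → ∀ v, r.1 v = 0 → v = 0 := fun r hr v hv => by
    rcases hirr (LinearMap.ker r.1) (fun f hf w hw => by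
      rw [LinearMap.mem_ker] at hw ⊢
      rw [hc r ⟨f, Algebra.subset_adjoin hf⟩, hw, map_zero]) with h | h
    · exact (Submodule.mem_bot _).1 (h.le hv)
    · exact absurd (Subtype.ext (LinearMap.ker_eq_top.1 h)) hr
  let ev : R →ₗ[ℤ] A := (LinearMap.applyₗ s).comp R.val.toLinearMap
  have hev : ∀ r, ev r = r.1 s := fun r => rfl
  have h1 : Function.Injective ev := (injective_iff_map_eq_zero ev).2 fun r hr => by
    by_contra h; exact hs (hinj r h s hr)
  have h2 : Function.Surjective ev := LinearMap.range_eq_top.1 ((hirr _ (by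
    rintro f hf _ ⟨r, rfl⟩
    exact ⟨⟨f, Algebra.subset_adjoin hf⟩ * r, rfl⟩)).resolve_left fun h =>
      hs ((Submodule.mem_bot _).1 (h.le ⟨1, rfl⟩)))
  have : Finite R := Finite.of_injective _ h1
  have : Nontrivial R := ⟨⟨1, 0, fun h => hs (by simpa [hev] using congrArg ev h)⟩⟩
  have : NoZeroDivisors R := ⟨fun {a b} h => by
    by_contra hne
    push Not at hne
    exact hs (hinj b hne.2 s (hinj a hne.1 _ (congrArg ev h)))⟩
  have : IsDomain R := NoZeroDivisors.to_isDomain R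
  let _ := (Finite.isField_of_domain R).toField
  let E : R ≃+* Shrink.{0} R := (Shrink.ringEquiv.{0} R).symm
  let ev' := LinearEquiv.ofBijective ev ⟨h1, h2⟩
  have h3 : ∀ r : R, ev'.symm (r.1 s) = r := fun r => ev'.symm_apply_apply r
  refine ⟨Shrink.{0} R, inferInstance, Fintype.ofFinite _,
    ev'.symm.toAddEquiv.trans E.toAddEquiv, fun f hf => ⟨E ⟨f, Algebra.subset_adjoin hf⟩,
      fun v => ?_⟩⟩
  obtain ⟨r, rfl⟩ := h2 v
  change E (ev'.symm ((⟨f, Algebra.subset_adjoin hf⟩ * r : R).1 s)) = _ * E (ev'.symm (r.1 s))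
  rw [h3, h3, map_mul]

open scoped IsMulCommutative in
theorem exists_field_of_irr {G : Type*} [Group G] [Finite G] {P E : Subgroup G}
    (hP : ∀ a ∈ P, ∀ b ∈ P, a * b = b * a) (hE : ∀ a ∈ E, ∀ b ∈ E, a * b = b * a)
    (hn : ∀ d ∈ E, ∀ x ∈ P, d * x * d⁻¹ ∈ P) (h1 : P ≠ ⊥)
    (hirr : ∀ Q : Subgroup G, Q ≤ P → (∀ d ∈ E, ∀ x ∈ Q, d * x * d⁻¹ ∈ Q) → Q = ⊥ ∨ Q = P) :
    ∃ (F : Type) (_ : Field F) (_ : Fintype F) (e χ : G → F), Set.BijOn e P Set.univ ∧
      (∀ a ∈ P, ∀ b ∈ P, e (a * b) = e a + e b) ∧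
      ∀ d ∈ E, ∀ x ∈ P, e (d * x * d⁻¹) = χ d * e x := by
  classical
  have : IsMulCommutative P := ⟨⟨fun a b => Subtype.ext (hP a a.2 b b.2)⟩⟩
  let φ : E → P →* P := fun d => MonoidHom.mk' (fun x => ⟨d * x * (d : G)⁻¹, hn d d.2 x x.2⟩)
    fun a b => Subtype.ext (by push_cast; group)
  let L : E → Module.End ℤ (Additive P) := fun d => (MonoidHom.toAdditive (φ d)).toIntLinearMap
  have hL : ∀ d (x : P), L d (Additive.ofMul x) = Additive.ofMul (φ d x) := fun _ _ => rfl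
  obtain ⟨s, hs⟩ := (Subgroup.ne_bot_iff_exists_ne_one).mp h1
  obtain ⟨F, i1, i2, e, he⟩ := exists_field_int (Set.range L) (by
    rintro _ ⟨a, rfl⟩ _ ⟨b, rfl⟩
    ext x
    change ((a : G) * (b * x.toMul * (b : G)⁻¹) * (a : G)⁻¹) = b * (a * x.toMul * (a : G)⁻¹) * (b : G)⁻¹
    have := hE a a.2 b b.2
    calc (a : G) * (b * x.toMul * (b : G)⁻¹) * (a : G)⁻¹ = (a * b) * x.toMul * (a * b : G)⁻¹ := by
          group
      _ = _ := by rw [this]; group) (fun T hT => by
    rcases hirr ((AddSubgroup.toSubgroup' T.toAddSubgroup).map P.subtype) (map_subtype_le _) (by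
      rintro d hd _ ⟨x, hx, rfl⟩
      exact ⟨φ ⟨d, hd⟩ x, hT _ ⟨⟨d, hd⟩, rfl⟩ _ hx, rfl⟩) with h | h
    · left
      rw [eq_bot_iff]
      intro w hw
      have : (w.toMul : G) ∈ (AddSubgroup.toSubgroup' T.toAddSubgroup).map P.subtype :=
        ⟨w.toMul, hw, rfl⟩
      rw [h, mem_bot] at this
      exact Subtype.ext this
    · right
      rw [eq_top_iff]
      intro w _
      have : (w.toMul : G) ∈ (AddSubgroup.toSubgroup' T.toAddSubgroup).map P.subtype := by
        rw [h]; exact w.toMul.2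
      obtain ⟨x, hx, e⟩ := this
      have e' : x = w.toMul := Subtype.ext e
      rw [e'] at hx
      exact hx) (s := Additive.ofMul s) hs
  choose c hc using fun d : E => he (L d) ⟨d, rfl⟩
  refine ⟨F, i1, i2, fun x => if h : x ∈ P then e (Additive.ofMul ⟨x, h⟩) else 0,
    fun d => if h : d ∈ E then c ⟨d, h⟩ else 0, ⟨fun _ _ => trivial, fun a ha b hb hab => ?_,
      fun y _ => ?_⟩, fun a ha b hb => ?_, fun d hd x hx => ?_⟩
  · have ha' : a ∈ P := ha
    have hb' : b ∈ P := hb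
    simp only [dif_pos ha', dif_pos hb'] at hab
    exact congrArg Subtype.val (Additive.ofMul.injective (e.injective hab))
  · refine ⟨(e.symm y).toMul, (e.symm y).toMul.2, ?_⟩
    simp only [dif_pos (e.symm y).toMul.2]
    exact e.apply_symm_apply y
  · simp only [dif_pos ha, dif_pos hb, dif_pos (P.mul_mem ha hb), ← map_add]
    rfl
  · simp only [dif_pos hd, dif_pos hx, dif_pos (hn d hd x hx), ← hc]
    rfl

section line

variable {F : Type*} [Field F] [DecidableEq F]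

/-- the action of `GL(2, F)` on the projective line -/
def piGL (F : Type*) [Field F] [DecidableEq F] : GL (Fin 2) F →* Equiv.Perm (OnePoint F) :=
  MulAction.toPermHom _ _

/-- the action of `SL(2, F)` on the projective line -/
def piSL (F : Type*) [Field F] [DecidableEq F] : SL(2, F) →* Equiv.Perm (OnePoint F) :=
  (piGL F).comp SpecialLinearGroup.toGL

theorem piGL_infty (g : GL (Fin 2) F) :
    piGL F g ∞ = if g 1 0 = 0 then ∞ else ((g 0 0 / g 1 0 : F) : OnePoint F) :=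
  smul_infty_eq_ite g

theorem piGL_coe (g : GL (Fin 2) F) (k : F) :
    piGL F g k = if g 1 0 * k + g 1 1 = 0 then ∞ else
      (((g 0 0 * k + g 0 1) / (g 1 0 * k + g 1 1) : F) : OnePoint F) := smul_some_eq_ite

theorem ker_piGL : (piGL F).ker = center (GL (Fin 2) F) := by
  ext g
  rw [MonoidHom.mem_ker, GeneralLinearGroup.mem_center_iff_val_mem_range_scalar]
  have hd := g.det_ne_zero
  rw [det_fin_two] at hd
  constructor
  · intro h
    have h1 := piGL_infty g
    have h2 := piGL_coe g 0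
    have h3 := piGL_coe g 1
    rw [h, Equiv.Perm.one_apply] at h1 h2 h3
    have e1 : g 1 0 = 0 := by
      by_contra hc
      rw [if_neg hc] at h1
      exact infty_ne_coe _ h1
    have e2 : g 1 1 ≠ 0 := fun hc => hd (by rw [e1, hc]; ring)
    rw [e1, zero_mul, zero_add, if_neg e2, coe_eq_coe] at h2 h3
    field_simp at h2 h3
    refine ⟨g 1 1, ?_⟩
    ext i j
    fin_cases i <;> fin_cases j <;> simp [e1]
    · linear_combination h3 - h2
    · linear_combination h2
  · rintro ⟨a, ha⟩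
    have e0 : g 0 0 = a := by rw [← ha]; simp
    have e1 : g 0 1 = 0 := by rw [← ha]; simp
    have e2 : g 1 0 = 0 := by rw [← ha]; simp
    have e3 : g 1 1 = a := by rw [← ha]; simp
    have ha0 : a ≠ 0 := fun hc => hd (by rw [e0, e2, hc]; ring)
    ext x
    induction x using OnePoint.rec with
    | infty => rw [piGL_infty, if_pos e2]; rfl
    | coe x => rw [piGL_coe, e0, e1, e2, e3]; simp [ha0]

theorem ker_piSL : (piSL F).ker = center SL(2, F) := by
  ext g
  rw [← SpecialLinearGroup.toGL_mem_center_iff, ← ker_piGL]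
  rfl

theorem nonempty_equiv_of_range_eq {G M X : Type*} [Group G] [Group M] [Group X] {ρ : G →* X}
    (hρ : Function.Injective ρ) {π : M →* X} (h : ρ.range = π.range) {N : Subgroup M} [N.Normal]
    (hN : π.ker = N) : Nonempty (G ≃* M ⧸ N) :=
  ⟨((MonoidHom.ofInjective hρ).trans (MulEquiv.subgroupCongr h)).trans
    ((QuotientGroup.quotientKerEquivRange π).symm.trans (QuotientGroup.quotientMulEquivOfEq hN))⟩

/-- translation -/
def gU (a : F) : GL (Fin 2) F :=
  GeneralLinearGroup.mkOfDetNeZero !![1, a; 0, 1] (by simp [det_fin_two])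

/-- homothety -/
def gD (s : Fˣ) : GL (Fin 2) F :=
  GeneralLinearGroup.mkOfDetNeZero !![s, 0; 0, 1] (by simp [det_fin_two])

/-- inversion -/
def gW (c : Fˣ) : GL (Fin 2) F :=
  GeneralLinearGroup.mkOfDetNeZero !![0, c; 1, 0] (by simp [det_fin_two])

/-- translation -/
def pU (a : F) : Equiv.Perm (OnePoint F) := piGL F (gU a)
/-- homothety -/
def pD (s : Fˣ) : Equiv.Perm (OnePoint F) := piGL F (gD s)
/-- inversion -/
def pW (c : Fˣ) : Equiv.Perm (OnePoint F) := piGL F (gW c)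

@[simp] theorem pU_infty (a : F) : pU a ∞ = ∞ := by simp [pU, piGL_infty, gU]
@[simp] theorem pU_coe (a b : F) : pU a b = ((a + b : F) : OnePoint F) := by
  simp [pU, piGL_coe, gU, add_comm]
@[simp] theorem pD_infty (s : Fˣ) : pD s ∞ = ∞ := by simp [pD, piGL_infty, gD]
@[simp] theorem pD_coe (s : Fˣ) (b : F) : pD s b = ((s * b : F) : OnePoint F) := by
  simp [pD, piGL_coe, gD]
@[simp] theorem pW_infty (c : Fˣ) : pW c ∞ = ((0 : F) : OnePoint F) := by simp [pW, piGL_infty, gW]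
@[simp] theorem pW_zero (c : Fˣ) : pW c (0 : F) = ∞ := by simp [pW, piGL_coe, gW]
theorem pW_coe (c : Fˣ) {b : F} (hb : b ≠ 0) : pW c b = ((c / b : F) : OnePoint F) := by
  simp [pW, piGL_coe, gW, hb]

/-- A rank one permutation group on the projective line with translations and homotheties. -/
structure LineGp (Γ : Subgroup (Equiv.Perm (OnePoint F))) (S : Subgroup Fˣ)
    (ω : Equiv.Perm (OnePoint F)) : Prop where
  U : ∀ a, pU a ∈ Γ
  D : ∀ s ∈ S, pD s ∈ Γ
  mem : ω ∈ Γ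
  ww : ∀ x, ω (ω x) = x
  w0 : ω ∞ = (0 : F)
  wD : ∀ s ∈ S, ∀ x, ω (pD s x) = pD s⁻¹ (ω x)
  stab : ∀ g ∈ Γ, g ∞ = ∞ → g (0 : F) = (0 : F) → ∃ s ∈ S, g = pD s

theorem pW_pW (c : Fˣ) (x : OnePoint F) : pW c (pW c x) = x := by
  induction x using OnePoint.rec with
  | infty => simp
  | coe x =>
    by_cases hx : x = 0
    · simp [hx]
    · rw [pW_coe c hx, pW_coe c (div_ne_zero c.ne_zero hx)]
      congr 1
      field_simp

theorem pW_pD (c s : Fˣ) (x : OnePoint F) : pW c (pD s x) = pD s⁻¹ (pW c x) := by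
  induction x using OnePoint.rec with
  | infty => simp
  | coe x =>
    by_cases hx : x = 0
    · simp [hx]
    · rw [pD_coe, pW_coe c hx, pW_coe c (mul_ne_zero s.ne_zero hx), pD_coe]
      congr 1
      rw [Units.val_inv_eq_inv_val]
      field_simp

theorem piGL_eq_pD {g : GL (Fin 2) F} (h1 : piGL F g ∞ = ∞) (h2 : piGL F g (0 : F) = (0 : F)) :
    g 1 0 = 0 ∧ g 0 1 = 0 ∧ ∀ s : Fˣ, s * g 1 1 = g 0 0 → piGL F g = pD s := by
  have hd := g.det_ne_zero
  rw [det_fin_two] at hd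
  rw [piGL_infty] at h1
  have e1 : g 1 0 = 0 := by
    by_contra hc
    rw [if_neg hc] at h1
    exact coe_ne_infty _ h1
  have e2 : g 1 1 ≠ 0 := fun hc => hd (by rw [e1, hc]; ring)
  rw [piGL_coe, e1, zero_mul, zero_add, if_neg e2, coe_eq_coe] at h2
  have e3 : g 0 1 = 0 := by simpa [e2] using h2
  refine ⟨e1, e3, fun s hs => ?_⟩
  ext x
  induction x using OnePoint.rec with
  | infty => rw [piGL_infty, if_pos e1, pD_infty]
  | coe x =>
    rw [piGL_coe, e1, e3, zero_mul, zero_add, if_neg e2, pD_coe, ← hs]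
    congr 1
    field_simp
    ring

theorem lineGp_GL (c : Fˣ) : LineGp (piGL F).range ⊤ (pW c) := by
  refine ⟨fun a => ⟨_, rfl⟩, fun s _ => ⟨_, rfl⟩, ⟨_, rfl⟩, pW_pW c, pW_infty c,
    fun s _ => pW_pD c s, ?_⟩
  rintro _ ⟨g, rfl⟩ h1 h2
  obtain ⟨e1, e2, e3⟩ := piGL_eq_pD h1 h2
  have hd := g.det_ne_zero
  rw [det_fin_two, e1, mul_zero, sub_zero, mul_ne_zero_iff] at hd
  exact ⟨Units.mk0 _ (div_ne_zero hd.1 hd.2), mem_top _, e3 _ (by simp [hd.2])⟩

theorem mem_range_piSL (g : GL (Fin 2) F) (r : Fˣ) (hr : r ^ 2 = g.det) :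
    piGL F g ∈ (piSL F).range := by
  have h1 : ((r⁻¹ : Fˣ) • g.val).det = 1 := by
    rw [Units.smul_def, det_smul, Fintype.card_fin, ← GeneralLinearGroup.val_det_apply, ← hr]
    simp
  let g' : SL(2, F) := ⟨_, h1⟩
  refine ⟨g', ?_⟩
  have h2 : GeneralLinearGroup.scalar (Fin 2) r ∈ (piGL F).ker := by
    rw [ker_piGL, GeneralLinearGroup.center_eq_range_scalar]
    exact ⟨r, rfl⟩
  rw [← one_mul (piSL F g'), ← MonoidHom.mem_ker.mp h2, piSL, MonoidHom.comp_apply, ← map_mul]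
  congr 1
  ext i j
  have h3 : (SpecialLinearGroup.toGL g').val = (r⁻¹ : Fˣ) • g.val := rfl
  simp [Units.smul_def, h3]

theorem lineGp_SL {c : Fˣ} (hc : -c ∈ (powMonoidHom 2 : Fˣ →* Fˣ).range) :
    LineGp (piSL F).range (powMonoidHom 2 : Fˣ →* Fˣ).range (pW c) := by
  refine ⟨fun a => mem_range_piSL _ 1 (by ext; simp [gU, det_fin_two]), ?_, ?_, pW_pW c,
    pW_infty c, fun s _ => pW_pD c s, ?_⟩
  · rintro _ ⟨r, rfl⟩
    exact mem_range_piSL _ r (by ext; simp [gD, det_fin_two])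
  · obtain ⟨r, hr⟩ := hc
    exact mem_range_piSL _ r (by
      rw [powMonoidHom_apply] at hr
      rw [hr]; ext; simp [gW, det_fin_two])
  · rintro _ ⟨g, rfl⟩ h1 h2
    obtain ⟨e1, e2, e3⟩ := piGL_eq_pD h1 h2
    have hd := g.det_coe
    rw [det_fin_two] at hd
    simp only [SpecialLinearGroup.coe_GL_coe_matrix] at e1 e2 e3
    rw [e1, mul_zero, sub_zero] at hd
    have h3 : g 0 0 ≠ 0 := left_ne_zero_of_mul_eq_one hd
    refine ⟨_, ⟨Units.mk0 _ h3, rfl⟩, e3 _ ?_⟩
    simp only [powMonoidHom_apply, Units.val_pow_eq_pow_val, Units.val_mk0]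
    linear_combination g 0 0 * hd

namespace LineGp

variable {Γ : Subgroup (Equiv.Perm (OnePoint F))} {S : Subgroup Fˣ} {ω : Equiv.Perm (OnePoint F)}
  (h : LineGp Γ S ω)
include h

theorem w0' : ω (0 : F) = ∞ := by rw [← h.w0, h.ww]

theorem stab_infty {g : Equiv.Perm (OnePoint F)} (hg : g ∈ Γ) (h1 : g ∞ = ∞) :
    ∃ a, ∃ s ∈ S, g = pU a * pD s := by
  have h2 : g (0 : F) ≠ ∞ := fun e => infty_ne_coe _ (g.injective (h1.trans e.symm))
  obtain ⟨a, ha⟩ := ne_infty_iff_exists.mp h2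
  obtain ⟨s, hs, e⟩ := h.stab _ (Γ.mul_mem (Γ.inv_mem (h.U a)) hg)
    (by rw [Equiv.Perm.mul_apply, h1, Equiv.Perm.inv_eq_iff_eq, pU_infty])
    (by rw [Equiv.Perm.mul_apply, ← ha, Equiv.Perm.inv_eq_iff_eq, pU_coe, add_zero])
  exact ⟨a, s, hs, by rw [← e, mul_inv_cancel_left]⟩

theorem bruhat {g : Equiv.Perm (OnePoint F)} (hg : g ∈ Γ) {a : F} (h1 : g ∞ = a) :
    ∃ b, ∃ s ∈ S, g = pU a * ω * pU b * pD s := by
  obtain ⟨b, s, hs, e⟩ := h.stab_infty (Γ.mul_mem (Γ.inv_mem (Γ.mul_mem (h.U a) h.mem)) hg)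
    (by rw [Equiv.Perm.mul_apply, h1, Equiv.Perm.inv_eq_iff_eq, Equiv.Perm.mul_apply, h.w0,
      pU_coe, add_zero])
  exact ⟨b, s, hs, by rw [mul_assoc (pU a * ω), ← e, mul_inv_cancel_left]⟩

theorem le_of {Δ : Subgroup (Equiv.Perm (OnePoint F))} (hU : ∀ a, pU a ∈ Δ)
    (hD : ∀ s ∈ S, pD s ∈ Δ) (hw : ω ∈ Δ) : Γ ≤ Δ := by
  intro g hg
  by_cases h1 : g ∞ = ∞
  · obtain ⟨a, s, hs, rfl⟩ := h.stab_infty hg h1
    exact Δ.mul_mem (hU a) (hD s hs)
  · obtain ⟨a, ha⟩ := ne_infty_iff_exists.mp h1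
    obtain ⟨b, s, hs, rfl⟩ := h.bruhat hg ha.symm
    exact Δ.mul_mem (Δ.mul_mem (Δ.mul_mem (hU a) hw) (hU b)) (hD s hs)

theorem exists_fun : ∃ f : F → F, ∀ x, x ≠ 0 → f x ≠ 0 ∧ ω x = (f x : F) := by
  have : ∀ x : F, ∃ y : F, x ≠ 0 → y ≠ 0 ∧ ω x = y := fun x => by
    by_cases hx : x = 0
    · exact ⟨0, fun e => absurd hx e⟩
    · have h2 : ω x ≠ ∞ := fun e => hx (coe_eq_coe.mp (ω.injective (e.trans h.w0'.symm)))
      obtain ⟨y, hy⟩ := ne_infty_iff_exists.mp h2
      refine ⟨y, fun _ => ⟨?_, hy.symm⟩⟩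
      rintro rfl
      exact infty_ne_coe x (ω.injective (h.w0.trans hy))
  choose f hf using this
  exact ⟨f, hf⟩

/-- the structure equation -/
theorem structure_eq {f : F → F} (hf : ∀ x, x ≠ 0 → f x ≠ 0 ∧ ω x = (f x : F)) {a : F}
    (ha : a ≠ 0) : ∃ s ∈ S, (∀ y, y ≠ 0 → y + a ≠ 0 → f y - f (-a) ≠ 0 ∧
      f (y + a) = f a + s * f (f y - f (-a))) ∧ f a + s * f (-f (-a)) = 0 := by
  have hg : ω * pU a * ω ∈ Γ := Γ.mul_mem (Γ.mul_mem h.mem (h.U a)) h.mem
  obtain ⟨b, s, hs, e⟩ := h.bruhat hg (a := f a) (by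
    rw [Equiv.Perm.mul_apply, Equiv.Perm.mul_apply, h.w0, pU_coe, add_zero, (hf a ha).2])
  have e' : ∀ x : F, ω (pU a (ω x)) = pU (f a) (pD s⁻¹ (ω ((x + s⁻¹ * b : F) : OnePoint F))) := by
    intro x
    have := congrArg (fun g => g (x : OnePoint F)) e
    simp only [Equiv.Perm.mul_apply] at this
    rw [this, ← h.wD s hs, pD_coe, pD_coe, pU_coe]
    congr 3
    rw [mul_add, Units.mul_inv_cancel_left, add_comm]
  have hna : -a ≠ 0 := neg_ne_zero.mpr ha
  have hb : (s⁻¹ : Fˣ) * b = -f (-a) := by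
    have := e' (f (-a))
    rw [← (hf _ hna).2, h.ww, pU_coe, add_neg_cancel, h.w0'] at this
    by_contra hc
    have h3 : f (-a) + (s⁻¹ : Fˣ) * b ≠ 0 := fun e => hc (by linear_combination e)
    rw [(hf _ h3).2, pD_coe, pU_coe] at this
    exact infty_ne_coe _ this
  rw [hb] at e'
  refine ⟨s⁻¹, S.inv_mem hs, fun y hy hya => ?_, ?_⟩
  · have := e' (f y)
    rw [← (hf y hy).2, h.ww, pU_coe, add_comm a y, (hf _ hya).2] at this
    have h3 : f y + -f (-a) ≠ 0 := fun e => by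
      rw [e, h.w0', pD_infty, pU_infty] at this
      exact coe_ne_infty _ this
    rw [(hf _ h3).2, pD_coe, pU_coe, coe_eq_coe] at this
    exact ⟨by rwa [sub_eq_add_neg], by rw [this, sub_eq_add_neg]⟩
  · have := e' 0
    rw [h.w0', pU_infty, h.w0, zero_add, (hf _ (neg_ne_zero.mpr (hf _ hna).1)).2, pD_coe, pU_coe,
      coe_eq_coe] at this
    exact this.symm

theorem f_f {f : F → F} (hf : ∀ x, x ≠ 0 → f x ≠ 0 ∧ ω x = (f x : F)) {x : F} (hx : x ≠ 0) :
    f (f x) = x := by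
  have := h.ww x
  rw [(hf x hx).2, (hf _ (hf x hx).1).2, coe_eq_coe] at this
  exact this

theorem f_mul {f : F → F} (hf : ∀ x, x ≠ 0 → f x ≠ 0 ∧ ω x = (f x : F)) {s : Fˣ} (hs : s ∈ S)
    {x : F} (hx : x ≠ 0) : s * f (s * x) = f x := by
  have := h.wD s hs x
  rw [pD_coe, (hf x hx).2, (hf _ (mul_ne_zero s.ne_zero hx)).2, pD_coe, coe_eq_coe] at this
  rw [this]
  simp

theorem eq_pW_of_const {f : F → F} (hf : ∀ x, x ≠ 0 → f x ≠ 0 ∧ ω x = (f x : F))
    (hc : ∀ x, x ≠ 0 → x * f x = f 1) :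
    ∃ c : Fˣ, ω = pW c ∧ -c ∈ S := by
  have h1 := (hf 1 one_ne_zero).1
  have hf' : ∀ x, x ≠ 0 → f x = f 1 / x := fun x hx => by rw [← hc x hx]; field_simp
  refine ⟨Units.mk0 _ h1, ?_, ?_⟩
  · ext x
    induction x using OnePoint.rec with
    | infty => rw [h.w0, pW_infty]
    | coe x =>
      by_cases hx : x = 0
      · rw [hx, h.w0', pW_zero]
      · rw [pW_coe _ hx, (hf x hx).2, hf' x hx]; rfl
  · obtain ⟨s, hs, -, e⟩ := h.structure_eq hf one_ne_zero
    rw [hf' (-1) (by simp), hf' (-(f 1 / -1)) (by simpa using h1)] at e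
    field_simp at e
    convert hs using 1
    ext
    simp only [Units.val_neg, Units.val_mk0]
    linear_combination -e

theorem const_of_top {f : F → F} (hf : ∀ x, x ≠ 0 → f x ≠ 0 ∧ ω x = (f x : F)) (hS : S = ⊤)
    (x : F) (hx : x ≠ 0) : x * f x = f 1 := by
  have := h.f_mul hf (s := Units.mk0 x hx) (hS ▸ mem_top _) one_ne_zero
  simpa using this

theorem const_of_index_two [Finite F] {f : F → F}
    (hf : ∀ x, x ≠ 0 → f x ≠ 0 ∧ ω x = (f x : F)) (hS : S.index = 2)
    (x : F) (hx : x ≠ 0) : x * f x = f 1 := by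
  classical
  by_contra hne
  let M : F → Prop := fun y => ∃ s ∈ S, (s : F) = y
  have M1 : ∀ {y z}, M y → M z → M (y * z) := by
    rintro _ _ ⟨s, hs, rfl⟩ ⟨u, hu, rfl⟩
    exact ⟨s * u, S.mul_mem hs hu, rfl⟩
  have M2 : ∀ {y}, M y → M y⁻¹ := by
    rintro _ ⟨s, hs, rfl⟩
    exact ⟨s⁻¹, S.inv_mem hs, by simp⟩
  have M0 : ∀ {y}, M y → y ≠ 0 := by
    rintro _ ⟨s, -, rfl⟩
    exact s.ne_zero
  have M3 : ∀ {y z}, y ≠ 0 → z ≠ 0 → ¬ M y → ¬ M z → M (y * z) := by
    intro y z hy hz h1 h2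
    refine ⟨Units.mk0 y hy * Units.mk0 z hz, ?_, rfl⟩
    rw [Subgroup.mul_mem_iff_of_index_two hS]
    exact iff_of_false (fun e => h1 ⟨_, e, rfl⟩) (fun e => h2 ⟨_, e, rfl⟩)
  have Msq : ∀ {y}, y ≠ 0 → M (y * y) := fun {y} hy => by
    by_cases e : M y
    exacts [M1 e e, M3 hy hy e e]
  have c1 : ∀ {s y}, M s → y ≠ 0 → s * y * f (s * y) = y * f y := by
    rintro _ y ⟨s, hs, rfl⟩ hy
    rw [← h.f_mul hf hs hy]; ring
  have c2 : ∀ {y}, M y → y * f y = f 1 := fun hy => by simpa using c1 hy one_ne_zero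
  have c3 : ∀ {y}, y ≠ 0 → y * f y = f 1 → M y := by
    intro y hy e
    by_contra hc
    have h1 : ¬ M x := fun e => hne (c2 e)
    have h2 := c1 (M1 (M3 hx hy h1 hc) (M2 (Msq hy))) hy
    rw [show x * y * (y * y)⁻¹ * y = x by field_simp] at h2
    exact hne (h2.trans e)
  have Mone : M 1 := ⟨1, S.one_mem, rfl⟩
  have c4 : ∀ {y}, M y → M (f y) := fun {y} hy =>
    c3 (hf y (M0 hy)).1 (by rw [h.f_f hf (M0 hy), mul_comm, c2 hy])
  have c5 : M (f 1) := c4 Mone
  have hf1 := M0 c5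
  have hneg : M (-1) := by
    obtain ⟨s, hs, -, e⟩ := h.structure_eq hf one_ne_zero
    have h1 := (hf (-1) (by simp)).1
    have h2 : M (-f (-1)) := by
      by_contra hc
      by_cases h3 : M (-1)
      · exact hc (by simpa using M1 h3 (c4 h3))
      · have h4 : ¬ M (f (-1)) := fun e => h3 (by simpa [h.f_f hf] using c4 e)
        exact hc (by simpa using M3 (by simp) h1 h3 h4)
    have h3 := M1 ⟨s, hs, rfl⟩ (c4 h2)
    rw [show (s : F) * f (-f (-1)) = -1 * f 1 by linear_combination e] at h3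
    simpa [hf1] using M1 h3 (M2 c5)
  have c6 : ∀ {y}, M y → f y = f 1 / y := fun {y} hy => by
    rw [← c2 hy]; field_simp [M0 hy]
  have hadd : ∀ {a y}, M a → M y → y + a ≠ 0 → M (y + a) := by
    intro a y ha hy hya
    have ha0 := M0 ha
    have hy0 := M0 hy
    have key : ∀ {a y}, M a → M y → y + a ≠ 0 →
        f (y + a) = f 1 / a - f 1 / a ^ 2 * f (f 1 / y + f 1 / a) := by
      intro a y ha hy hya
      have ha0 := M0 ha
      obtain ⟨s, hs, e1, e2⟩ := h.structure_eq hf ha0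
      have h1 : M (-a) := by simpa using M1 hneg ha
      have h2 : -f (-a) = f a := by rw [c6 h1, c6 ha]; field_simp
      rw [h2, h.f_f hf ha0] at e2
      have h3 := (e1 y (M0 hy) hya).2
      rw [sub_eq_add_neg, h2, c6 ha, c6 hy] at h3
      rw [c6 ha] at e2
      have h4 : (s : F) = -(f 1 / a ^ 2) := by
        field_simp at e2 ⊢
        linear_combination e2
      rw [h3, h4]
      ring
    apply c3 hya
    by_cases hay : a = y
    · subst hay
      have h1 := key ha ha hya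
      have h2 : f 1 / a + f 1 / a = f 1 * (a * a)⁻¹ * (a + a) := by field_simp
      have h3 := c1 (M1 c5 (M2 (Msq ha0))) hya
      rw [← h2] at h3
      have h4 : (2 : F) ≠ 0 := fun e => hya (by linear_combination a * e)
      rw [h1] at h3 ⊢
      generalize f (f 1 / a + f 1 / a) = u at h3 ⊢
      have h5 : 2 * u = a := by
        field_simp at h3
        apply mul_left_cancel₀ h4
        linear_combination h3
      field_simp
      linear_combination -h5
    · have h1 := key ha hy hya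
      have h2 := key hy ha (by rwa [add_comm])
      rw [add_comm a y, add_comm (f 1 / a), h1] at h2
      have h3 : a - y ≠ 0 := sub_ne_zero.mpr hay
      rw [h1]
      generalize f (f 1 / y + f 1 / a) = u at h2 ⊢
      have h4 : u * (y + a) = a * y := by
        apply mul_left_cancel₀ h3
        field_simp at h2
        linear_combination h2
      field_simp
      linear_combination -h4
  let A : AddSubgroup F :=
    { carrier := {y | y = 0 ∨ M y}
      zero_mem' := Or.inl rfl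
      add_mem' := by
        rintro a b (rfl | ha) (rfl | hb)
        · exact Or.inl (add_zero _)
        · exact Or.inr (by rwa [zero_add])
        · exact Or.inr (by rwa [add_zero])
        · by_cases e : a + b = 0
          exacts [Or.inl e, Or.inr (hadd hb ha e)]
      neg_mem' := by
        rintro a (rfl | ha)
        · exact Or.inl neg_zero
        · exact Or.inr (by simpa using M1 hneg ha) }
  have h1 : Nat.card A = Nat.card S + 1 := by
    have : (A : Set F) = insert 0 ((fun s : Fˣ => (s : F)) '' S) := rfl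
    rw [← SetLike.coe_sort_coe, Nat.card_coe_set_eq, this, Set.ncard_insert_of_notMem
      (by rintro ⟨s, -, e⟩; exact s.ne_zero e), Set.ncard_image_of_injective _ Units.val_injective]
    rfl
  have h2 := A.card_addSubgroup_dvd_card
  have h3 := S.card_mul_index
  rw [hS, Nat.card_units] at h3
  have h4 : 1 < Nat.card F := Finite.one_lt_card
  have h5 : 0 < Nat.card S := Nat.card_pos
  rw [h1, show Nat.card F = 2 * Nat.card S + 1 by omega] at h2
  have h6 : Nat.card S + 1 ∣ 1 := by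
    have := (Nat.dvd_sub (Dvd.intro_left 2 rfl) h2)
    rwa [show 2 * (Nat.card S + 1) - (2 * Nat.card S + 1) = 1 by omega] at this
  have := Nat.le_of_dvd one_pos h6
  omega

theorem eq_range_piGL (hS : S = ⊤) : Γ = (piGL F).range := by
  obtain ⟨f, hf⟩ := h.exists_fun
  obtain ⟨c, rfl, -⟩ := h.eq_pW_of_const hf (h.const_of_top hf hS)
  refine le_antisymm (h.le_of (fun a => ⟨_, rfl⟩) (fun s _ => ⟨_, rfl⟩) ⟨_, rfl⟩) ?_
  exact (lineGp_GL c).le_of h.U (fun s _ => h.D s (hS ▸ mem_top _)) h.mem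

theorem eq_range_piSL [Finite F] (hS : S.index = 2) : Γ = (piSL F).range := by
  obtain ⟨f, hf⟩ := h.exists_fun
  obtain ⟨c, rfl, hc⟩ := h.eq_pW_of_const hf (h.const_of_index_two hf hS)
  have h1 : ∀ s, s ∈ S ↔ s ∈ (powMonoidHom 2 : Fˣ →* Fˣ).range := by
    have h2 : (powMonoidHom 2 : Fˣ →* Fˣ).range ≤ S := by
      rintro _ ⟨s, rfl⟩
      exact sq_mem_of_index_two hS s
    have h3 : (powMonoidHom 2 : Fˣ →* Fˣ).range.index ≤ 2 := by
      rw [IsCyclic.index_powMonoidHom_range]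
      exact Nat.le_of_dvd two_pos (Nat.gcd_dvd_right _ _)
    have h4 : (powMonoidHom 2 : Fˣ →* Fˣ).range = S := by
      have h5 := relIndex_mul_index h2
      have h6 : (powMonoidHom 2 : Fˣ →* Fˣ).range.index ≠ 0 := index_ne_zero_of_finite
      rw [hS] at h5
      exact le_antisymm h2 (relIndex_eq_one.mp (by omega))
    intro s
    rw [h4]
  have h2 := lineGp_SL ((h1 _).mp hc)
  exact le_antisymm (h.le_of h2.U (fun s hs => h2.D s ((h1 s).mp hs)) h2.mem)
    (h2.le_of h.U (fun s hs => h.D s ((h1 s).mpr hs)) h.mem)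

end LineGp

end line

end CfsgLib.BSW
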