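import Cfsg.Agent.Lib.BSW.ClsA
import Cfsg.Agent.Lib.H5SL2Tori

/-! Centralizers in `PSL₂(q)`. -/

namespace CfsgLib.BSW

open Subgroup Matrix MatrixGroups CfsgLib.H1 CfsgLib.H5

variable {F : Type*} [Field F]

/-- The projection `SL₂ → PSL₂`. -/
abbrev piP (F : Type*) [Field F] : SL(2, F) →* ProjectiveSpecialLinearGroup (Fin 2) F :=
  QuotientGroup.mk' (center SL(2, F))

theorem piP_surj : Function.Surjective (piP F) := QuotientGroup.mk'_surjective _

theorem piP_eq_one {g : SL(2, F)} : piP F g = 1 ↔ g ∈ center SL(2, F) :=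
  QuotientGroup.eq_one_iff g

theorem piP_eq_iff {g h : SL(2, F)} : piP F g = piP F h ↔ g = h ∨ g = -h := by
  rw [← mul_inv_eq_one, ← map_inv, ← map_mul, piP_eq_one, SL2_mem_center_iff', mul_inv_eq_one,
    mul_inv_eq_iff_eq_mul, neg_mul, one_mul]

theorem SL2_neg_apply (g : SL(2, F)) (i j : Fin 2) : (-g) i j = -g i j := rfl

theorem piP_neg (g : SL(2, F)) : piP F (-g) = piP F g := piP_eq_iff.mpr (Or.inr rfl)

theorem piP_comm_iff {g c : SL(2, F)} :
    piP F g * piP F c = piP F c * piP F g ↔ g * c * g⁻¹ = c ∨ g * c * g⁻¹ = -c := by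
  rw [← mul_inv_eq_iff_eq_mul, ← map_inv, ← map_mul, ← map_mul, piP_eq_iff]

theorem cent_piP {c : SL(2, F)} (h : c 0 0 + c 1 1 ≠ 0 ∨ (2 : F) = 0) :
    centralizer {piP F c} = (centralizer {c}).map (piP F) := by
  ext x
  obtain ⟨g, rfl⟩ := piP_surj x
  rw [mem_cent, piP_comm_iff]
  constructor
  · rintro (e | e)
    · exact ⟨g, mem_cent.mpr (mul_inv_eq_iff_eq_mul.mp e), rfl⟩
    · refine ⟨g, mem_cent.mpr (mul_inv_eq_iff_eq_mul.mp (e.trans (Eq.symm ?_))), rfl⟩
      have h2 : (2 : F) = 0 := h.elim (fun h0 => by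
        have h1 := SL2_trace_conj g c
        rw [e, SL2_neg_apply, SL2_neg_apply] at h1
        exact (mul_eq_zero.mp (by linear_combination -h1 :
          2 * (c 0 0 + c 1 1) = 0)).resolve_right h0) id
      apply SL2_ext <;> rw [SL2_neg_apply, eq_neg_iff_add_eq_zero, ← two_mul, h2, zero_mul]
  · rintro ⟨g', hg', e⟩
    rw [← piP_comm_iff, ← e, ← map_mul, ← map_mul, mem_cent.mp hg']

theorem card_map_cent_dvd [Finite F] {c : SL(2, F)} (h : c 0 0 + c 1 1 = 2)
    (hc : c ∉ center SL(2, F)) : Nat.card ((centralizer {c}).map (piP F)) ∣ Nat.card F := by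
  have hd := SL2_det c
  let u : F → SL(2, F) := fun b => ⟨!![1 + b * (c 0 0 - 1), b * c 0 1; b * c 1 0,
    1 + b * (c 1 1 - 1)], by
      rw [det_fin_two_of]; linear_combination (b - b ^ 2) * h + b ^ 2 * hd⟩
  have u00 : ∀ b, u b 0 0 = 1 + b * (c 0 0 - 1) := fun b => rfl
  have u01 : ∀ b, u b 0 1 = b * c 0 1 := fun b => rfl
  have u10 : ∀ b, u b 1 0 = b * c 1 0 := fun b => rfl
  have u11 : ∀ b, u b 1 1 = 1 + b * (c 1 1 - 1) := fun b => rfl
  let f : Multiplicative F →* SL(2, F) := MonoidHom.mk' (fun b => u b.toAdd) fun a b => by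
    apply SL2_ext <;> simp only [SL2_mul_apply, u00, u01, u10, u11, toAdd_mul]
    · linear_combination (-a.toAdd * b.toAdd * c 0 0) * h +
        a.toAdd * b.toAdd * hd
    · linear_combination (-a.toAdd * b.toAdd * c 0 1) * h
    · linear_combination (-a.toAdd * b.toAdd * c 1 0) * h
    · linear_combination (-a.toAdd * b.toAdd * c 1 1) * h +
        a.toAdd * b.toAdd * hd
  refine (card_dvd_of_le (K := ((piP F).comp f).range) ?_).trans (card_range_dvd _)
  rintro _ ⟨g, hg, rfl⟩
  obtain ⟨a, b, h1, h2, h3, h4⟩ := SL2_exists_lin hc (mem_cent.mp hg).symm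
  have hg' := SL2_det g
  rw [h1, h2, h3, h4] at hg'
  have h5 : (a + b) * (a + b) = 1 := by
    linear_combination hg' - a * b * h - b ^ 2 * hd
  refine ⟨Multiplicative.ofAdd ((a + b) * b), piP_eq_iff.mpr ?_⟩
  change u ((a + b) * b) = g ∨ u ((a + b) * b) = -g
  rcases mul_self_eq_one_iff.mp h5 with e | e
  · left
    apply SL2_ext <;> simp only [u00, u01, u10, u11, h1, h2, h3, h4, e]
    · linear_combination -e
    · ring
    · ring
    · linear_combination -e
  · right
    apply SL2_ext <;> simp only [u00, u01, u10, u11, SL2_neg_apply, h1, h2, h3, h4, e]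
    · linear_combination e
    · ring
    · ring
    · linear_combination e

theorem SL2_sq_of_trace_zero {c : SL(2, F)} (h : c 0 0 + c 1 1 = 0) : c * c = -1 := by
  have hd := SL2_det c
  apply SL2_ext <;> simp [SL2_mul_apply]
  · linear_combination c 0 0 * h - hd
  · linear_combination c 0 1 * h
  · linear_combination c 1 0 * h
  · linear_combination c 1 1 * h - hd

end CfsgLib.BSW
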