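import Cfsg.Agent.Lib.BSW.AllTI
import Cfsg.Agent.Lib.FrobeniusPComplement
import Cfsg.Agent.Lib.FrobZGroup

/-! Simple groups all of whose non-abelian subgroups are self-normalizing have abelian
centralizers. -/

namespace CfsgLib.BSW

open Subgroup Cfsg CfsgLib.Frob CfsgLib.PCompl
open scoped commutatorElement

variable {G : Type*} [Group G]

/-- Transfer into an abelian Sylow subgroup. -/
theorem eq_one_of_mem_commutator_of_abelian_sylow [Finite G] {p : ℕ} [hp : Fact p.Prime]
    (P : Sylow p G) (hP : IsMulCommutative P) {x : G} (hx : x ∈ (P : Subgroup G))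
    (hN : ∀ n ∈ normalizer ((P : Subgroup G) : Set G), n * x = x * n)
    (hc : x ∈ commutator G) : x = 1 := by
  letI : CommGroup P := { (inferInstance : Group P) with mul_comm := hP.is_comm.comm }
  have key : ∀ (k : ℕ) (g₀ : G), g₀⁻¹ * x ^ k * g₀ ∈ (P : Subgroup G) →
      g₀⁻¹ * x ^ k * g₀ = x ^ k := by
    intro k g hg
    obtain ⟨n, hn, e⟩ := P.conj_eq_normalizer_conj_of_mem (x ^ k) g (pow_mem hx k) hg
    have := (Commute.pow_right (hN n hn) k).eq
    rw [e, mul_assoc, ← this]; group
  have h1 := MonoidHom.transfer_eq_pow (MonoidHom.id P) x key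
  have h2 := Abelianization.commutator_subset_ker (MonoidHom.transfer (MonoidHom.id P)) hc
  rw [MonoidHom.mem_ker, h1] at h2
  have h3 : x ^ (P : Subgroup G).index = 1 := congrArg Subtype.val h2
  obtain ⟨j, hj⟩ := orderOf_eq_pow_of_mem_isPGroup P.isPGroup' hx
  have h4 := orderOf_dvd_of_pow_eq_one h3
  have h5 : (orderOf x).Coprime (P : Subgroup G).index := by
    rw [hj]
    exact Nat.Coprime.pow_left _ ((Nat.Prime.coprime_iff_not_dvd hp.out).mpr P.not_dvd_index)
  exact orderOf_eq_one_iff.mp (h5.eq_one_of_dvd h4)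

theorem zpowers_eq_top_of_forall_selfNormalizing [Finite G]
    (h : ∀ X : Subgroup G, X ≠ ⊥ → normalizer (X : Set G) ≤ X) {a : G} {p : ℕ} (hp : p.Prime)
    (ha : orderOf a = p) : zpowers a = ⊤ := by
  by_contra hne
  have ha1 : a ≠ 1 := by rintro rfl; exact hp.one_lt.ne (by simpa using ha)
  have hb : zpowers a ≠ ⊥ := by rwa [Ne, zpowers_eq_bot]
  have hF : IsFrobeniusComplement (zpowers a) := by
    rw [isFrobeniusComplement_iff]
    refine ⟨hb, hne, fun g hg y hy hc => ?_⟩
    by_contra hy1
    apply hg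
    apply h _ hb
    refine mem_normalizer_of_conj_mem fun w hw => ?_
    have h1 := zpowers_le.mpr (mem_zpowers_of_mem_zpowers_of_prime hp ha hy hy1) hw
    obtain ⟨i, rfl⟩ := mem_zpowers_iff.mp h1
    rw [← conj_zpow]
    exact zpow_mem hc i
  obtain ⟨K, hK⟩ := hF.exists_isFrobeniusPair
  haveI := hK.normal
  have := h K hK.ker_ne_bot
  rw [normalizer_eq_top] at this
  exact hK.isFrobeniusKernel.ne_top (top_le_iff.mp this)

/-- Every non-abelian subgroup is self-normalizing. -/
def SN (G : Type*) [Group G] : Prop :=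
  ∀ H : Subgroup G, ¬ IsMulCommutative H → normalizer (H : Set G) = H

theorem isMulCommutative_iff' {H : Subgroup G} :
    IsMulCommutative H ↔ ∀ a ∈ H, ∀ b ∈ H, a * b = b * a :=
  ⟨fun h a ha b hb => congrArg Subtype.val (h.is_comm.comm ⟨a, ha⟩ ⟨b, hb⟩),
    fun h => ⟨⟨fun a b => Subtype.ext (h a a.2 b b.2)⟩⟩⟩

theorem SN.of_injective (h : SN G) {H : Type*} [Group H] (f : H →* G)
    (hf : Function.Injective f) : SN H := by
  intro X hX
  refine le_antisymm (fun g hg => ?_) le_normalizer
  have h1 : ¬ IsMulCommutative (X.map f) := by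
    intro hc
    apply hX
    rw [isMulCommutative_iff'] at hc ⊢
    intro a ha b hb
    apply hf
    rw [map_mul, map_mul]
    exact hc _ (mem_map_of_mem f ha) _ (mem_map_of_mem f hb)
  have h2 : f g ∈ normalizer ((X.map f : Subgroup G) : Set G) :=
    le_normalizer_map f (mem_map_of_mem f hg)
  rw [h _ h1] at h2
  exact (mem_map_iff_mem hf).mp h2

theorem SN.mem_centralizer [Finite G] (h : SN G) {Q : Subgroup G} (hQ : IsMulCommutative Q)
    {p : ℕ} (hp : p.Prime) {g : G} (hg : g ∈ normalizer (Q : Set G))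
    (hgp : (orderOf g).Coprime p) (hgc : g ∉ centralizer (Q : Set G)) {u : G}
    (hu : u ∈ normalizer (Q : Set G)) {k : ℕ} (hk : orderOf u = p ^ k) :
    u ∈ centralizer (Q : Set G) := by
  set N := normalizer (Q : Set G)
  set C := (centralizer (Q : Set G)).subgroupOf N
  have hQC : Q ≤ centralizer (Q : Set G) := le_centralizer Q
  have hA : ∀ X : Subgroup (N ⧸ C), X ≠ ⊥ → normalizer (X : Set (N ⧸ C)) ≤ X := by
    intro X hX a ha
    obtain ⟨n, rfl⟩ := QuotientGroup.mk_surjective a
    let X' : Subgroup G := (X.comap (QuotientGroup.mk' C)).map N.subtype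
    have hX' : ¬ IsMulCommutative X' := by
      intro hc
      rw [isMulCommutative_iff'] at hc
      apply hX
      rw [eq_bot_iff]
      intro b hb
      obtain ⟨m, rfl⟩ := QuotientGroup.mk_surjective b
      rw [mem_bot, QuotientGroup.eq_one_iff, mem_subgroupOf, mem_centralizer_iff]
      intro y hy
      refine hc y ⟨⟨y, le_normalizer hy⟩, ?_, rfl⟩ m ⟨m, hb, rfl⟩
      change ((⟨y, le_normalizer hy⟩ : N) : N ⧸ C) ∈ X
      rw [(QuotientGroup.eq_one_iff _).mpr (show (⟨y, le_normalizer hy⟩ : N) ∈ C from hQC hy)]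
      exact one_mem X
    have h2 : (n : G) ∈ normalizer (X' : Set G) :=
      le_normalizer_map N.subtype (mem_map_of_mem _ (le_normalizer_comap _ ha))
    rw [h _ hX'] at h2
    exact (mem_map_iff_mem (f := N.subtype) N.subtype_injective).mp h2
  by_contra hne
  have h1 : ((⟨u, hu⟩ : N) : N ⧸ C) ≠ 1 := fun e =>
    hne ((QuotientGroup.eq_one_iff (N := C) (⟨u, hu⟩ : N)).mp e)
  have h2 : orderOf ((⟨u, hu⟩ : N) : N ⧸ C) ∣ p ^ k := by
    rw [← hk, ← orderOf_mk u hu]
    exact orderOf_map_dvd (QuotientGroup.mk' C) _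
  obtain ⟨j, -, hj⟩ := (Nat.dvd_prime_pow hp).mp h2
  have hj0 : j ≠ 0 := by
    rintro rfl
    exact h1 (orderOf_eq_one_iff.mp (by simpa using hj))
  haveI := Fact.mk hp
  obtain ⟨a, ha⟩ := exists_prime_orderOf_dvd_card' (G := N ⧸ C) p
    ((hj ▸ dvd_pow_self p hj0).trans (orderOf_dvd_natCard _))
  have h3 := zpowers_eq_top_of_forall_selfNormalizing hA hp ha
  have h4 : orderOf ((⟨g, hg⟩ : N) : N ⧸ C) ∣ p := by
    rw [← ha]
    exact orderOf_dvd_of_mem_zpowers (by rw [h3]; trivial)
  have h5 : orderOf ((⟨g, hg⟩ : N) : N ⧸ C) ∣ orderOf g := by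
    rw [← orderOf_mk g hg]
    exact orderOf_map_dvd (QuotientGroup.mk' C) _
  have h6 := (Nat.Coprime.coprime_dvd_left h5 hgp).eq_one_of_dvd h4
  exact hgc ((QuotientGroup.eq_one_iff (N := C) (⟨g, hg⟩ : N)).mp (orderOf_eq_one_iff.mp h6))

theorem SN.hnpc_of_not_comm [Finite G] (h : SN G) {p : ℕ} [hp : Fact p.Prime] (P : Sylow p G)
    (hP : ¬ IsMulCommutative P) : HasNormalPComplement p G := by
  by_contra hn
  obtain ⟨H, g, q, k, hH, -, hg, hq, hqp, hk, hgc⟩ := FrobNPC.exists_not_centralizes_of_not_hnpc hn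
  let 𝒮 : Set (Subgroup G) := {H | IsPGroup p H ∧ ∃ g ∈ normalizer (H : Set G),
    (orderOf g).Coprime p ∧ g ∉ centralizer (H : Set G)}
  have hne : 𝒮.Nonempty := ⟨H, hH, g, hg, by
    rw [hk]; exact Nat.Coprime.pow_left _ ((Nat.coprime_primes hq hp.out).mpr hqp), hgc⟩
  obtain ⟨Q, ⟨hQ, g, hg, hgp, hgc⟩, hmax⟩ := (Set.toFinite 𝒮).exists_maximal hne
  have hQc : IsMulCommutative Q := by
    by_contra hc
    rw [h Q hc] at hg
    obtain ⟨j, hj⟩ := orderOf_eq_pow_of_mem_isPGroup hQ hg
    have : orderOf g = 1 := by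
      rw [hj] at hgp ⊢
      rcases Nat.eq_zero_or_pos j with rfl | hj0
      · simp
      · exact absurd ((Nat.coprime_pow_left_iff hj0 _ _).mp hgp)
          (by simpa using hp.out.one_lt.ne')
    rw [orderOf_eq_one_iff] at this
    exact hgc (this ▸ one_mem _)
  obtain ⟨S, hQS, hS⟩ := IsSylowIn.exists_ge hQ (le_normalizer (H := Q))
  have hSC : S ≤ centralizer (Q : Set G) := fun u hu => by
    obtain ⟨j, hj⟩ := orderOf_eq_pow_of_mem_isPGroup hS.isPGroup hu
    exact h.mem_centralizer hQc hp.out hg hgp hgc (hS.le hu) hj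
  have hne' : ¬ S ≤ Q := by
    intro hle
    obtain ⟨P', hP'⟩ := hQ.exists_le_sylow
    have hlt : Q < P' := by
      refine lt_of_le_of_ne hP' fun e => hP ?_
      obtain ⟨e'⟩ : Nonempty (P ≃* P') := ⟨Sylow.equiv P P'⟩
      rw [e] at hQc
      exact ⟨⟨fun a b => e'.injective (by rw [map_mul, map_mul, hQc.is_comm.comm])⟩⟩
    have h1 := lt_inf_normalizer_of_isPGroup P'.isPGroup' hlt
    have h2 := hS.eq_of_le (T := (P' : Subgroup G) ⊓ normalizer (Q : Set G))
      (P'.isPGroup'.to_inf_left) (hle.trans h1.le) inf_le_right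
    exact h1.not_ge (h2.le.trans hle)
  have hS' := hS.mono hSC (centralizer_le_normalizer _)
  obtain ⟨c, hc, hn⟩ := hS'.frattini_elem (FrobNPC.normalizer_le_normalizer_centralizer Q hg)
  obtain ⟨u, hu, v, hv, e, -, ⟨j, hj⟩, hvp⟩ := exists_p_part hp.out (c * g)
  have hcg : c * g ∈ normalizer (Q : Set G) := mul_mem (centralizer_le_normalizer _ hc) hg
  have huC := h.mem_centralizer hQc hp.out hg hgp hgc (zpowers_le.mpr hcg hu) hj
  refine hne' (hmax ⟨hS.isPGroup, v, zpowers_le.mpr hn hv, hvp, fun hvc => hgc ?_⟩ hQS)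
  have := mul_mem (inv_mem hc) (mul_mem huC (centralizer_le hQS hvc))
  rwa [← e, inv_mul_cancel_left] at this

theorem commutator_eq_top_of_simple [IsSimpleGroup G] (hna : ¬ IsMulCommutative G) :
    commutator G = ⊤ := by
  refine (IsSimpleGroup.eq_bot_or_eq_top_of_normal _ inferInstance).resolve_left fun e => hna ?_
  refine ⟨⟨fun a b => ?_⟩⟩
  have : ⁅a, b⁆ ∈ commutator G := commutator_mem_commutator (mem_top a) (mem_top b)
  rw [e, mem_bot] at this
  exact commutatorElement_eq_one_iff_mul_comm.mp this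

theorem not_isSolvable_of_simple [IsSimpleGroup G] (hna : ¬ IsMulCommutative G) :
    ¬ Group.IsSolvable G := fun h =>
  hna ⟨⟨IsSimpleGroup.comm_iff_isSolvable.mpr h⟩⟩

theorem SN.sylow_comm [Finite G] [IsSimpleGroup G] (hna : ¬ IsMulCommutative G) (h : SN G)
    {p : ℕ} [hp : Fact p.Prime] (P : Sylow p G) : IsMulCommutative P := by
  by_contra hP
  obtain ⟨N, hN, hc⟩ := hnpc_exists_isComplement' (h.hnpc_of_not_comm P hP) P
  rcases IsSimpleGroup.eq_bot_or_eq_top_of_normal N hN with rfl | rfl
  · have := isComplement'_bot_left.mp hc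
    apply not_isSolvable_of_simple hna
    have hp' : IsPGroup p G := by
      have h1 := P.isPGroup'
      rw [this] at h1
      exact h1.of_equiv topEquiv
    exact isSolvable_of_isPGroup hp'
  · have := isComplement'_top_left.mp hc
    apply hP
    rw [isMulCommutative_iff']
    intro a ha b hb
    rw [this, mem_bot] at ha hb
    rw [ha, hb]

theorem isMulCommutative_of_isNilpotent_of_sylow [Finite G] [Group.IsNilpotent G]
    (h : ∀ (p : ℕ) [Fact p.Prime] (P : Sylow p G), IsMulCommutative P) (a b : G) :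
    a * b = b * a := by
  have : a ∈ center G := by
    refine mem_of_forall_primePow_mem fun y _ p k hp hk => mem_center_iff.mpr fun g => ?_
    have : g ∈ centralizer ({y} : Set G) := by
      refine mem_of_forall_primePow_mem fun w _ r j hr hj => mem_centralizer_singleton_iff.mpr ?_
      by_cases hrp : r = p
      · subst hrp
        haveI := Fact.mk hr
        obtain ⟨P, hP⟩ := exists_sylow_mem_of_orderOf hk
        obtain ⟨P', hP'⟩ := exists_sylow_mem_of_orderOf hj
        haveI := Sylow.unique_of_normal P inferInstance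
        rw [Subsingleton.elim P' P] at hP'
        exact isMulCommutative_iff'.mp (h r P) w hP' y hP
      · exact (commute_of_coprime_of_isNilpotent
          (by rw [hk, hj]; exact Nat.Coprime.pow _ _ ((Nat.coprime_primes hr hp).mpr hrp))).eq
    exact mem_centralizer_singleton_iff.mp this
  exact (mem_center_iff.mp this b).symm

theorem sylow_comm_subgroup [Finite G]
    (h : ∀ (p : ℕ) [Fact p.Prime] (P : Sylow p G), IsMulCommutative P) (H : Subgroup G)
    (p : ℕ) [Fact p.Prime] (P : Sylow p H) : IsMulCommutative P := by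
  obtain ⟨P', hP'⟩ := (P.isPGroup'.map H.subtype).exists_le_sylow
  rw [isMulCommutative_iff']
  intro a ha b hb
  exact Subtype.ext (isMulCommutative_iff'.mp (h p P') _ (hP' (mem_map_of_mem _ ha)) _
    (hP' (mem_map_of_mem _ hb)))

/-- A non-abelian group with abelian Sylow subgroups and self-normalizing non-abelian subgroups
has a cyclic Sylow `p`-subgroup when `p` divides the order of its centre. -/
theorem SN.exists_cyclic_sylow [Finite G] (h : SN G) (hna : ¬ IsMulCommutative G)
    (hs : ∀ (p : ℕ) [Fact p.Prime] (P : Sylow p G), IsMulCommutative P) {p : ℕ}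
    [hp : Fact p.Prime] {x : G} (hx : orderOf x = p) (hz : x ∈ center G) :
    ∃ P : Sylow p G, x ∈ (P : Subgroup G) ∧ IsCyclic P := by
  have hx1 : x ≠ 1 := by rintro rfl; exact hp.out.one_lt.ne (by simpa using hx)
  have hxP : ∀ P : Sylow p G, x ∈ (P : Subgroup G) := fun P => by
    haveI : (zpowers x).Normal := ⟨fun a ha g => by
      have := mem_center_iff.mp (zpowers_le.mpr hz ha) g
      rw [this]; simpa using ha⟩
    exact pCore_le_sylow P (le_pCore (isPGroup_zpowers_iff.mpr ⟨1, by simpa using hx⟩)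
      (mem_zpowers x))
  have hsup : ∀ y : G, (∀ c ∈ commutator G, y * c = c * y) ∨ commutator G ⊔ zpowers y = ⊤ := by
    intro y
    by_cases hc : IsMulCommutative (commutator G ⊔ zpowers y : Subgroup G)
    · exact Or.inl fun c hc' => isMulCommutative_iff'.mp hc y
        (mem_sup_right (mem_zpowers y)) c (mem_sup_left hc')
    · right
      haveI : (commutator G ⊔ zpowers y).Normal :=
        Subgroup.Normal.of_commutator_le G le_sup_left
      rw [← h _ hc, normalizer_eq_top]
  have hxc : x ∉ commutator G := fun hc => by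
    obtain ⟨P⟩ : Nonempty (Sylow p G) := inferInstance
    exact hx1 (eq_one_of_mem_commutator_of_abelian_sylow P (hs p P) (hxP P)
      (fun n _ => mem_center_iff.mp hz n) hc)
  have hcc : ∀ a ∈ commutator G, ∀ b ∈ commutator G, a * b = b * a := by
    intro a ha
    refine (hsup a).resolve_right fun e => hxc ?_
    rw [sup_eq_left.mpr (zpowers_le.mpr ha)] at e
    rw [e]; trivial
  have hcomm : ∀ y : G, commutator G ⊔ zpowers y = ⊤ → ∀ c ∈ commutator G, y * c = c * y →
      c ∈ center G := by
    intro y e c hc hy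
    rw [mem_center_iff]
    intro g
    have : commutator G ⊔ zpowers y ≤ centralizer ({c} : Set G) :=
      sup_le (fun a ha => mem_centralizer_singleton_iff.mpr (hcc a ha c hc))
        (zpowers_le.mpr (mem_centralizer_singleton_iff.mpr hy))
    exact mem_centralizer_singleton_iff.mp (this (e ▸ mem_top g))
  have hnil : ¬ commutator G ≤ center G := by
    intro hle
    have : Group.IsNilpotent G := by
      have h1 : Group.IsNilpotent (⊤ : Subgroup G) := by
        apply isNilpotent_of_commutator_commutator_eq_bot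
        rw [commutator_eq_bot_iff_le_centralizer]
        intro c hc
        exact mem_centralizer_iff.mpr fun g _ => mem_center_iff.mp (hle hc) g
      exact isNilpotent_of_injective (topEquiv (G := G)).symm.toMonoidHom topEquiv.symm.injective
    exact hna ⟨⟨isMulCommutative_of_isNilpotent_of_sylow hs⟩⟩
  obtain ⟨y, hy⟩ : ∃ y : G, commutator G ⊔ zpowers y = ⊤ := by
    by_contra hc
    push Not at hc
    exact hnil fun c hc' => mem_center_iff.mpr fun g => (hsup g).resolve_right (hc g) c hc'
  obtain ⟨u, hu, v, hv, e, -, ⟨j, hj⟩, hvp⟩ := exists_p_part hp.out y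
  have hv' : ∀ c ∈ commutator G, v * c = c * v := by
    refine (hsup v).resolve_right fun e' => hxc ?_
    have : x ∈ commutator G ⊔ zpowers v := e' ▸ mem_top x
    apply mem_of_coprime_index
    have h1 : (commutator G).index ∣ orderOf v := by
      rw [← relIndex_top_right, ← e', relIndex_sup_left, ← Nat.card_zpowers]
      exact relIndex_dvd_card _ _
    rw [hx]
    exact (Nat.Coprime.coprime_dvd_left h1 hvp).symm
  have hu' : commutator G ⊔ zpowers u = ⊤ := by
    refine (hsup u).resolve_left fun h' => hnil fun c hc => hcomm y hy c hc ?_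
    rw [e, mul_assoc, hv' c hc, ← mul_assoc, h' c hc, mul_assoc]
  obtain ⟨P, hP⟩ := exists_sylow_mem_of_orderOf hj
  refine ⟨P, hxP P, ?_⟩
  have : (P : Subgroup G) = zpowers u := by
    refine le_antisymm (fun w hw => ?_) (zpowers_le.mpr hP)
    have h1 : w ∈ commutator G ⊔ zpowers u := hu' ▸ mem_top w
    obtain ⟨c, hc, s, hs', rfl⟩ := mem_sup_of_normal_left.mp h1
    have hcP : c ∈ (P : Subgroup G) := by
      have := mul_mem hw (inv_mem (zpowers_le.mpr hP hs'))
      simpa using this
    have hcz := hcomm u hu' c hc (isMulCommutative_iff'.mp (hs p P) u hP c hcP)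
    rw [eq_one_of_mem_commutator_of_abelian_sylow P (hs p P) hcP
      (fun n _ => mem_center_iff.mp hcz n) hc, one_mul]
    exact hs'
  change IsCyclic (P : Subgroup G)
  rw [this]; infer_instance

theorem SN.ca [Finite G] [IsSimpleGroup G] (hna : ¬ IsMulCommutative G) (h : SN G)
    (x y w : G) (hx : x ≠ 1) (hy : x * y = y * x) (hw : x * w = w * x) : y * w = w * y := by
  have hs : ∀ (p : ℕ) [Fact p.Prime] (P : Sylow p G), IsMulCommutative P :=
    fun p _ P => h.sylow_comm hna P
  obtain ⟨p, hp, hd⟩ := Nat.exists_prime_and_dvd (fun e => hx (orderOf_eq_one_iff.mp e))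
  haveI := Fact.mk hp
  have hz : orderOf (x ^ (orderOf x / p)) = p := orderOf_pow_orderOf_div (orderOf_pos x).ne' hd
  set z := x ^ (orderOf x / p)
  have hz1 : z ≠ 1 := by intro e; rw [e] at hz; exact hp.one_lt.ne (by simpa using hz)
  set C := centralizer ({z} : Set G)
  suffices hC : IsMulCommutative C from isMulCommutative_iff'.mp hC
    y (mem_centralizer_singleton_iff.mpr (Commute.pow_left hy _).eq.symm)
    w (mem_centralizer_singleton_iff.mpr (Commute.pow_left hw _).eq.symm)
  by_contra hC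
  have hzC : z ∈ C := mem_centralizer_singleton_iff.mpr rfl
  obtain ⟨P, hzP, hP⟩ := (h.of_injective C.subtype C.subtype_injective).exists_cyclic_sylow hC
    (sylow_comm_subgroup hs C) (p := p) (x := ⟨z, hzC⟩) (by rw [orderOf_mk, hz])
    (mem_center_iff.mpr fun g => Subtype.ext (mem_centralizer_singleton_iff.mp g.2))
  have hS := IsSylowIn.of_sylow_subgroup P
  obtain ⟨P', hP'⟩ := hS.isPGroup.exists_le_sylow
  have hzP' : z ∈ (P' : Subgroup G) := hP' ⟨_, hzP, rfl⟩
  have e := hS.eq_of_le P'.isPGroup' hP' fun a ha => mem_centralizer_singleton_iff.mpr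
    (isMulCommutative_iff'.mp (hs p P') a ha z hzP')
  haveI : IsCyclic (P' : Subgroup G) := by
    rw [e]
    exact isCyclic_of_surjective _ (equivMapOfInjective _ _ C.subtype_injective).surjective
  refine hz1 (eq_one_of_mem_commutator_of_abelian_sylow P' (hs p P') hzP' (fun n hn => ?_)
    (by rw [commutator_eq_top_of_simple hna]; trivial))
  have h1 : n⁻¹ * z * n ∈ zpowers z := mem_zpowers_of_isCyclic hzP'
    (conj_mem_of_mem_normalizer' hn hzP') (by
      rw [← H5.orderOf_conj'' n z]; exact pow_orderOf_eq_one _)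
  have h2 : n ∈ normalizer (C : Set G) := by
    refine mem_normalizer_of_conj_mem fun c hc => mem_centralizer_singleton_iff.mpr ?_
    have h3 : c * (n⁻¹ * z * n) = (n⁻¹ * z * n) * c := by
      obtain ⟨i, hi⟩ := mem_zpowers_iff.mp h1
      rw [← hi]
      exact (Commute.zpow_right (mem_centralizer_singleton_iff.mp hc) i).eq
    calc n * c * n⁻¹ * z = n * (c * (n⁻¹ * z * n)) * n⁻¹ := by group
      _ = _ := by rw [h3]; group
  rw [h C hC] at h2
  exact mem_centralizer_singleton_iff.mp h2

end CfsgLib.BSW
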